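import Cfsg.Agent.Lib.Fusion.IndexExtra.General
import Cfsg.Agent.Lib.PGroup.Class2
import Cfsg.Agent.Lib.PGroup.IndexP

/-!
# A `p`-group with an extraspecial subgroup of index `p` and centre of order `p`
-/

set_option autoImplicit false

namespace CfsgLib.IndexExtra

open Subgroup
open scoped commutatorElement

variable {Ω : Type*} [Group Ω]

theorem conj_eq_comm_mul (a b : Ω) : a * b * a⁻¹ = ⁅a, b⁆ * b := by
  rw [commutatorElement_def]; group

theorem comm_mul_left_id (a b c : Ω) : ⁅a * b, c⁆ = a * ⁅b, c⁆ * a⁻¹ * ⁅a, c⁆ := by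
  simp [commutatorElement_def, mul_assoc]

theorem comm_mul_right_id (a b c : Ω) : ⁅a, b * c⁆ = ⁅a, b⁆ * (b * ⁅a, c⁆ * b⁻¹) := by
  simp [commutatorElement_def, mul_assoc]

theorem conj_comm (g a b : Ω) : g * ⁅a, b⁆ * g⁻¹ = ⁅g * a * g⁻¹, g * b * g⁻¹⁆ := by
  simp [commutatorElement_def, mul_assoc]

/-- `z` spans the centre of `S` and of the extraspecial subgroup `Q` of index `p`. -/
structure Amb (p : ℕ) (S Q : Subgroup Ω) (z : Ω) : Prop where
  isP : IsPGroup p S
  odd : Odd p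
  le : Q ≤ S
  card : Nat.card S = p * Nat.card Q
  big : p ^ 6 ≤ Nat.card S
  zQ : z ∈ Q
  ord : orderOf z = p
  comm : ∀ a ∈ Q, ∀ b ∈ Q, ⁅a, b⁆ ∈ zpowers z
  pw : ∀ a ∈ Q, a ^ p ∈ zpowers z
  cen : ∀ a ∈ Q, (∀ b ∈ Q, a * b = b * a) → a ∈ zpowers z
  zS : ∀ s ∈ S, s * z = z * s
  centS : ∀ a ∈ S, (∀ s ∈ S, a * s = s * a) → a ∈ zpowers z
  norm : S ≤ normalizer (Q : Set Ω)
  abel : ∀ A ≤ Q, (∀ a ∈ A, ∀ b ∈ A, a * b = b * a) → Nat.card A * Nat.card A ≤ p * Nat.card Q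

variable {S Q : Subgroup Ω} [Finite S] {p : ℕ} [hp : Fact p.Prime] {z : Ω}

namespace Amb

variable (h : Amb p S Q z)

include h

omit [Finite S] hp in
theorem zmem {w : Ω} (hw : w ∈ zpowers z) : w ∈ Q := zpowers_le.mpr h.zQ hw

omit [Finite S] hp in
theorem fix {s w : Ω} (hs : s ∈ S) (hw : w ∈ zpowers z) : s * w = w * s := by
  obtain ⟨i, rfl⟩ := hw
  exact ((show Commute s z from h.zS s hs).zpow_right i).eq

omit [Finite S] hp in
theorem conj_fix {s w : Ω} (hs : s ∈ S) (hw : w ∈ zpowers z) : s * w * s⁻¹ = w := by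
  rw [h.fix hs hw, mul_inv_cancel_right]

omit [Finite S] in
theorem zne : z ≠ 1 := fun e => hp.out.ne_one (by rw [← h.ord, e, orderOf_one])

omit [Finite S] hp in
theorem zpow_p : z ^ p = 1 := by rw [← h.ord]; exact pow_orderOf_eq_one z

omit [Finite S] hp in
theorem card_Z : Nat.card (zpowers z) = p := by rw [Nat.card_zpowers, h.ord]

omit [Finite S] in
theorem pow_of_mem {w : Ω} (hw : w ∈ zpowers z) : w ^ p = 1 := by
  obtain ⟨i, rfl⟩ := hw
  show (z ^ i) ^ p = 1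
  rw [← zpow_natCast, ← zpow_mul, mul_comm, zpow_mul, zpow_natCast, h.zpow_p, one_zpow]

omit [Finite S] in
/-- A nontrivial element of `Z` spans it. -/
theorem gen {w : Ω} (hw : w ∈ zpowers z) (h1 : w ≠ 1) : zpowers w = zpowers z := by
  have : Finite (zpowers z) := Nat.finite_of_card_ne_zero (by rw [h.card_Z]; exact hp.out.ne_zero)
  refine Subgroup.eq_of_le_of_card_ge (zpowers_le.mpr hw) ?_
  rw [h.card_Z, Nat.card_zpowers, orderOf_eq_prime (h.pow_of_mem hw) h1]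

omit [Finite S] hp in
theorem comm_mul_left {a b c : Ω} (ha : a ∈ S) (hbc : ⁅b, c⁆ ∈ zpowers z) :
    ⁅a * b, c⁆ = ⁅b, c⁆ * ⁅a, c⁆ := by
  rw [comm_mul_left_id, h.conj_fix ha hbc]

omit [Finite S] hp in
theorem comm_mul_right {a b c : Ω} (hb : b ∈ S) (hac : ⁅a, c⁆ ∈ zpowers z) :
    ⁅a, b * c⁆ = ⁅a, b⁆ * ⁅a, c⁆ := by
  rw [comm_mul_right_id, h.conj_fix hb hac]

omit [Finite S] hp in
theorem comm_symm {a b : Ω} (hab : ⁅a, b⁆ ∈ zpowers z) : ⁅b, a⁆ ∈ zpowers z := by
  rw [← commutatorElement_inv]; exact inv_mem hab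

omit [Finite S] hp in
theorem conj_step {a b : Ω} (ha : a ∈ Q) (hb : b ∈ Q) : ∃ w ∈ zpowers z, a * b * a⁻¹ = w * b :=
  ⟨⁅a, b⁆, h.comm a ha b hb, conj_eq_comm_mul a b⟩

/-- The power map of `Q` is a homomorphism. -/
theorem mul_pow {a b : Ω} (ha : a ∈ Q) (hb : b ∈ Q) : (a * b) ^ p = a ^ p * b ^ p := by
  have hc : ∀ u v : Q, ⁅u, v⁆ ∈ Subgroup.center Q := fun u v => mem_center_iff.mpr fun g =>
    Subtype.ext (h.fix (h.le g.2) (h.comm u u.2 v v.2))
  have h1 := CfsgLib.PGroup.mul_pow_odd_of_central h.odd (hc ⟨b, hb⟩ ⟨a, ha⟩)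
    (Subtype.ext (h.pow_of_mem (h.comm b hb a ha)))
  exact congrArg Subtype.val h1

omit [Finite S] hp in
theorem conj_pow {s a : Ω} (hs : s ∈ S) (ha : a ∈ Q) : (s * a * s⁻¹) ^ p = a ^ p := by
  rw [_root_.conj_pow, h.conj_fix hs (h.pw a ha)]

theorem card_S : ∃ k, Nat.card Q = p ^ k ∧ Nat.card S = p ^ (k + 1) ∧ 5 ≤ k := by
  obtain ⟨k, hk⟩ := exists_card h.isP h.le
  have hS : Nat.card S = p ^ (k + 1) := by rw [h.card, hk, pow_succ']
  refine ⟨k, hk, hS, ?_⟩
  have := h.big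
  rw [hS, Nat.pow_le_pow_iff_right hp.out.one_lt] at this
  omega

theorem Q_ne : Q ≠ S := fun e => by
  have hc := h.card
  rw [e] at hc
  have : 0 < Nat.card S := Nat.card_pos
  have := hp.out.two_le
  nlinarith

theorem sup_out {s : Ω} (hs : s ∈ S) (hsQ : s ∉ Q) : Q ⊔ zpowers s = S :=
  sup_eq_of_card h.isP h.le le_rfl hs hsQ h.card.le

/-- A subgroup centralising `K` is small. -/
theorem card_centralizer_mul_le : ∀ (C K : Subgroup Ω), C ≤ Q → K ≤ Q →
    (∀ c ∈ C, ∀ k ∈ K, c * k = k * c) → Nat.card C * Nat.card K ≤ p * Nat.card Q := by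
  suffices H : ∀ (n : ℕ) (C K : Subgroup Ω), C ≤ Q → K ≤ Q → (∀ c ∈ C, ∀ k ∈ K, c * k = k * c) →
      Nat.card Q - Nat.card C < n → Nat.card C * Nat.card K ≤ p * Nat.card Q from
    fun C K h1 h2 h3 => H _ C K h1 h2 h3 (Nat.lt_succ_self _)
  intro n
  induction n with
  | zero => intro C K _ _ _ h0; omega
  | succ n ih =>
    intro C K hC hK hCK hn
    have hQf := finite_sub h.le
    have hCf := finite_sub (hC.trans h.le)
    have hKf := finite_sub (hK.trans h.le)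
    by_cases hCQ : C = Q
    · subst hCQ
      have hKZ : K ≤ zpowers z := fun k hk => h.cen k (hK hk) fun b hb => (hCK b hb k hk).symm
      have : Finite (zpowers z) := Nat.finite_of_card_ne_zero (by rw [h.card_Z]; exact hp.out.ne_zero)
      rw [mul_comm p]
      exact Nat.mul_le_mul_left _ ((Subgroup.card_le_of_le hKZ).trans h.card_Z.le)
    obtain ⟨q, hq, hqC⟩ := SetLike.exists_of_lt (lt_of_le_of_ne hC hCQ)
    let f : K →* zpowers z :=
      { toFun := fun k => ⟨⁅(k : Ω), q⁆, h.comm _ (hK k.2) _ hq⟩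
        map_one' := by ext; simp [commutatorElement_def]
        map_mul' := fun a b => by
          ext
          show ⁅(a : Ω) * b, q⁆ = ⁅(a : Ω), q⁆ * ⁅(b : Ω), q⁆
          rw [h.comm_mul_left (h.le (hK a.2)) (h.comm _ (hK b.2) _ hq)]
          exact h.fix (h.le (h.zmem (h.comm _ (hK b.2) _ hq))) (h.comm _ (hK a.2) _ hq) }
    have : Finite (zpowers z) := Nat.finite_of_card_ne_zero (by rw [h.card_Z]; exact hp.out.ne_zero)
    let K' : Subgroup Ω := f.ker.map K.subtype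
    have hK'K : K' ≤ K := map_subtype_le _
    have hkk : Nat.card K ≤ p * Nat.card K' := by
      rw [Subgroup.card_map_of_injective K.subtype_injective,
        Subgroup.card_eq_card_quotient_mul_card_subgroup f.ker,
        Nat.card_congr (QuotientGroup.quotientKerEquivRange f).toEquiv]
      exact Nat.mul_le_mul_right _ ((Subgroup.card_le_card_group f.range).trans_eq h.card_Z)
    have hqK : ∀ k ∈ K', q * k = k * q := by
      rintro _ ⟨k, hk, rfl⟩
      exact (commutatorElement_eq_one_iff_mul_comm.mp (congrArg Subtype.val (MonoidHom.mem_ker.mp hk))).symm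
    let C' := C ⊔ zpowers q
    have hC'Q : C' ≤ Q := sup_le hC (zpowers_le.mpr hq)
    have hC'K : ∀ c ∈ C', ∀ k ∈ K', c * k = k * c := by
      intro c hc k hk
      have hle : C' ≤ centralizer (K' : Set Ω) := sup_le
        (fun d hd => mem_centralizer_iff.mpr fun m hm => (hCK d hd m (hK'K hm)).symm)
        (zpowers_le.mpr (mem_centralizer_iff.mpr fun m hm => (hqK m hm).symm))
      exact (mem_centralizer_iff.mp (hle hc) k hk).symm
    have hgrow : p * Nat.card C ≤ Nat.card C' := mul_card_le h.isP le_sup_left (hC'Q.trans h.le)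
      fun e => hqC (e ▸ mem_sup_right (mem_zpowers q))
    have hC'f := finite_sub (hC'Q.trans h.le)
    have hpos : 0 < Nat.card C := Nat.card_pos
    have hle' : Nat.card C' ≤ Nat.card Q := Subgroup.card_le_of_le hC'Q
    have hlt : Nat.card C < Nat.card C' :=
      lt_of_lt_of_le (lt_mul_of_one_lt_left hpos hp.out.one_lt) hgrow
    have := ih C' K' hC'Q (hK'K.trans hK) hC'K (by omega)
    calc Nat.card C * Nat.card K ≤ Nat.card C * (p * Nat.card K') := Nat.mul_le_mul_left _ hkk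
      _ = p * Nat.card C * Nat.card K' := by ring
      _ ≤ Nat.card C' * Nat.card K' := Nat.mul_le_mul_right _ hgrow
      _ ≤ _ := this

end Amb

/-- The data from an extraspecial subgroup of index `p`, given that `Z(S) = Z(Q)`. -/
theorem Amb.of_extraspecial (hS : IsPGroup p S) (hodd : Odd p) (hQS : Q ≤ S)
    (hQ : Cfsg.IsExtraspecial p Q) (hQi : (Q.subgroupOf S).index = p) (h6 : p ^ 6 ≤ Nat.card S)
    (hc : S ⊓ Subgroup.centralizer (S : Set Ω) = Q ⊓ Subgroup.centralizer (Q : Set Ω)) :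
    ∃ z, Amb p S Q z := by
  have := finite_sub hQS
  obtain ⟨z, hz, hz1⟩ : ∃ z ∈ Subgroup.center Q, z ≠ 1 := by
    refine (Subgroup.bot_or_exists_ne_one _).resolve_left fun e => ?_
    have hC := hQ.2
    rw [e, Subgroup.card_bot] at hC
    exact hp.out.ne_one hC.symm
  have hg := CfsgLib.PGroup.extraspecial_zpowers_eq_center hQ hz hz1
  have hcen : ∀ w : Q, w ∈ Subgroup.center Q → (w : Ω) ∈ zpowers (z : Ω) := fun w hw => by
    obtain ⟨i, hi⟩ := hg.ge hw
    exact ⟨i, by simpa using congrArg Subtype.val hi⟩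
  have hzc : (z : Ω) ∈ S ⊓ Subgroup.centralizer (S : Set Ω) :=
    hc ▸ ⟨z.2, mem_centralizer_iff.mpr fun q hq => congrArg Subtype.val (mem_center_iff.mp hz ⟨q, hq⟩)⟩
  have hnorm := CfsgLib.PGroup.normal_of_index_eq hS hQi
  refine ⟨z, hS, hodd, hQS, ?_, h6, z.2, ?_, fun a ha b hb => ?_, fun a ha => ?_, fun a ha hab => ?_,
    fun s hs => (mem_centralizer_iff.mp hzc.2 s hs), fun a ha hab => ?_,
    fun s hs => CfsgLib.Fusion.mem_normalizer_of_forall fun q hq => ?_, fun A hA hcomm => ?_⟩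
  · rw [← Nat.card_congr (Subgroup.subgroupOfEquivOfLe hQS).toEquiv, ← (Q.subgroupOf S).card_mul_index, hQi,
      mul_comm]
  · rw [Subgroup.orderOf_coe, ← Nat.card_zpowers, hg, hQ.2]
  · simpa [commutatorElement_def] using hcen _ (CfsgLib.PGroup.extraspecial_comm_mem_center hQ ⟨a, ha⟩ ⟨b, hb⟩)
  · simpa using hcen _ (CfsgLib.PGroup.extraspecial_pow_mem_center hQ ⟨a, ha⟩)
  · exact hcen ⟨a, ha⟩ (mem_center_iff.mpr fun g => Subtype.ext (hab g g.2).symm)
  · obtain ⟨haQ, haC⟩ : a ∈ Q ⊓ Subgroup.centralizer (Q : Set Ω) :=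
      hc ▸ ⟨ha, mem_centralizer_iff.mpr fun s hs => (hab s hs).symm⟩
    exact hcen ⟨a, haQ⟩ (mem_center_iff.mpr fun g => Subtype.ext (mem_centralizer_iff.mp haC g g.2))
  · exact hnorm.conj_mem ⟨q, hQS hq⟩ hq ⟨s, hs⟩
  · have e : Nat.card (A.subgroupOf Q) = Nat.card A :=
      Nat.card_congr (Subgroup.subgroupOfEquivOfLe hA).toEquiv
    have h1 := CfsgLib.PGroup.extraspecial_abelian_card hQ (A.subgroupOf Q)
      ⟨⟨fun a b => Subtype.ext (Subtype.ext (hcomm _ a.2 _ b.2))⟩⟩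
    rwa [e] at h1

end CfsgLib.IndexExtra
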