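import Cfsg.Agent.Lib.PGroup.ExtraspecialIso
import Cfsg.Agent.Lib.Fusion.Basic

/-!
# Frames: six generators with relations that bound the order by `p ^ 6` and so determine the group
-/

set_option autoImplicit false

namespace CfsgLib.IndexExtra

open Subgroup
open scoped commutatorElement

variable {G H : Type*} [Group G] [Group H]

/-- Each member has order dividing `p` and conjugates the earlier ones into the group they generate. -/
structure Tower (p : ℕ) (w : Fin 6 → G) : Prop where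
  pow : ∀ k, w k ^ p = 1
  conj : ∀ k l, l < k → w k * w l * (w k)⁻¹ ∈ closure (w '' Set.Iio k)

theorem Tower.card_le [Finite G] {p : ℕ} (hp : 0 < p) {w : Fin 6 → G} (h : Tower p w) :
    Nat.card (closure (Set.range w)) ≤ p ^ 6 := by
  let K : ℕ → Subgroup G := fun m => closure (w '' {k | (k : ℕ) < m})
  suffices hK : ∀ m ≤ 6, Nat.card (K m) ≤ p ^ m by
    refine le_trans (le_of_eq ?_) (hK 6 le_rfl)
    rw [show Set.range w = w '' {k : Fin 6 | (k : ℕ) < 6} by
      rw [← Set.image_univ]; congr 1; ext k; simp [k.2]]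
  intro m
  induction m with
  | zero =>
    intro _
    have : K 0 = ⊥ := by simp [K]
    rw [this, Subgroup.card_bot, pow_zero]
  | succ m ih =>
    intro hm
    let k : Fin 6 := ⟨m, by omega⟩
    have hset : {l : Fin 6 | (l : ℕ) < m + 1} = {l : Fin 6 | (l : ℕ) < m} ∪ {k} := by
      ext l; simp [k, Fin.ext_iff]; omega
    have hsucc : K (m + 1) = zpowers (w k) ⊔ K m := by
      simp only [K]
      rw [hset, Set.image_union, Subgroup.closure_union, Set.image_singleton, zpowers_eq_closure, sup_comm]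
    have hio : w '' Set.Iio k = w '' {l : Fin 6 | (l : ℕ) < m} := rfl
    have hnorm : w k ∈ normalizer (K m : Set G) := by
      refine mem_normalizer_iff.mpr fun y => ?_
      have hle : K m ≤ (K m).comap (MulAut.conj (w k)).toMonoidHom := by
        refine (closure_le _).mpr ?_
        rintro _ ⟨l, hl, rfl⟩
        have h1 := h.conj k l hl
        rw [hio] at h1
        exact h1
      have heq : (K m).map (MulAut.conj (w k)).toMonoidHom = K m :=
        CfsgLib.Fusion.eq_of_le_of_card_le (map_le_iff_le_comap.mpr hle)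
          (Subgroup.card_map_of_injective (MulAut.conj (w k)).injective).ge
      constructor
      · exact fun hy => hle hy
      · intro hy
        rw [← heq] at hy
        obtain ⟨u, hu, hue⟩ := hy
        exact (MulAut.conj (w k)).injective hue ▸ hu
    rw [hsucc, pow_succ']
    exact (CfsgLib.ExtraIso.card_sup_zpowers_le (K m) (w k) hp hnorm
      (by rw [h.pow]; exact one_mem _)).trans (Nat.mul_le_mul_left _ (ih (by omega)))

/-- Two groups of order `p ^ 6` generated by families satisfying a relation that bounds the order are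
isomorphic, if pairs of such families satisfy the relation too. -/
theorem nonempty_equiv [Finite G] [Finite H] {p : ℕ} (hp : 0 < p) {a : Fin 6 → G} {b : Fin 6 → H}
    (hab : Tower p fun k => ((a k, b k) : G × H)) (hG : Nat.card G = p ^ 6) (hH : Nat.card H = p ^ 6)
    (ha : closure (Set.range a) = ⊤) (hb : closure (Set.range b) = ⊤) : Nonempty (G ≃* H) := by
  let Γ := closure (Set.range fun k => ((a k, b k) : G × H))
  have h1 : Γ.map (MonoidHom.fst G H) = ⊤ := by
    rw [MonoidHom.map_closure, ← Set.range_comp]; exact ha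
  have h2 : Γ.map (MonoidHom.snd G H) = ⊤ := by
    rw [MonoidHom.map_closure, ← Set.range_comp]; exact hb
  have hge1 : Nat.card G ≤ Nat.card Γ := Nat.card_le_card_of_surjective (fun x : Γ => (x : G × H).1)
    fun y => by
      obtain ⟨x, hx, rfl⟩ := h1.ge (mem_top y)
      exact ⟨⟨x, hx⟩, rfl⟩
  have hge2 : Nat.card H ≤ Nat.card Γ := Nat.card_le_card_of_surjective (fun x : Γ => (x : G × H).2)
    fun y => by
      obtain ⟨x, hx, rfl⟩ := h2.ge (mem_top y)
      exact ⟨⟨x, hx⟩, rfl⟩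
  have hle := hab.card_le hp
  refine CfsgLib.ExtraIso.GraphIso.toMulEquiv (z₁ := 1) (z₂ := 1) ⟨Γ, h1, h2, ?_, ?_, one_mem _⟩
  · rw [Subgroup.card_top]
    exact le_antisymm (hle.trans hG.ge) hge1
  · rw [Subgroup.card_top]
    exact le_antisymm (hle.trans hH.ge) hge2

/-- The relations of the group built on a binary form `u₁² - d u₂²`, for `w = (z, i, j, x, n, m)`. -/
structure Lag (p : ℕ) (d : ℤ) (w : Fin 6 → G) : Prop where
  pow : ∀ k, w k ^ p = 1
  zi : w 1 * w 0 * (w 1)⁻¹ = w 0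
  zj : w 2 * w 0 * (w 2)⁻¹ = w 0
  ij : w 2 * w 1 * (w 2)⁻¹ = w 1
  zx : w 3 * w 0 * (w 3)⁻¹ = w 0
  ix : w 3 * w 1 * (w 3)⁻¹ = w 1
  jx : w 3 * w 2 * (w 3)⁻¹ = w 2
  nz : w 4 * w 0 * (w 4)⁻¹ = w 0
  ni : w 4 * w 1 * (w 4)⁻¹ = w 0 * w 1
  nj : w 4 * w 2 * (w 4)⁻¹ = w 2
  nx : w 4 * w 3 * (w 4)⁻¹ = w 1 * w 3
  mz : w 5 * w 0 * (w 5)⁻¹ = w 0
  mi : w 5 * w 1 * (w 5)⁻¹ = w 1
  mj : w 5 * w 2 * (w 5)⁻¹ = w 0 ^ d * w 2
  mx : w 5 * w 3 * (w 5)⁻¹ = w 2 * w 3
  mn : w 5 * w 4 * (w 5)⁻¹ = w 4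

/-- The relations of the group with a single block, for `w = (z, r, c, y, n, x)`. -/
structure Chain (p : ℕ) (w : Fin 6 → G) : Prop where
  pow : ∀ k, w k ^ p = 1
  zr : w 1 * w 0 * (w 1)⁻¹ = w 0
  zc : w 2 * w 0 * (w 2)⁻¹ = w 0
  rc : w 2 * w 1 * (w 2)⁻¹ = w 1
  zy : w 3 * w 0 * (w 3)⁻¹ = w 0
  ry : w 3 * w 1 * (w 3)⁻¹ = w 1
  cy : w 3 * w 2 * (w 3)⁻¹ = (w 0)⁻¹ * w 2
  nz : w 4 * w 0 * (w 4)⁻¹ = w 0
  nr : w 4 * w 1 * (w 4)⁻¹ = w 0 * w 1
  nc : w 4 * w 2 * (w 4)⁻¹ = w 0 * w 2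
  ny : w 4 * w 3 * (w 4)⁻¹ = w 3
  xz : w 5 * w 0 * (w 5)⁻¹ = w 0
  xr : w 5 * w 1 * (w 5)⁻¹ = w 1
  xc : w 5 * w 2 * (w 5)⁻¹ = w 2 * w 1
  xy : w 5 * w 3 * (w 5)⁻¹ = w 3 * w 2
  xn : w 5 * w 4 * (w 5)⁻¹ = w 4 * w 3

theorem Lag.prod {p : ℕ} {d : ℤ} {a : Fin 6 → G} {b : Fin 6 → H} (ha : Lag p d a) (hb : Lag p d b) :
    Lag p d fun k => ((a k, b k) : G × H) := by
  constructor <;> intros <;> refine Prod.ext ?_ ?_
  any_goals simp only [Prod.pow_fst, Prod.pow_snd, Prod.fst_mul, Prod.snd_mul, Prod.fst_inv, Prod.snd_inv,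
    Prod.fst_one, Prod.snd_one]
  all_goals first
    | exact ha.pow _ | exact hb.pow _ | exact ha.zi | exact hb.zi | exact ha.zj | exact hb.zj
    | exact ha.ij | exact hb.ij | exact ha.zx | exact hb.zx | exact ha.ix | exact hb.ix
    | exact ha.jx | exact hb.jx | exact ha.nz | exact hb.nz | exact ha.ni | exact hb.ni
    | exact ha.nj | exact hb.nj | exact ha.nx | exact hb.nx | exact ha.mz | exact hb.mz
    | exact ha.mi | exact hb.mi | exact ha.mj | exact hb.mj | exact ha.mx | exact hb.mx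
    | exact ha.mn | exact hb.mn

theorem Chain.prod {p : ℕ} {a : Fin 6 → G} {b : Fin 6 → H} (ha : Chain p a) (hb : Chain p b) :
    Chain p fun k => ((a k, b k) : G × H) := by
  constructor <;> intros <;> refine Prod.ext ?_ ?_
  any_goals simp only [Prod.pow_fst, Prod.pow_snd, Prod.fst_mul, Prod.snd_mul, Prod.fst_inv, Prod.snd_inv,
    Prod.fst_one, Prod.snd_one]
  all_goals first
    | exact ha.pow _ | exact hb.pow _ | exact ha.zr | exact hb.zr | exact ha.zc | exact hb.zc
    | exact ha.rc | exact hb.rc | exact ha.zy | exact hb.zy | exact ha.ry | exact hb.ry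
    | exact ha.cy | exact hb.cy | exact ha.nz | exact hb.nz | exact ha.nr | exact hb.nr
    | exact ha.nc | exact hb.nc | exact ha.ny | exact hb.ny | exact ha.xz | exact hb.xz
    | exact ha.xr | exact hb.xr | exact ha.xc | exact hb.xc | exact ha.xy | exact hb.xy
    | exact ha.xn | exact hb.xn

theorem Lag.tower {p : ℕ} {d : ℤ} {w : Fin 6 → G} (h : Lag p d w) : Tower p w := by
  refine ⟨h.pow, fun k l hl => ?_⟩
  have m : ∀ i : Fin 6, i < k → w i ∈ closure (w '' Set.Iio k) := fun i hi => subset_closure ⟨i, hi, rfl⟩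
  fin_cases k <;> fin_cases l <;> simp at hl
  all_goals simp only [Fin.zero_eta, Fin.mk_one, Fin.reduceFinMk, h.zi, h.zj, h.ij, h.zx, h.ix, h.jx, h.nz, h.ni,
    h.nj, h.nx, h.mz, h.mi, h.mj, h.mx, h.mn]
  all_goals first
    | exact m _ (by decide)
    | exact mul_mem (m _ (by decide)) (m _ (by decide))
    | exact mul_mem (zpow_mem (m _ (by decide)) _) (m _ (by decide))

theorem Chain.tower {p : ℕ} {w : Fin 6 → G} (h : Chain p w) : Tower p w := by
  refine ⟨h.pow, fun k l hl => ?_⟩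
  have m : ∀ i : Fin 6, i < k → w i ∈ closure (w '' Set.Iio k) := fun i hi => subset_closure ⟨i, hi, rfl⟩
  fin_cases k <;> fin_cases l <;> simp at hl
  all_goals simp only [Fin.zero_eta, Fin.mk_one, Fin.reduceFinMk, h.zr, h.zc, h.rc, h.zy, h.ry, h.cy, h.nz, h.nr,
    h.nc, h.ny, h.xz, h.xr, h.xc, h.xy, h.xn]
  all_goals first
    | exact m _ (by decide)
    | exact mul_mem (m _ (by decide)) (m _ (by decide))
    | exact mul_mem (inv_mem (m _ (by decide))) (m _ (by decide))

/-- The criterion for the Lagrangian type. -/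
theorem nonempty_equiv_of_lag [Finite G] [Finite H] {p : ℕ} (hp : 0 < p) {d : ℤ} {a : Fin 6 → G}
    {b : Fin 6 → H} (ha : Lag p d a) (hb : Lag p d b) (hG : Nat.card G = p ^ 6) (hH : Nat.card H = p ^ 6)
    (ga : closure (Set.range a) = ⊤) (gb : closure (Set.range b) = ⊤) : Nonempty (G ≃* H) :=
  nonempty_equiv hp (ha.prod hb).tower hG hH ga gb

/-- The criterion for the single block type. -/
theorem nonempty_equiv_of_chain [Finite G] [Finite H] {p : ℕ} (hp : 0 < p) {a : Fin 6 → G}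
    {b : Fin 6 → H} (ha : Chain p a) (hb : Chain p b) (hG : Nat.card G = p ^ 6) (hH : Nat.card H = p ^ 6)
    (ga : closure (Set.range a) = ⊤) (gb : closure (Set.range b) = ⊤) : Nonempty (G ≃* H) :=
  nonempty_equiv hp (ha.prod hb).tower hG hH ga gb

end CfsgLib.IndexExtra
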