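import Cfsg.Agent.Lib.PGroup.ExtraspecialIso
import Cfsg.Agent.Lib.PGroup.SoftSubgroup
import Cfsg.Agent.Lib.Fusion.Basic
import Cfsg.Agent.Lib.Fusion.Saturated
import Cfsg.Agent.Lib.Techniques.KInfBasic

/-!
# Elementary lemmas on subgroups of a finite `p`-group given inside an ambient group
-/

set_option autoImplicit false

namespace CfsgLib.IndexExtra

open Subgroup
open scoped commutatorElement

variable {Ω : Type*} [Group Ω] {S : Subgroup Ω} [Finite S] {p : ℕ} [hp : Fact p.Prime]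

omit hp in
theorem finite_sub {K : Subgroup Ω} (hK : K ≤ S) : Finite K := CfsgLib.Fusion.finite_of_le hK

/-- The order of a subgroup of a `p`-group. -/
theorem exists_card (hS : IsPGroup p S) {K : Subgroup Ω} (hK : K ≤ S) : ∃ k, Nat.card K = p ^ k := by
  have := finite_sub hK
  exact (hS.to_le hK).exists_card_eq

/-- A proper subgroup has at most a `p`-th of the order. -/
theorem mul_card_le (hS : IsPGroup p S) {K H : Subgroup Ω} (hK : K ≤ H) (hH : H ≤ S) (hne : K ≠ H) :
    p * Nat.card K ≤ Nat.card H := by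
  obtain ⟨a, ha⟩ := exists_card hS (hK.trans hH)
  obtain ⟨b, hb⟩ := exists_card hS hH
  have := finite_sub hH
  have hlt : Nat.card K < Nat.card H :=
    lt_of_not_ge fun h => hne (CfsgLib.Fusion.eq_of_le_of_card_le hK h)
  rw [ha, hb, Nat.pow_lt_pow_iff_right hp.out.one_lt] at hlt
  rw [ha, hb, ← pow_succ']
  exact Nat.pow_le_pow_right hp.out.pos hlt

/-- A subgroup of index `p` and one element outside it generate. -/
theorem sup_eq_of_card (hS : IsPGroup p S) {K H : Subgroup Ω} {g : Ω} (hK : K ≤ H) (hH : H ≤ S)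
    (hg : g ∈ H) (hgK : g ∉ K) (hc : Nat.card H ≤ p * Nat.card K) : K ⊔ zpowers g = H := by
  have := finite_sub hH
  have hle : K ⊔ zpowers g ≤ H := sup_le hK (zpowers_le.mpr hg)
  refine CfsgLib.Fusion.eq_of_le_of_card_le hle (hc.trans ?_)
  exact mul_card_le hS le_sup_left (hle.trans hH) fun e => hgK (e ▸ mem_sup_right (mem_zpowers g))

theorem card_eq_mul (hS : IsPGroup p S) {K H : Subgroup Ω} (hK : K ≤ H) (hH : H ≤ S) (hne : K ≠ H)
    (hc : Nat.card H ≤ p * Nat.card K) : Nat.card H = p * Nat.card K :=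
  le_antisymm hc (mul_card_le hS hK hH hne)

omit [Finite S] hp in
theorem conj_mem_of_mem_normalizer {K : Subgroup Ω} {g k : Ω} (hg : g ∈ normalizer (K : Set Ω))
    (hk : k ∈ K) : g * k * g⁻¹ ∈ K := (mem_normalizer_iff.mp hg k).mp hk

omit hp in
/-- An element conjugating a set of generators into the subgroup normalises it. -/
theorem mem_normalizer_closure {K : Subgroup Ω} {T : Set Ω} (hT : closure T = K) (hK : K ≤ S) {g : Ω}
    (h : ∀ t ∈ T, g * t * g⁻¹ ∈ K) : g ∈ normalizer (K : Set Ω) := by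
  have := finite_sub hK
  refine CfsgLib.Fusion.mem_normalizer_of_forall fun k hk => ?_
  have hle : K ≤ K.comap (MulAut.conj g).toMonoidHom := by
    conv_lhs => rw [← hT]
    exact (closure_le _).mpr h
  exact hle hk

/-- A normal subgroup properly inside another one has a proper normal extension by a central element. -/
theorem exists_central_step (hS : IsPGroup p S) {N Q : Subgroup Ω} (hNQ : N ≤ Q) (hQS : Q ≤ S) (hne : N ≠ Q)
    (hN : S ≤ normalizer (N : Set Ω)) (hQ : S ≤ normalizer (Q : Set Ω)) :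
    ∃ v ∈ Q, v ∉ N ∧ ∀ s ∈ S, ⁅s, v⁆ ∈ N := by
  have hnN : (N.subgroupOf S).Normal :=
    ⟨fun n hn g => mem_subgroupOf.mpr (conj_mem_of_mem_normalizer (hN g.2) (mem_subgroupOf.mp hn))⟩
  have hnQ : (Q.subgroupOf S).Normal :=
    ⟨fun n hn g => mem_subgroupOf.mpr (conj_mem_of_mem_normalizer (hQ g.2) (mem_subgroupOf.mp hn))⟩
  let π := QuotientGroup.mk' (N.subgroupOf S)
  let M := (Q.subgroupOf S).map π
  have hMn : M.Normal := hnQ.map π (QuotientGroup.mk'_surjective _)
  have hM : M ≠ ⊥ := fun e => by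
    refine hne (le_antisymm hNQ fun q hq => ?_)
    have h1 : π ⟨q, hQS hq⟩ ∈ M := ⟨⟨q, hQS hq⟩, hq, rfl⟩
    rw [e, mem_bot] at h1
    exact (QuotientGroup.eq_one_iff (⟨q, hQS hq⟩ : S)).mp h1
  obtain ⟨y, hyM, hyc, hy1⟩ := CfsgLib.Techniques.KInf.exists_mem_center (hS.to_quotient (N.subgroupOf S)) M hM
  obtain ⟨v, hv, rfl⟩ := hyM
  refine ⟨v, hv, fun h => hy1 ((QuotientGroup.eq_one_iff v).mpr h), fun s hs => ?_⟩
  have h1 : π ⁅(⟨s, hs⟩ : S), v⁆ = 1 := by
    rw [map_commutatorElement, commutatorElement_eq_one_iff_mul_comm]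
    exact mem_center_iff.mp hyc _
  exact (QuotientGroup.eq_one_iff ⁅(⟨s, hs⟩ : S), v⁆).mp h1

end CfsgLib.IndexExtra
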