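import Cfsg.Agent.Lib.Fusion.IndexExtra.Tools

/-!
# Subgroups of index `p` and decompositions along them
-/

set_option autoImplicit false

namespace CfsgLib.IndexExtra

open Subgroup
open scoped commutatorElement

variable {Ω : Type*} [Group Ω] {S Q : Subgroup Ω} [Finite S] {p : ℕ} [hp : Fact p.Prime] {z : Ω}

/-- A subgroup of index `p` in a `p`-group is normalised by it. -/
theorem le_normalizer_of_card (hS : IsPGroup p S) {K H : Subgroup Ω} (hK : K ≤ H) (hH : H ≤ S)
    (hc : Nat.card H = p * Nat.card K) : H ≤ normalizer (K : Set Ω) := by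
  have := finite_sub hH
  have hi : (K.subgroupOf H).index = p := by
    have h1 := (K.subgroupOf H).card_mul_index
    rw [Nat.card_congr (subgroupOfEquivOfLe hK).toEquiv, hc, mul_comm p] at h1
    have := finite_sub (hK.trans hH)
    exact Nat.eq_of_mul_eq_mul_left Nat.card_pos h1
  have hn := CfsgLib.PGroup.normal_of_index_eq (hS.to_le hH) hi
  have := finite_sub (hK.trans hH)
  exact fun g hg => CfsgLib.Fusion.mem_normalizer_of_forall
    fun k hk => hn.conj_mem ⟨k, hK hk⟩ hk ⟨g, hg⟩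

/-- Meeting a subgroup of index `p` costs at most a factor `p`. -/
theorem card_le_mul_inf {A B E : Subgroup Ω} (hA : A ≤ E) (hB : B ≤ E) (hE : E ≤ S)
    (hc : Nat.card E ≤ p * Nat.card A) : Nat.card B ≤ p * Nat.card (A ⊓ B : Subgroup Ω) := by
  have := finite_sub hE
  have := finite_sub (hA.trans hE)
  have := finite_sub (hB.trans hE)
  have h0 : 0 < Nat.card A := Nat.card_pos
  have h1 : A.relIndex E ≤ p := by
    have h2 := (A.subgroupOf E).card_mul_index
    rw [Nat.card_congr (subgroupOfEquivOfLe hA).toEquiv, ← relIndex] at h2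
    exact Nat.le_of_mul_le_mul_left (by rw [h2, mul_comm]; exact hc) h0
  have h3 : A.relIndex B ≤ A.relIndex E := relIndex_le_of_le_right hB fun e => by
    have h2 := (A.subgroupOf E).card_mul_index
    rw [← relIndex, e, mul_zero] at h2
    exact Nat.card_pos.ne h2
  have h4 := ((A ⊓ B).subgroupOf B).card_mul_index
  rw [Nat.card_congr (subgroupOfEquivOfLe (inf_le_right : A ⊓ B ≤ B)).toEquiv, ← relIndex,
    inf_relIndex_right] at h4
  rw [← h4, mul_comm p]
  exact Nat.mul_le_mul_left _ (h3.trans h1)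

omit [Finite S] hp in
/-- Adjoining a normalising element with `p`-th power inside costs at most a factor `p`. -/
theorem card_sup_le (hp0 : 0 < p) {K : Subgroup Ω} [Finite K] {a : Ω} (hn : a ∈ normalizer (K : Set Ω))
    (hpow : a ^ p ∈ K) : Nat.card (K ⊔ zpowers a : Subgroup Ω) ≤ p * Nat.card K := by
  have hN : NeZero p := ⟨hp0.ne'⟩
  let f : Fin p × K → (K ⊔ zpowers a : Subgroup Ω) := fun v =>
    ⟨(v.2 : Ω) * a ^ (v.1 : ℕ), mul_mem (mem_sup_left v.2.2) (mem_sup_right (npow_mem_zpowers a _))⟩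
  refine (Nat.card_le_card_of_surjective f ?_).trans (by rw [Nat.card_prod, Nat.card_fin])
  rintro ⟨y, hy⟩
  obtain ⟨k, hk, i, rfl⟩ := exists_mul_zpow hn hy
  have hp0' : (p : ℤ) ≠ 0 := by exact_mod_cast hp0.ne'
  refine ⟨(⟨(i % p).toNat, ?_⟩, ⟨k * (a ^ p) ^ (i / p), K.mul_mem hk (K.zpow_mem hpow _)⟩), Subtype.ext ?_⟩
  · have := Int.emod_lt_of_pos i (show (0 : ℤ) < p by exact_mod_cast hp0)
    omega
  · show k * (a ^ p) ^ (i / p) * a ^ (i % p).toNat = k * a ^ i
    rw [mul_assoc, ← zpow_natCast a (i % p).toNat, Int.toNat_of_nonneg (Int.emod_nonneg i hp0'),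
      ← zpow_natCast a p, ← zpow_mul, ← zpow_add, Int.mul_ediv_add_emod]

/-- A nontrivial element of prime exponent has a prescribed member of its span as a power. -/
theorem exists_zpow_of_gen {w v : Ω} (hv : v ∈ zpowers z) (h : zpowers w = zpowers z) : ∃ k : ℤ, w ^ k = v :=
  mem_zpowers_iff.mp (h.ge hv)

namespace Amb

variable (h : Amb p S Q z)

include h

omit [Finite S] in
/-- If `n` does not commute with `r`, every element of `Q` is a power of `n` times a centralising element. -/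
theorem exists_decomp {n r : Ω} (hn : n ∈ Q) (hr : r ∈ Q) (hnr : ⁅n, r⁆ ≠ 1) {q : Ω} (hq : q ∈ Q) :
    ∃ k : ℤ, q * n ^ k * r = r * (q * n ^ k) := by
  obtain ⟨k, hk⟩ := exists_zpow_of_gen (inv_mem (h.comm q hq r hr)) (h.gen (h.comm n hn r hr) hnr)
  refine ⟨k, commutatorElement_eq_one_iff_mul_comm.mp ?_⟩
  have e : ⁅n ^ k, r⁆ = ⁅n, r⁆ ^ k := h.comm_zpow_left (h.le hn) (h.le hr) (h.comm n hn r hr) k
  rw [h.comm_mul_left (h.le hq) (h.comm _ (Q.zpow_mem hn k) r hr), e, hk, inv_mul_cancel]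

omit [Finite S] hp in
theorem le_normalizer_of_zle {N : Subgroup Ω} [Finite N] (hz : z ∈ N) (hN : N ≤ Q) {q : Ω} (hq : q ∈ Q) :
    q ∈ normalizer (N : Set Ω) :=
  CfsgLib.Fusion.mem_normalizer_of_forall fun m hm => by
    rw [conj_eq_comm_mul]
    exact N.mul_mem (Amb.zle h hz (h.comm q hq m (hN hm))) hm

end Amb

end CfsgLib.IndexExtra
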