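import Cfsg.Agent.Lib.Fusion.IndexExtra.Index

/-!
# An image `r` of the centre lies in `Q`: orders and the basic subgroups

Here `D = E ⊓ Q` and `I = D ⊓ g(D)`.
-/

set_option autoImplicit false

namespace CfsgLib.IndexExtra

open Subgroup
open scoped commutatorElement

variable {Ω : Type*} [Group Ω] {S Q E : Subgroup Ω} [Finite S] {p : ℕ} [hp : Fact p.Prime] {z : Ω}

namespace Mov

variable {X : Subgroup (MulAut E)} (M : Mov p S Q E z X) (h : Amb p S Q z) {g : MulAut E}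

include M h

omit [Finite S] hp in
theorem zD : z ∈ E ⊓ Q := ⟨M.zE, h.zQ⟩

theorem le_norm_inf (hgX : g ∈ X) (hg : ap g z ∉ zpowers z) (hr : ap g z ∈ Q) :
    Q ≤ normalizer (E : Set Ω) := by
  classical
  obtain ⟨x₀, hx₀, hx₀Q⟩ := SetLike.not_le_iff_exists.mp M.notQ
  set N := Q ⊓ normalizer (E : Set Ω) with hN
  have hNQ : N ≤ Q := inf_le_left
  have := finite_sub (hNQ.trans h.le)
  by_contra hne
  have hne' : N ≠ Q := fun e => hne (inf_eq_left.mp e)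
  have hzN : z ∈ N := ⟨h.zQ, Subgroup.le_normalizer M.zE⟩
  have hS : S ≤ normalizer (N : Set Ω) := by
    rw [← h.sup_out (M.le hx₀) hx₀Q]
    refine sup_le (fun q hq => h.le_normalizer_of_zle hzN hNQ hq) (zpowers_le.mpr ?_)
    refine CfsgLib.Fusion.mem_normalizer_of_forall fun m hm => ⟨conj_mem_of_mem_normalizer (h.norm (M.le hx₀)) hm.1, ?_⟩
    have h0 : x₀ ∈ normalizer (E : Set Ω) := Subgroup.le_normalizer hx₀
    exact Subgroup.mul_mem _ (Subgroup.mul_mem _ h0 hm.2) (Subgroup.inv_mem _ h0)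
  obtain ⟨v, hvQ, hvN, hv⟩ := exists_central_step h.isP hNQ h.le hne' hS h.norm
  have := finite_sub M.le
  refine hvN ⟨hvQ, CfsgLib.Fusion.mem_normalizer_of_forall fun e he => ?_⟩
  have hev : ⁅e, v⁆ ∈ N := hv e (M.le he)
  have hcomm : ⁅⁅e, v⁆, ap g z⁆ = 1 := h.comm_comm_eq_one (M.le he) hvQ hr (M.image_central h g he)
  have hE : ⁅e, v⁆ ∈ E := M.sep g hgX hg _ ⟨h.le (hNQ hev), hev.2⟩ (commutatorElement_eq_one_iff_mul_comm.mp hcomm)
  rw [conj_eq_comm_mul, ← commutatorElement_inv]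
  exact E.mul_mem (E.inv_mem hE) he

theorem normalizerIn_eq (hgX : g ∈ X) (hg : ap g z ∉ zpowers z) (hr : ap g z ∈ Q) :
    Cfsg.FusionSystem.normalizerIn S E = S ∧ ∀ s ∈ S, s ∈ normalizer (E : Set Ω) := by
  have hS : S ≤ normalizer (E : Set Ω) := by
    obtain ⟨x₀, hx₀, hx₀Q⟩ := SetLike.not_le_iff_exists.mp M.notQ
    rw [← h.sup_out (M.le hx₀) hx₀Q]
    exact sup_le (M.le_norm_inf h hgX hg hr) (zpowers_le.mpr (Subgroup.le_normalizer hx₀))
  exact ⟨le_antisymm (fun s hs => hs.1) fun s hs => ⟨hs, hS hs⟩, hS⟩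

/-- What centralises the image inside `Q` lies in `E`. -/
theorem mem_of_comm (hgX : g ∈ X) (hg : ap g z ∉ zpowers z) (hr : ap g z ∈ Q) {q : Ω} (hq : q ∈ Q)
    (hc : q * ap g z = ap g z * q) : q ∈ E :=
  M.sep g hgX hg q ⟨h.le hq, M.le_norm_inf h hgX hg hr hq⟩ hc

theorem exists_outer_comm (hg : ap g z ∉ zpowers z) (hr : ap g z ∈ Q) : ∃ n ∈ Q, ⁅n, ap g z⁆ ≠ 1 := by
  by_contra! hno
  exact hg (h.cen _ hr fun b hb => (commutatorElement_eq_one_iff_mul_comm.mp (hno b hb)).symm)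

theorem outer_comm_ne (hgX : g ∈ X) (hg : ap g z ∉ zpowers z) (hr : ap g z ∈ Q) {n : Ω} (hn : n ∈ Q)
    (hnE : n ∉ E) : ⁅n, ap g z⁆ ≠ 1 := fun e =>
  hnE (M.mem_of_comm h hgX hg hr hn (commutatorElement_eq_one_iff_mul_comm.mp e))

theorem not_mem_of_comm_ne {n : Ω} (hnr : ⁅n, ap g z⁆ ≠ 1) : n ∉ E :=
  fun hn => hnr (commutatorElement_eq_one_iff_mul_comm.mpr (M.image_central h g hn))

theorem decomp_inner (hgX : g ∈ X) (hg : ap g z ∉ zpowers z) (hr : ap g z ∈ Q) {n : Ω} (hn : n ∈ Q)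
    (hnE : n ∉ E) {q : Ω} (hq : q ∈ Q) : ∃ d ∈ E ⊓ Q, ∃ k : ℤ, q = d * n ^ k := by
  obtain ⟨k, hk⟩ := h.exists_decomp hn hr (M.outer_comm_ne h hgX hg hr hn hnE) hq
  have hqk : q * n ^ k ∈ Q := Q.mul_mem hq (Q.zpow_mem hn k)
  exact ⟨_, ⟨M.mem_of_comm h hgX hg hr hqk hk, hqk⟩, -k, by rw [zpow_neg, mul_inv_cancel_right]⟩

theorem card_Q_eq (hgX : g ∈ X) (hg : ap g z ∉ zpowers z) (hr : ap g z ∈ Q) :
    Nat.card Q = p * Nat.card (E ⊓ Q : Subgroup Ω) := by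
  obtain ⟨n, hn, hnr⟩ := M.exists_outer_comm h hg hr
  have hnE := M.not_mem_of_comm_ne h hnr
  have hDQ : E ⊓ Q ≤ Q := inf_le_right
  have := finite_sub (hDQ.trans h.le)
  refine card_eq_mul h.isP hDQ h.le (fun e => hnE (e.ge hn).1) ?_
  have hnorm := h.le_normalizer_of_zle (M.zD h) hDQ hn
  have hpow : n ^ p ∈ E ⊓ Q := Amb.zle h (M.zD h) (h.pw n hn)
  have hle : Q ≤ (E ⊓ Q) ⊔ zpowers n := fun q hq => by
    obtain ⟨d, hd, k, rfl⟩ := M.decomp_inner h hgX hg hr hn hnE hq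
    exact Subgroup.mul_mem _ (mem_sup_left hd) (mem_sup_right (zpow_mem (mem_zpowers n) k))
  have := finite_sub (sup_le (hDQ.trans h.le) (zpowers_le.mpr (h.le hn)) : (E ⊓ Q) ⊔ zpowers n ≤ S)
  exact (Subgroup.card_le_of_le hle).trans (card_sup_le hp.out.pos hnorm hpow)

theorem card_D_lower (hgX : g ∈ X) (hg : ap g z ∉ zpowers z) (hr : ap g z ∈ Q) :
    p ^ 4 ≤ Nat.card (E ⊓ Q : Subgroup Ω) := by
  obtain ⟨k, hk, -, h5⟩ := h.card_S
  have h1 := M.card_Q_eq h hgX hg hr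
  refine Nat.le_of_mul_le_mul_left ?_ hp.out.pos
  rw [← h1, hk, ← pow_succ']
  exact Nat.pow_le_pow_right hp.out.pos h5

theorem nonabelian (hgX : g ∈ X) (hg : ap g z ∉ zpowers z) (hr : ap g z ∈ Q) :
    ∃ a ∈ E ⊓ Q, ∃ b ∈ E ⊓ Q, ⁅a, b⁆ ≠ 1 := by
  by_contra! hno
  have h1 := h.abel (E ⊓ Q) inf_le_right fun a ha b hb =>
    commutatorElement_eq_one_iff_mul_comm.mp (hno a ha b hb)
  rw [M.card_Q_eq h hgX hg hr, ← mul_assoc] at h1
  have := finite_sub ((inf_le_right : E ⊓ Q ≤ Q).trans h.le)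
  have h2 : Nat.card (E ⊓ Q : Subgroup Ω) ≤ p * p := Nat.le_of_mul_le_mul_right h1 Nat.card_pos
  have h3 := (M.card_D_lower h hgX hg hr).trans h2
  rw [← pow_two] at h3
  exact absurd ((Nat.pow_le_pow_iff_right hp.out.one_lt).mp h3) (by omega)

/-- Then every moved image of `z` lies in `Q`. -/
theorem image_mem_Q (hgX : g ∈ X) (hg : ap g z ∉ zpowers z) (hr : ap g z ∈ Q) (g' : MulAut E) :
    ap g' z ∈ Q := by
  by_contra hy
  have hyE : ap g' z ∈ E := ap_mem g' M.zE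
  obtain ⟨a, ha, b, hb, hab⟩ := M.nonabelian h hgX hg hr
  have hsup : (E ⊓ Q) ⊔ zpowers (ap g' z) = E :=
    sup_eq_of_card h.isP inf_le_left M.le hyE (fun e => hy e.2) (M.card_inf h).le
  have hnorm : ap g' z ∈ normalizer ((E ⊓ Q : Subgroup Ω) : Set Ω) :=
    le_normalizer_of_card h.isP inf_le_left M.le (M.card_inf h) hyE
  have hcomm : ∀ e ∈ E, ∀ e' ∈ E, ⁅e, e'⁆ ∈ zpowers z := fun e he e' he' => by
    obtain ⟨d, hd, i, rfl⟩ := exists_mul_zpow hnorm (hsup.symm ▸ he)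
    obtain ⟨d', hd', i', rfl⟩ := exists_mul_zpow hnorm (hsup.symm ▸ he')
    have c1 : ∀ e ∈ E, ∀ k : ℤ, ⁅ap g' z ^ k, e⁆ = 1 := fun e he k =>
      commutatorElement_eq_one_iff_mul_comm.mpr
        ((show Commute (ap g' z) e from (M.image_central h g' he).symm).zpow_left k).eq
    have c2 : ⁅d, ap g' z ^ i'⁆ = 1 := by
      rw [← commutatorElement_inv, c1 d hd.1 i', inv_one]
    rw [comm_mul_left_id, c1 _ he' i, mul_one, mul_inv_cancel, one_mul, comm_mul_right_id, c2, mul_one,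
      mul_inv_cancel, mul_one]
    exact h.comm d hd.2 d' hd'.2
  refine hg ?_
  have hw := hcomm a ha.1 b hb.1
  obtain ⟨j, hj⟩ := exists_zpow_of_gen (Subgroup.mem_zpowers z) (h.gen hw hab)
  have hc : ap g z = ⁅ap g a, ap g b⁆ ^ j := by
    rw [← ap_comm g ha.1 hb.1, ← ap_zpow g ((commutatorElement_def a b).symm ▸
      E.mul_mem (E.mul_mem (E.mul_mem ha.1 hb.1) (E.inv_mem ha.1)) (E.inv_mem hb.1)) j, hj]
  rw [hc]
  exact zpow_mem (hcomm _ (ap_mem g ha.1) _ (ap_mem g hb.1)) j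

theorem card_M0 (hg : ap g z ∉ zpowers z) :
    Nat.card (zpowers z ⊔ zpowers (ap g z) : Subgroup Ω) = p * p := by
  have hzS : zpowers z ≤ S := zpowers_le.mpr (M.le M.zE)
  have hrS : ap g z ∈ S := M.le (ap_mem g M.zE)
  have := finite_sub hzS
  refine le_antisymm ?_ ?_
  · refine (card_sup_le hp.out.pos ?_
      (by rw [M.image_pow h g]; exact one_mem _)).trans (by rw [h.card_Z])
    exact CfsgLib.Fusion.mem_normalizer_of_forall fun w hw => by rw [h.conj_fix hrS hw]; exact hw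
  · refine le_trans (by rw [h.card_Z]) (mul_card_le h.isP le_sup_left (sup_le hzS (zpowers_le.mpr hrS)) ?_)
    exact fun e => hg (e ▸ mem_sup_right (mem_zpowers _))

end Mov

end CfsgLib.IndexExtra
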