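import Cfsg.Agent.Lib.Fusion.IndexExtra.InnerBasic

/-!
# An image of the centre lies in `Q`: the two subgroups of index `p` in `E` and their intersection
-/

set_option autoImplicit false

namespace CfsgLib.IndexExtra

open Subgroup
open scoped commutatorElement

variable {Ω : Type*} [Group Ω] {S Q E : Subgroup Ω} [Finite S] {p : ℕ} [hp : Fact p.Prime] {z : Ω}

/-- The intersection `D ⊓ g(D)` for `D = E ⊓ Q`. -/
noncomputable def interD (Q : Subgroup Ω) (g : MulAut E) : Subgroup Ω := (E ⊓ Q) ⊓ img g (E ⊓ Q)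

/-- The orders and an element `x` completing the intersection to `g(D)`. -/
structure Core (p : ℕ) (S Q E : Subgroup Ω) (g : MulAut E) (x : Ω) : Prop where
  ximg : x ∈ img g (E ⊓ Q)
  xQ : x ∉ Q
  Iab : ∀ a ∈ interD Q g, ∀ b ∈ interD Q g, a * b = b * a
  cardI : Nat.card (interD Q g) = p ^ 3
  cardD : Nat.card (E ⊓ Q : Subgroup Ω) = p ^ 4
  cardS : Nat.card S = p ^ 6

namespace Mov

variable {X : Subgroup (MulAut E)} (M : Mov p S Q E z X) (h : Amb p S Q z) {g : MulAut E}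

include M h

omit [Finite S] hp in
theorem img_comm {a b : Ω} (ha : a ∈ img g (E ⊓ Q)) (hb : b ∈ img g (E ⊓ Q)) :
    ⁅a, b⁆ ∈ zpowers (ap g z) := by
  obtain ⟨a', ha', haE, rfl⟩ := exists_of_mem_img ha
  obtain ⟨b', hb', hbE, rfl⟩ := exists_of_mem_img hb
  obtain ⟨k, hk⟩ := h.comm a' ha'.2 b' hb'.2
  exact ⟨k, by rw [← ap_comm g haE hbE, ← hk]; exact (ap_zpow g M.zE k).symm⟩

theorem z_mem_inter (hgX : g ∈ X) (hg : ap g z ∉ zpowers z) (hr : ap g z ∈ Q) :
    z ∈ interD Q g ∧ ap g z ∈ interD Q g :=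
  ⟨⟨M.zD h, M.zE, ap_mem _ M.zE, M.image_mem_Q h hgX hg hr g⁻¹⟩,
    ⟨ap_mem g M.zE, hr⟩, ap_mem_img g M.zE (M.zD h)⟩

omit h hp in
theorem finI : Finite (interD Q g) := finite_sub ((inf_le_left.trans inf_le_left).trans M.le)

theorem exists_core (hgX : g ∈ X) (hg : ap g z ∉ zpowers z) (hr : ap g z ∈ Q) :
    ∃ x, Core p S Q E g x := by
  have hDE : E ⊓ Q ≤ E := inf_le_left
  have := finite_sub M.le
  have hiD : Nat.card (img g (E ⊓ Q)) = Nat.card (E ⊓ Q : Subgroup Ω) := card_img g hDE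
  have hne : ¬ img g (E ⊓ Q) ≤ E ⊓ Q := fun hle => by
    have := finite_sub (hDE.trans M.le)
    have he := CfsgLib.Fusion.eq_of_le_of_card_le hle hiD.ge
    obtain ⟨a, ha, b, hb, hab⟩ := M.nonabelian h hgX hg hr
    exact hab (M.inter_trivial h hg (h.comm a ha.2 b hb.2) (M.img_comm h (he.ge ha) (he.ge hb)))
  obtain ⟨x, hx, hxD⟩ := SetLike.not_le_iff_exists.mp hne
  have hxQ : x ∉ Q := fun hq => hxD ⟨img_le g _ hx, hq⟩
  have hIab : ∀ a ∈ interD Q g, ∀ b ∈ interD Q g, a * b = b * a := fun a ha b hb =>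
    commutatorElement_eq_one_iff_mul_comm.mp
      (M.inter_trivial h hg (h.comm a ha.1.2 b hb.1.2) (M.img_comm h ha.2 hb.2))
  have hI : Nat.card (E ⊓ Q : Subgroup Ω) ≤ p * Nat.card (interD Q g) := by
    have h1 := card_le_mul_inf (p := p) (img_le g (E ⊓ Q)) hDE M.le (by rw [hiD, ← M.card_inf h])
    exact le_of_le_of_eq h1 (by rw [interD, inf_comm (img g (E ⊓ Q))])
  have hA := h.abel (interD Q g) (inf_le_left.trans inf_le_right) hIab
  rw [M.card_Q_eq h hgX hg hr] at hA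
  obtain ⟨a, ha⟩ := exists_card (p := p) h.isP (K := interD Q g) ((inf_le_left.trans hDE).trans M.le)
  obtain ⟨b, hb⟩ := exists_card (p := p) h.isP (hDE.trans M.le)
  have h4 := M.card_D_lower h hgX hg hr
  rw [ha, hb, ← pow_succ'] at hI
  rw [ha, hb, ← pow_add, ← pow_succ', ← pow_succ'] at hA
  rw [hb] at h4
  have e1 := (Nat.pow_le_pow_iff_right hp.out.one_lt).mp hI
  have e2 := (Nat.pow_le_pow_iff_right hp.out.one_lt).mp hA
  have e3 := (Nat.pow_le_pow_iff_right hp.out.one_lt).mp h4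
  have hb4 : b = 4 := by omega
  have ha3 : a = 3 := by omega
  subst hb4 ha3
  exact ⟨x, hx, hxQ, hIab, ha, hb, by rw [h.card, M.card_Q_eq h hgX hg hr, hb]; ring⟩

end Mov

namespace Core

variable {X : Subgroup (MulAut E)} {g : MulAut E} {x : Ω} (C : Core p S Q E g x)
  (M : Mov p S Q E z X) (h : Amb p S Q z) (hgX : g ∈ X) (hg : ap g z ∉ zpowers z) (hr : ap g z ∈ Q)

include C

omit [Finite S] hp in
theorem xE : x ∈ E := img_le g _ C.ximg

include M h

theorem x_normalizes {i : Ω} (hi : i ∈ interD Q g) : x * i * x⁻¹ ∈ interD Q g :=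
  ⟨conj_mem_of_mem_normalizer (le_normalizer_of_card h.isP inf_le_left M.le (M.card_inf h) C.xE) hi.1,
    (img g (E ⊓ Q)).mul_mem ((img g (E ⊓ Q)).mul_mem C.ximg hi.2) ((img g (E ⊓ Q)).inv_mem C.ximg)⟩

include hgX hg hr

theorem sup_x : interD Q g ⊔ zpowers x = img g (E ⊓ Q) := by
  refine sup_eq_of_card h.isP inf_le_right ((img_le g _).trans M.le) C.ximg (fun hx => C.xQ hx.1.2) ?_
  rw [card_img g inf_le_left, C.cardD, C.cardI, ← pow_succ']

theorem decomp_img {u : Ω} (hu : u ∈ img g (E ⊓ Q)) : ∃ i ∈ interD Q g, ∃ k : ℤ, u = i * x ^ k := by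
  have : Finite (interD Q g) := M.finI
  exact exists_mul_zpow (CfsgLib.Fusion.mem_normalizer_of_forall fun i hi => C.x_normalizes M h hi)
    (by rw [C.sup_x M h hgX hg hr]; exact hu)

/-- Commutation with `x` carries the outside of `D` into `D` outside the intersection. -/
theorem outer {n : Ω} (hn : n ∈ Q) (hnE : n ∉ E) : ⁅n, x⁆ ∈ E ⊓ Q ∧ ⁅n, x⁆ ∉ interD Q g := by
  have hnorm := M.le_norm_inf h hgX hg hr hn
  refine ⟨⟨?_, h.comm_mem_Q (h.le hn) (M.le C.xE)⟩, fun hy => ?_⟩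
  · rw [commutatorElement_def]
    exact E.mul_mem (conj_mem_of_mem_normalizer hnorm C.xE) (E.inv_mem C.xE)
  have hI : ∀ u ∈ img g (E ⊓ Q), n * u * n⁻¹ ∈ img g (E ⊓ Q) := fun u hu => by
    obtain ⟨i, hi, k, rfl⟩ := C.decomp_img M h hgX hg hr hu
    rw [← conj_mul, ← _root_.conj_zpow, conj_eq_comm_mul n x, conj_eq_comm_mul n i]
    refine (img g (E ⊓ Q)).mul_mem ((img g (E ⊓ Q)).mul_mem ?_ hi.2)
      ((img g (E ⊓ Q)).zpow_mem ((img g (E ⊓ Q)).mul_mem hy.2 C.ximg) k)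
    exact (Amb.zle h (M.z_mem_inter h hgX hg hr).1 (h.comm n hn i hi.1.2)).2
  obtain ⟨a, ha, b, hb, hab⟩ := M.nonabelian h hgX hg hr
  have hau : ap g a ∈ img g (E ⊓ Q) := ap_mem_img g ha.1 ha
  have hbu : ap g b ∈ img g (E ⊓ Q) := ap_mem_img g hb.1 hb
  have hw : ⁅ap g a, ap g b⁆ ≠ 1 := fun e => hab (by
    refine ap_inj g ?_ E.one_mem ?_
    · rw [commutatorElement_def]
      exact E.mul_mem (E.mul_mem (E.mul_mem ha.1 hb.1) (E.inv_mem ha.1)) (E.inv_mem hb.1)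
    · rw [ap_comm g ha.1 hb.1, e, ap_one_mem])
  obtain ⟨k, hk⟩ := M.img_comm h hau hbu
  obtain ⟨l, hl⟩ := M.img_comm h (hI _ hau) (hI _ hbu)
  have hl' : n * (ap g z ^ k) * n⁻¹ = ap g z ^ l := by
    rw [show ap g z ^ k = ⁅ap g a, ap g b⁆ from hk, conj_comm]; exact hl.symm
  have hr' : ap g z ^ k ∈ Q := Q.zpow_mem hr k
  have h1 : ⁅n, ap g z ^ k⁆ = 1 := M.inter_trivial h hg (h.comm n hn _ hr') (by
    rw [commutatorElement_def, hl']
    exact mul_mem (zpow_mem (mem_zpowers _) l) (inv_mem (zpow_mem (mem_zpowers _) k)))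
  rw [h.comm_zpow_right (h.le hn) (h.le hr) (h.comm n hn _ hr) k] at h1
  have hdvd := h.dvd_of_zpow (h.comm_pow hn hr) (M.outer_comm_ne h hgX hg hr hn hnE) h1
  refine hw ?_
  obtain ⟨m, rfl⟩ := hdvd
  rw [← hk]
  show ap g z ^ ((p : ℤ) * m) = 1
  rw [zpow_mul, zpow_natCast, M.image_pow h g, one_zpow]

theorem sup_outer {n : Ω} (hn : n ∈ Q) (hnE : n ∉ E) : interD Q g ⊔ zpowers ⁅n, x⁆ = E ⊓ Q := by
  obtain ⟨h1, h2⟩ := C.outer M h hgX hg hr hn hnE
  exact sup_eq_of_card h.isP inf_le_left (inf_le_left.trans M.le) h1 h2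
    (by rw [C.cardD, C.cardI, ← pow_succ'])

theorem decomp_D {n : Ω} (hn : n ∈ Q) (hnE : n ∉ E) {e : Ω} (he : e ∈ E ⊓ Q) :
    ∃ i ∈ interD Q g, ∃ k : ℤ, e = i * ⁅n, x⁆ ^ k := by
  have : Finite (interD Q g) := M.finI
  exact exists_mul_zpow (h.le_normalizer_of_zle (M.z_mem_inter h hgX hg hr).1
    (inf_le_left.trans inf_le_right) (C.outer M h hgX hg hr hn hnE).1.2)
    (by rw [C.sup_outer M h hgX hg hr hn hnE]; exact he)

theorem pow_inter {i : Ω} (hi : i ∈ interD Q g) : i ^ p = 1 := by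
  obtain ⟨d, hd, hdE, rfl⟩ := exists_of_mem_img hi.2
  refine M.inter_trivial h hg (h.pw _ hi.1.2) ?_
  obtain ⟨k, hk⟩ := h.pw d hd.2
  exact ⟨k, by rw [← ap_pow g hdE, ← hk]; exact (ap_zpow g M.zE k).symm⟩

theorem pow_D {e : Ω} (he : e ∈ E ⊓ Q) : e ^ p = 1 := by
  obtain ⟨n, hn, hnr⟩ := M.exists_outer_comm h hg hr
  have hnE := M.not_mem_of_comm_ne h hnr
  obtain ⟨hy, -⟩ := C.outer M h hgX hg hr hn hnE
  obtain ⟨i, hi, k, rfl⟩ := C.decomp_D M h hgX hg hr hn hnE he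
  have hyp : ⁅n, x⁆ ^ p = 1 := by
    have hxS := M.le C.xE
    have hc : x * n⁻¹ * x⁻¹ ∈ Q := conj_mem_of_mem_normalizer (h.norm hxS) (Q.inv_mem hn)
    rw [show ⁅n, x⁆ = n * (x * n⁻¹ * x⁻¹) by rw [commutatorElement_def]; group, h.mul_pow hn hc,
      h.conj_pow hxS (Q.inv_mem hn), inv_pow, mul_inv_cancel]
  rw [h.mul_pow hi.1.2 (Q.zpow_mem hy.2 k), C.pow_inter M h hgX hg hr hi, one_mul, ← zpow_natCast,
    ← zpow_mul, mul_comm, zpow_mul, zpow_natCast, hyp, one_zpow]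

theorem pow_img {u : Ω} (hu : u ∈ img g (E ⊓ Q)) : u ^ p = 1 := by
  obtain ⟨d, hd, hdE, rfl⟩ := exists_of_mem_img hu
  rw [← ap_pow g hdE, C.pow_D M h hgX hg hr hd, ap_one_mem]

/-- The centre of `D` is spanned by the two images. -/
theorem center_D {e : Ω} (he : e ∈ E ⊓ Q) (hc : ∀ d ∈ E ⊓ Q, e * d = d * e) :
    e ∈ zpowers z ⊔ zpowers (ap g z) := by
  set Z2 := (E ⊓ Q) ⊓ centralizer ((E ⊓ Q : Subgroup Ω) : Set Ω) with hZ2
  have hle : zpowers z ⊔ zpowers (ap g z) ≤ Z2 := by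
    refine sup_le (zpowers_le.mpr ⟨M.zD h, ?_⟩) (zpowers_le.mpr ⟨⟨ap_mem g M.zE, hr⟩, ?_⟩)
    · exact mem_centralizer_iff.mpr fun d hd => h.zS d (M.le hd.1)
    · exact mem_centralizer_iff.mpr fun d hd => M.image_central h g hd.1
  have h1 := h.card_centralizer_mul_le Z2 (E ⊓ Q) (inf_le_left.trans inf_le_right) inf_le_right
    fun c hc d hd => (mem_centralizer_iff.mp hc.2 d hd).symm
  rw [M.card_Q_eq h hgX hg hr, ← mul_assoc] at h1
  have := finite_sub (inf_le_left.trans M.le : E ⊓ Q ≤ S)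
  have h2 : Nat.card Z2 ≤ p * p := Nat.le_of_mul_le_mul_right h1 Nat.card_pos
  have hfin := finite_sub ((inf_le_left.trans inf_le_left).trans M.le : Z2 ≤ S)
  rw [CfsgLib.Fusion.eq_of_le_of_card_le hle (by rw [M.card_M0 h hg]; exact h2)]
  exact ⟨he, mem_centralizer_iff.mpr fun d hd => (hc d hd).symm⟩

/-- What commutes with `x` in the intersection lies in the span of the two images. -/
theorem cent_x {i : Ω} (hi : i ∈ interD Q g) (hc : i * x = x * i) :
    i ∈ zpowers z ⊔ zpowers (ap g z) := by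
  have hci : ∀ u ∈ img g (E ⊓ Q), i * u = u * i := fun u hu => by
    obtain ⟨j, hj, k, rfl⟩ := C.decomp_img M h hgX hg hr hu
    exact ((show Commute i j from C.Iab i hi j hj).mul_right ((show Commute i x from hc).zpow_right k)).eq
  obtain ⟨d, hd, hdE, rfl⟩ := exists_of_mem_img hi.2
  have hdc : ∀ e ∈ E ⊓ Q, d * e = e * d := fun e he => by
    refine ap_inj g (E.mul_mem hdE he.1) (E.mul_mem he.1 hdE) ?_
    rw [ap_mul g hdE he.1, ap_mul g he.1 hdE]
    exact hci _ (ap_mem_img g he.1 he)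
  have hM : zpowers z ⊔ zpowers (ap g z) ≤ E := sup_le (zpowers_le.mpr M.zE) (zpowers_le.mpr (ap_mem g M.zE))
  have hr2 : ap g (ap g z) ∈ zpowers z ⊔ zpowers (ap g z) :=
    C.center_D M h hgX hg hr ⟨ap_mem g (ap_mem g M.zE), by
      rw [← ap_comp g g M.zE]; exact M.image_mem_Q h hgX hg hr _⟩ fun e he => by
      rw [← ap_comp g g M.zE]
      exact (M.image_central h _ he.1).symm
  have := C.center_D M h hgX hg hr hd hdc
  have hd' : d ∈ closure ({z, ap g z} : Set Ω) := by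
    rw [Set.insert_eq, Subgroup.closure_union, ← zpowers_eq_closure, ← zpowers_eq_closure]
    exact this
  clear hdc hi hc hci this
  revert hdE
  induction hd' using Subgroup.closure_induction with
  | mem t ht =>
    intro _
    rcases ht with rfl | rfl
    · exact mem_sup_right (mem_zpowers _)
    · exact hr2
  | one => intro _; rw [ap_one_mem]; exact one_mem _
  | mul a b ha hb iha ihb =>
    intro _
    have e1 : a ∈ E := ((closure_le E).mpr (Set.insert_subset M.zE (Set.singleton_subset_iff.mpr (ap_mem g M.zE)))) ha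
    have e2 : b ∈ E := ((closure_le E).mpr (Set.insert_subset M.zE (Set.singleton_subset_iff.mpr (ap_mem g M.zE)))) hb
    rw [ap_mul g e1 e2]
    exact mul_mem (iha ((closure_le _).mpr (by rintro t (rfl | rfl) <;> [exact M.zD h; exact ⟨ap_mem g M.zE, hr⟩]) ha) e1)
      (ihb ((closure_le _).mpr (by rintro t (rfl | rfl) <;> [exact M.zD h; exact ⟨ap_mem g M.zE, hr⟩]) hb) e2)
  | inv a ha iha =>
    intro _
    have e1 : a ∈ E := ((closure_le E).mpr (Set.insert_subset M.zE (Set.singleton_subset_iff.mpr (ap_mem g M.zE)))) ha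
    rw [ap_inv g e1]
    exact inv_mem (iha ((closure_le _).mpr (by rintro t (rfl | rfl) <;> [exact M.zD h; exact ⟨ap_mem g M.zE, hr⟩]) ha) e1)

end Core

end CfsgLib.IndexExtra
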