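import Cfsg.Agent.Lib.Fusion.IndexExtra.Index

/-!
# Unnormalised frames of Lagrangian type
-/

set_option autoImplicit false

namespace CfsgLib.IndexExtra

open Subgroup
open scoped commutatorElement

variable {Ω : Type*} [Group Ω]

/-- Two commuting outer elements `n₁`, `n₂` whose commutators with `x` are centralised by `x`, with the
symmetric form they define. -/
structure Pre (p : ℕ) (S : Subgroup Ω) (z n₁ n₂ x : Ω) : Prop where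
  zS : z ∈ S
  n₁S : n₁ ∈ S
  n₂S : n₂ ∈ S
  xS : x ∈ S
  cz : ∀ s ∈ S, s * z = z * s
  pz : z ^ p = 1
  pn₁ : n₁ ^ p = 1
  pn₂ : n₂ ^ p = 1
  px : x ^ p = 1
  pi₁ : ⁅n₁, x⁆ ^ p = 1
  pi₂ : ⁅n₂, x⁆ ^ p = 1
  nn : n₁ * n₂ = n₂ * n₁
  xi₁ : x * ⁅n₁, x⁆ = ⁅n₁, x⁆ * x
  xi₂ : x * ⁅n₂, x⁆ = ⁅n₂, x⁆ * x
  ii : ⁅n₁, x⁆ * ⁅n₂, x⁆ = ⁅n₂, x⁆ * ⁅n₁, x⁆
  form : ∃ a b c : ℤ, ⁅n₁, ⁅n₁, x⁆⁆ = z ^ a ∧ ⁅n₁, ⁅n₂, x⁆⁆ = z ^ b ∧ ⁅n₂, ⁅n₁, x⁆⁆ = z ^ b ∧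
    ⁅n₂, ⁅n₂, x⁆⁆ = z ^ c ∧ ¬ (p : ℤ) ∣ a * c - b * b
  gen : S ≤ closure {z, ⁅n₁, x⁆, ⁅n₂, x⁆, x, n₁, n₂}

variable {S Q : Subgroup Ω} [Finite S] {p : ℕ} [hp : Fact p.Prime] {z : Ω}

/-- The form of two commuting elements of `Q` is symmetric. -/
theorem Amb.form_symm (h : Amb p S Q z) {n m x : Ω} (hn : n ∈ Q) (hm : m ∈ Q) (hx : x ∈ S)
    (hnm : n * m = m * n) (hi : ⁅⁅n, x⁆, ⁅m, x⁆⁆ = 1) : ⁅n, ⁅m, x⁆⁆ = ⁅m, ⁅n, x⁆⁆ := by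
  have hnx : ⁅n, x⁆ ∈ Q := h.comm_mem_Q (h.le hn) hx
  have hmx : ⁅m, x⁆ ∈ Q := h.comm_mem_Q (h.le hm) hx
  have e : ∀ a : Ω, x * a * x⁻¹ = ⁅a, x⁆⁻¹ * a := fun a => by
    rw [commutatorElement_inv, conj_eq_comm_mul]
  have h1 : ⁅⁅n, x⁆⁻¹ * n, ⁅m, x⁆⁻¹ * m⁆ = 1 := by
    rw [← e, ← e, ← conj_comm, commutatorElement_eq_one_iff_mul_comm.mpr hnm, mul_one, mul_inv_cancel]
  have hi' : ⁅⁅n, x⁆⁻¹, ⁅m, x⁆⁻¹⁆ = 1 := commutatorElement_eq_one_iff_mul_comm.mpr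
    ((show Commute ⁅n, x⁆ ⁅m, x⁆ from commutatorElement_eq_one_iff_mul_comm.mp hi).inv_inv).eq
  rw [h.comm_mul_left (h.le (Q.inv_mem hnx)) (h.comm n hn _ (Q.mul_mem (Q.inv_mem hmx) hm)),
    h.comm_mul_right (h.le (Q.inv_mem hmx)) (h.comm n hn m hm),
    h.comm_mul_right (h.le (Q.inv_mem hmx)) (h.comm _ (Q.inv_mem hnx) m hm), hi', one_mul,
    commutatorElement_eq_one_iff_mul_comm.mpr hnm, mul_one, ← zpow_neg_one ⁅m, x⁆, ← zpow_neg_one ⁅n, x⁆,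
    h.comm_zpow_right (h.le hn) (h.le hmx) (h.comm n hn _ hmx),
    h.comm_zpow_left (h.le hnx) (h.le hm) (h.comm _ hnx m hm), zpow_neg_one, zpow_neg_one,
    commutatorElement_inv ⁅n, x⁆ m, inv_mul_eq_one] at h1
  exact h1

end CfsgLib.IndexExtra
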