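import Cfsg.Agent.Lib.Fusion.IndexExtra.InnerPow
import Cfsg.Agent.Lib.Fusion.IndexExtra.Pre

/-!
# An image of the centre lies in `Q`: the two possible frames
-/

set_option autoImplicit false

namespace CfsgLib.IndexExtra

open Subgroup
open scoped commutatorElement

variable {Ω : Type*} [Group Ω] {S Q E : Subgroup Ω} [Finite S] {p : ℕ} [hp : Fact p.Prime] {z : Ω}

namespace Core

variable {X : Subgroup (MulAut E)} {g : MulAut E} {x : Ω} (C : Core p S Q E g x)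
  (M : Mov p S Q E z X) (h : Amb p S Q z) (hgX : g ∈ X) (hg : ap g z ∉ zpowers z) (hr : ap g z ∈ Q)

include C M h hgX hg hr

theorem central_M0 {m e : Ω} (hm : m ∈ zpowers z ⊔ zpowers (ap g z)) (he : e ∈ E) : m * e = e * m :=
  commute_of_sup (fun _ hw => (h.fix (M.le he) hw).symm)
    (fun _ hw => commute_zpowers (M.image_central h g he).symm hw) hm

theorem sup_c {c : Ω} (hc : c ∈ interD Q g) (hcM : c ∉ zpowers z ⊔ zpowers (ap g z)) :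
    zpowers z ⊔ zpowers (ap g z) ⊔ zpowers c = interD Q g :=
  sup_eq_of_card h.isP (C.M0_le M h hgX hg hr) ((inf_le_left.trans inf_le_left).trans M.le) hc hcM
    (by rw [C.cardI, M.card_M0 h hg, pow_succ', pow_two])

/-- A subgroup with the generators contains everything. -/
theorem S_le {K : Subgroup Ω} {n c : Ω} (hn : n ∈ Q) (hnE : n ∉ E) (hc : c ∈ interD Q g)
    (hcM : c ∉ zpowers z ⊔ zpowers (ap g z)) (hz : z ∈ K) (hr' : ap g z ∈ K) (hcK : c ∈ K)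
    (hy : ⁅n, x⁆ ∈ K) (hnK : n ∈ K) (hxK : x ∈ K) : S ≤ K := by
  have hI : interD Q g ≤ K := by
    rw [← C.sup_c M h hgX hg hr hc hcM]
    exact sup_le (sup_le (zpowers_le.mpr hz) (zpowers_le.mpr hr')) (zpowers_le.mpr hcK)
  have hD : E ⊓ Q ≤ K := by
    rw [← C.sup_outer M h hgX hg hr hn hnE]
    exact sup_le hI (zpowers_le.mpr hy)
  rw [← h.sup_out (M.le C.xE) C.xQ]
  refine sup_le (fun q hq => ?_) (zpowers_le.mpr hxK)
  obtain ⟨d, hd, k, rfl⟩ := M.decomp_inner h hgX hg hr hn hnE hq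
  exact K.mul_mem (hD hd) (K.zpow_mem hnK k)

theorem comm_D {d : Ω} (hd : d ∈ E ⊓ Q) : ⁅d, x⁆ ∈ interD Q g := by
  refine ⟨⟨?_, h.comm_mem_Q (M.le hd.1) (M.le C.xE)⟩, ?_⟩
  · rw [commutatorElement_def]
    exact E.mul_mem (E.mul_mem (E.mul_mem hd.1 C.xE) (E.inv_mem hd.1)) (E.inv_mem C.xE)
  · rw [commutatorElement_def]
    refine (img g (E ⊓ Q)).mul_mem ?_ ((img g (E ⊓ Q)).inv_mem C.ximg)
    exact conj_mem_of_mem_normalizer (le_normalizer_of_card h.isP (img_le g _) M.le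
      (by rw [card_img g inf_le_left, ← M.card_inf h]) hd.1) C.ximg

theorem lag {n : Ω} (hn : n ∈ Q) (hnE : n ∉ E) (hm : ⁅x, ⁅n, x⁆⁆ ∈ zpowers z ⊔ zpowers (ap g z)) :
    ∃ n₁ n₂ x', Pre p S z n₁ n₂ x' := by
  have hnr := M.outer_comm_ne h hgX hg hr hn hnE
  obtain ⟨c, hc, hcM, hnc⟩ := C.exists_c M h hgX hg hr hn hnr
  obtain ⟨hy, -⟩ := C.outer M h hgX hg hr hn hnE
  have hxS := M.le C.xE
  have hnS := h.le hn
  have hrQ : ap g z ∈ Q := hr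
  -- the commutator is central
  have hmZ : ⁅x, ⁅n, x⁆⁆ ∈ zpowers z := by
    have hmQ : ⁅x, ⁅n, x⁆⁆ ∈ Q := h.comm_mem_Q hxS (h.le hy.2)
    have e1 : x * n * x⁻¹ = ⁅n, x⁆⁻¹ * n := by rw [commutatorElement_inv, conj_eq_comm_mul]
    have h1 : ⁅⁅n, x⁆⁻¹ * n, ⁅x, ⁅n, x⁆⁆ * ⁅n, x⁆⁆ = ⁅n, ⁅n, x⁆⁆ := by
      rw [← e1, ← conj_eq_comm_mul, ← conj_comm, h.conj_fix hxS (h.comm n hn _ hy.2)]
    have h2 : ⁅⁅n, x⁆⁻¹, ⁅x, ⁅n, x⁆⁆ * ⁅n, x⁆⁆ = 1 := by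
      refine commutatorElement_eq_one_iff_mul_comm.mpr (Commute.eq ?_)
      exact (show Commute ⁅x, ⁅n, x⁆⁆ ⁅n, x⁆⁻¹ from C.central_M0 M h hgX hg hr hm (E.inv_mem hy.1)).symm.mul_right
        (Commute.refl _).inv_left
    rw [h.comm_mul_left (h.le (Q.inv_mem hy.2)) (h.comm n hn _ (Q.mul_mem hmQ hy.2)), h2, mul_one,
      h.comm_mul_right (h.le hmQ) (h.comm n hn _ hy.2), mul_eq_right] at h1
    have := finite_sub (zpowers_le.mpr (M.le M.zE) : zpowers z ≤ S)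
    obtain ⟨w, hw, b, hb⟩ := exists_mul_zpow (CfsgLib.Fusion.mem_normalizer_of_forall (P := zpowers z)
      (fun w hw => by rw [h.conj_fix (h.le hrQ) hw]; exact hw)) hm
    rw [hb, h.comm_mul_right (h.le (h.zmem hw)) (h.comm n hn _ (Q.zpow_mem hrQ b)), h.comm_z_right hnS hw,
      one_mul, h.comm_zpow_right hnS (h.le hrQ) (h.comm n hn _ hrQ)] at h1
    obtain ⟨q, rfl⟩ := h.dvd_of_zpow (h.comm_pow hn hrQ) hnr h1
    rw [hb, zpow_mul, zpow_natCast, M.image_pow h g, one_zpow, mul_one]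
    exact hw
  have hcy : ⁅c, ⁅n, x⁆⁆ ≠ 1 := fun e => hcM (C.center_D M h hgX hg hr hc.1 fun d hd => by
    obtain ⟨i, hi, l, rfl⟩ := C.decomp_D M h hgX hg hr hn hnE hd
    exact ((show Commute c i from C.Iab c hc i hi).mul_right
      ((show Commute c ⁅n, x⁆ from commutatorElement_eq_one_iff_mul_comm.mp e).zpow_right l)).eq)
  obtain ⟨k, hk⟩ := exists_zpow_of_gen (inv_mem hmZ) (h.gen (h.comm c hc.1.2 _ hy.2) hcy)
  have hck : c ^ k ∈ Q := Q.zpow_mem hc.1.2 k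
  have hx' : ⁅x * c ^ k, ⁅n, x⁆⁆ = 1 := by
    rw [comm_mul_left_id, h.comm_zpow_left (h.le hc.1.2) (h.le hy.2) (h.comm c hc.1.2 _ hy.2), hk,
      h.conj_fix hxS (inv_mem hmZ), inv_mul_cancel]
  have hi1 : ⁅n, x * c ^ k⁆ = ⁅n, x⁆ := by
    rw [comm_mul_right_id, h.comm_zpow_right hnS (h.le hc.1.2) (h.comm n hn _ hc.1.2), hnc, one_zpow, mul_one,
      mul_inv_cancel, mul_one]
  have hi2 : ⁅c, x * c ^ k⁆ = ⁅c, x⁆ := by
    rw [comm_mul_right_id, commutatorElement_eq_one_iff_mul_comm.mpr ((Commute.refl c).zpow_right k).eq, mul_one,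
      mul_inv_cancel, mul_one]
  have hx'img : x * c ^ k ∈ img g (E ⊓ Q) := (img g (E ⊓ Q)).mul_mem C.ximg ((img g (E ⊓ Q)).zpow_mem hc.2 k)
  obtain ⟨l, hl⟩ := M.img_comm h hc.2 C.ximg
  have hl' : ap g z ^ l = ⁅c, x⁆ := hl
  have hlne : ⁅c, x⁆ ≠ 1 := fun e => C.comm_x_ne M h hgX hg hr hc hcM (by
    rw [← commutatorElement_inv, e, inv_one])
  have hpl : ¬ (p : ℤ) ∣ l := fun hd => hlne (by
    obtain ⟨q, rfl⟩ := hd
    rw [← hl', zpow_mul, zpow_natCast, M.image_pow h g, one_zpow])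
  have hi2Q : ⁅c, x⁆ ∈ Q := h.comm_mem_Q (h.le hc.1.2) hxS
  have hi2c : ∀ e ∈ E, ⁅c, x⁆ * e = e * ⁅c, x⁆ := fun e he =>
    C.central_M0 M h hgX hg hr (hl' ▸ mem_sup_right (zpow_mem (mem_zpowers _) l)) he
  refine ⟨n, c, x * c ^ k, h.le h.zQ, hnS, h.le hc.1.2, S.mul_mem hxS (h.le hck), h.zS, h.zpow_p,
    C.pow_Q M h hgX hg hr hn, C.pow_inter M h hgX hg hr hc, C.pow_img M h hgX hg hr hx'img,
    by rw [hi1]; exact C.pow_Q M h hgX hg hr hy.2, by rw [hi2]; exact C.pow_Q M h hgX hg hr hi2Q,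
    commutatorElement_eq_one_iff_mul_comm.mp hnc,
    by rw [hi1]; exact commutatorElement_eq_one_iff_mul_comm.mp hx',
    by rw [hi2]; exact (hi2c _ (E.mul_mem C.xE (E.zpow_mem hc.1.1 k))).symm,
    by rw [hi1, hi2]; exact (hi2c _ hy.1).symm, ?_, ?_⟩
  · obtain ⟨a, ha⟩ := h.comm n hn _ hy.2
    obtain ⟨b, hb⟩ := h.comm n hn _ hi2Q
    have hsym : ⁅n, ⁅c, x⁆⁆ = ⁅c, ⁅n, x⁆⁆ := h.form_symm hn hc.1.2 hxS
      (commutatorElement_eq_one_iff_mul_comm.mp hnc)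
      (commutatorElement_eq_one_iff_mul_comm.mpr (hi2c _ hy.1).symm)
    refine ⟨a, b, 0, by rw [hi1]; exact ha.symm, by rw [hi2]; exact hb.symm,
      by rw [hi1, ← hsym]; exact hb.symm, ?_, fun hd => ?_⟩
    · rw [hi2, zpow_zero]
      exact commutatorElement_eq_one_iff_mul_comm.mpr (hi2c _ hc.1.1).symm
    · rw [mul_zero, zero_sub, dvd_neg] at hd
      rcases Int.Prime.dvd_mul' hp.out hd with h3 | h3 <;>
      · obtain ⟨q, rfl⟩ := h3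
        refine hcy (hsym.symm.trans ?_)
        rw [show ⁅n, ⁅c, x⁆⁆ = z ^ ((p : ℤ) * q) from hb.symm, zpow_mul, zpow_natCast, h.zpow_p, one_zpow]
  · rw [hi1, hi2]
    set K := closure ({z, ⁅n, x⁆, ⁅c, x⁆, x * c ^ k, n, c} : Set Ω)
    have hcK : c ∈ K := subset_closure (by simp)
    refine C.S_le M h hgX hg hr hn hnE hc hcM (subset_closure (by simp)) ?_ hcK (subset_closure (by simp))
      (subset_closure (by simp)) ?_
    · have hK : zpowers (ap g z ^ l) ≤ K := zpowers_le.mpr (hl' ▸ subset_closure (by simp))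
      exact hK (mem_zpowers_zpow (M.image_pow h g) hpl)
    · have := K.mul_mem (show x * c ^ k ∈ K from subset_closure (by simp)) (K.inv_mem (K.zpow_mem hcK k))
      rwa [mul_inv_cancel_right] at this

/-- The values attached to an outer element in the second branch. -/
theorem chain_data {n : Ω} (hn : n ∈ Q) (hnE : n ∉ E)
    (hall : ∀ n ∈ Q, n ∉ E → ⁅x, ⁅n, x⁆⁆ ∉ zpowers z ⊔ zpowers (ap g z)) :
    ∃ Y ∈ E ⊓ Q, ∃ c ∈ interD Q g, ∃ R ∈ zpowers (ap g z), c ∉ zpowers z ⊔ zpowers (ap g z) ∧ R ≠ 1 ∧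
      Y = ⁅n⁻¹, x⁆ ∧ x * n * x⁻¹ = n * Y ∧ x * Y * x⁻¹ = Y * c ∧ x * c * x⁻¹ = c * R ∧
      ⁅n, c⁆ = ⁅n, R⁆ ∧ ⁅Y, c⁆ = ⁅n, R⁆⁻¹ ∧ ⁅n, R⁆ ≠ 1 := by
  have hxS := M.le C.xE
  have hnr := M.outer_comm_ne h hgX hg hr hn hnE
  have hni : n⁻¹ ∈ Q := Q.inv_mem hn
  have hniE : n⁻¹ ∉ E := fun he => hnE (inv_mem_iff.mp he)
  obtain ⟨hY, -⟩ := C.outer M h hgX hg hr hni hniE
  set Y := ⁅n⁻¹, x⁆ with hYdef
  set c := ⁅Y⁻¹, x⁆ with hcdef
  have hc : c ∈ interD Q g := C.comm_D M h hgX hg hr (inv_mem hY)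
  have hcM : c ∉ zpowers z ⊔ zpowers (ap g z) := fun hm => hall _ hni hniE (by
    have e : ⁅x, Y⁆ = Y * c * Y⁻¹ := by rw [hcdef]; simp [commutatorElement_def, mul_assoc]
    rw [← hYdef, e, ← C.central_M0 M h hgX hg hr hm hY.1, mul_inv_cancel_right]
    exact hm)
  set R := ⁅c⁻¹, x⁆ with hRdef
  have hR : R ∈ zpowers (ap g z) := M.img_comm h ((img g (E ⊓ Q)).inv_mem hc.2) C.ximg
  have hR1 : R ≠ 1 := fun e => C.comm_x_ne M h hgX hg hr hc hcM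
    (commutatorElement_eq_one_iff_mul_comm.mpr
      (Commute.inv_right_iff.mp (show Commute c⁻¹ x from commutatorElement_eq_one_iff_mul_comm.mp e).symm).eq)
  have hR' : R ∈ Q := by obtain ⟨i, hi⟩ := hR; exact hi ▸ Q.zpow_mem hr i
  have x1 : x * n * x⁻¹ = n * Y := by simp [hYdef, commutatorElement_def, mul_assoc]
  have x2 : x * Y * x⁻¹ = Y * c := by simp [hcdef, commutatorElement_def, mul_assoc]
  have x3 : x * c * x⁻¹ = c * R := by simp [hRdef, commutatorElement_def, mul_assoc]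
  have hnR : ⁅n, R⁆ ≠ 1 := by
    obtain ⟨i, hi⟩ : ∃ i : ℤ, ap g z ^ i = R := hR
    rw [← hi, h.comm_zpow_right (h.le hn) (h.le hr) (h.comm n hn _ hr)]
    intro e
    obtain ⟨q, rfl⟩ := h.dvd_of_zpow (h.comm_pow hn hr) hnr e
    exact hR1 (by rw [← hi, zpow_mul, zpow_natCast, M.image_pow h g, one_zpow])
  have hYR : ⁅Y, R⁆ = 1 := commutatorElement_eq_one_iff_mul_comm.mpr
    (C.central_M0 M h hgX hg hr (mem_sup_right hR) hY.1).symm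
  have hYY : ⁅Y, Y⁆ = 1 := commutatorElement_eq_one_iff_mul_comm.mpr rfl
  have key : ∀ {a a' : Ω}, a ∈ Q → a' ∈ Q → x * a * x⁻¹ = a' → ⁅n * Y, a'⁆ = ⁅n, a⁆ := fun {a a'} ha ha' e => by
    rw [← x1, ← e, ← conj_comm, h.conj_fix hxS (h.comm n hn _ ha)]
  have h1 : ⁅Y, c⁆ * ⁅n, c⁆ = 1 := by
    have e := key hY.2 (Q.mul_mem hY.2 hc.1.2) x2
    rw [h.comm_mul_left (h.le hn) (h.comm Y hY.2 _ (Q.mul_mem hY.2 hc.1.2)),
      h.comm_mul_right (h.le hY.2) (h.comm Y hY.2 _ hc.1.2), hYY, one_mul,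
      h.comm_mul_right (h.le hY.2) (h.comm n hn _ hc.1.2)] at e
    rw [h.fix (h.le (h.zmem (h.comm n hn _ hY.2))) (h.comm n hn _ hc.1.2), ← mul_assoc] at e
    exact mul_eq_right.mp e
  have h2 : ⁅Y, c⁆ * ⁅n, R⁆ = 1 := by
    have e := key hc.1.2 (Q.mul_mem hc.1.2 hR') x3
    rw [h.comm_mul_left (h.le hn) (h.comm Y hY.2 _ (Q.mul_mem hc.1.2 hR')),
      h.comm_mul_right (h.le hc.1.2) (h.comm Y hY.2 _ hR'), hYR, mul_one,
      h.comm_mul_right (h.le hc.1.2) (h.comm n hn _ hR'),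
      h.fix (h.le (h.zmem (h.comm n hn _ hc.1.2))) (h.comm n hn _ hR'), ← mul_assoc] at e
    exact mul_eq_right.mp e
  refine ⟨Y, hY, c, hc, R, hR, hcM, hR1, rfl, x1, x2, x3, ?_, eq_inv_of_mul_eq_one_left h2, hnR⟩
  exact mul_left_cancel (h1.trans h2.symm)

theorem chain (hall : ∀ n ∈ Q, n ∉ E → ⁅x, ⁅n, x⁆⁆ ∉ zpowers z ⊔ zpowers (ap g z)) :
    5 ≤ p ∧ ∃ w : Fin 6 → Ω, Chain p w ∧ (∀ i, w i ∈ S) ∧ S ≤ closure (Set.range w) := by
  have hxS := M.le C.xE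
  obtain ⟨n₀, hn₀, hnr₀⟩ := M.exists_outer_comm h hg hr
  have hn₀E := M.not_mem_of_comm_ne h hnr₀
  obtain ⟨Y₀, hY₀, c₀, hc₀, R₀, hR₀, -, -, hY₀e, -, -, x3, hnc₀, hYc₀, hnR₀⟩ :=
    C.chain_data M h hgX hg hr hn₀ hn₀E hall
  have hR₀Q : R₀ ∈ Q := by obtain ⟨i, hi⟩ := hR₀; exact hi ▸ Q.zpow_mem hr i
  have hzg := h.gen (h.comm n₀ hn₀ _ hR₀Q) hnR₀
  have hpne : ¬ (p : ℤ) ∣ 2 := fun hd => by
    have := Nat.le_of_dvd two_pos (Int.natCast_dvd_natCast.mp hd)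
    have := hp.out.two_le
    obtain ⟨o, ho⟩ := h.odd
    omega
  have hsq : ⁅n₀, R₀⁆ ^ (2 : ℤ) ≠ 1 := fun e => hpne (h.dvd_of_zpow (h.comm_pow hn₀ hR₀Q) hnR₀ e)
  obtain ⟨k, hk⟩ := exists_zpow_of_gen (inv_mem (h.comm n₀ hn₀ _ hY₀.2))
    (h.gen (zpow_mem (h.comm n₀ hn₀ _ hR₀Q) 2) hsq)
  set n := n₀ * c₀ ^ k with hndef
  have hck : c₀ ^ k ∈ Q := Q.zpow_mem hc₀.1.2 k
  have hn : n ∈ Q := Q.mul_mem hn₀ hck
  have hnE : n ∉ E := fun he => hn₀E (by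
    have := E.mul_mem he (E.inv_mem (E.zpow_mem hc₀.1.1 k))
    rwa [hndef, mul_inv_cancel_right] at this)
  obtain ⟨Y, hY, c, hc, R, hR, hcM, hR1, hYe, u1, u2, u3, hnc, hYc, hnR⟩ := C.chain_data M h hgX hg hr hn hnE hall
  have hRQ : R ∈ Q := by obtain ⟨i, hi⟩ := hR; exact hi ▸ Q.zpow_mem hr i
  have hRc : ∀ e ∈ E, R * e = e * R := fun e he => C.central_M0 M h hgX hg hr (mem_sup_right hR) he
  have hR₀c : ∀ e ∈ E, R₀ * e = e * R₀ := fun e he => C.central_M0 M h hgX hg hr (mem_sup_right hR₀) he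
  have hnY : ⁅n, Y⁆ = 1 := by
    have hp1 : ⁅(c₀ ^ k)⁻¹, x⁆ = R₀ ^ k := by
      rw [commutatorElement_def, inv_inv, mul_assoc, mul_assoc, ← mul_assoc x, ← _root_.conj_zpow, x3,
        (show Commute c₀ R₀ from (hR₀c _ hc₀.1.1).symm).mul_zpow, inv_mul_cancel_left]
    have hY' : Y = (c₀ ^ k)⁻¹ * Y₀ * (c₀ ^ k)⁻¹⁻¹ * R₀ ^ k := by
      rw [hYe, hndef, mul_inv_rev, comm_mul_left_id, ← hY₀e, hp1]
    have hRk : R₀ ^ k ∈ Q := Q.zpow_mem hR₀Q k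
    have hw := h.comm _ (Q.inv_mem hck) _ hY₀.2
    rw [hY', conj_eq_comm_mul, mul_assoc, hndef,
      h.comm_mul_left (h.le hn₀) (h.comm _ hck _ (Q.mul_mem (h.zmem hw) (Q.mul_mem hY₀.2 hRk))),
      h.comm_mul_right (h.le (h.zmem hw)) (h.comm n₀ hn₀ _ (Q.mul_mem hY₀.2 hRk)),
      h.comm_z_right (h.le hn₀) hw, one_mul,
      h.comm_mul_right (h.le (h.zmem hw)) (h.comm _ hck _ (Q.mul_mem hY₀.2 hRk)),
      h.comm_z_right (h.le hck) hw, one_mul,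
      h.comm_mul_right (h.le hY₀.2) (h.comm n₀ hn₀ _ hRk),
      h.comm_mul_right (h.le hY₀.2) (h.comm _ hck _ hRk),
      commutatorElement_eq_one_iff_mul_comm.mpr
        ((show Commute R₀ (c₀ ^ k) from hR₀c _ (E.zpow_mem hc₀.1.1 k)).symm.zpow_right k).eq, mul_one,
      h.comm_zpow_left (h.le hc₀.1.2) (h.le hY₀.2) (h.comm _ hc₀.1.2 _ hY₀.2),
      ← commutatorElement_inv Y₀ c₀, hYc₀, inv_inv,
      h.comm_zpow_right (h.le hn₀) (h.le hR₀Q) (h.comm n₀ hn₀ _ hR₀Q),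
      h.fix (h.le (h.zmem (h.comm n₀ hn₀ _ hY₀.2))) (zpow_mem (h.comm n₀ hn₀ _ hR₀Q) k), ← mul_assoc,
      ← zpow_add, ← two_mul, zpow_mul, hk, inv_mul_cancel]
  have hcy : Y * c * Y⁻¹ = ⁅n, R⁆⁻¹ * c := by rw [conj_eq_comm_mul, hYc]
  have hcY : c * Y = ⁅n, R⁆ * (Y * c) := by
    rw [← inv_inv ⁅n, R⁆, ← hYc, commutatorElement_inv, ← mul_assoc, ← conj_eq_comm_mul, inv_mul_cancel_right]
  have hpY : Y ^ p = 1 := C.pow_D M h hgX hg hr hY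
  have hpc : c ^ p = 1 := C.pow_inter M h hgX hg hr hc
  have hpR : R ^ p = 1 := C.pow_Q M h hgX hg hr hRQ
  have hpx : x ^ p = 1 := C.pow_img M h hgX hg hr C.ximg
  have hzn := h.comm n hn _ hRQ
  refine ⟨?_, ![⁅n, R⁆, R, c, Y, n, x], ?_, ?_, ?_⟩
  · by_contra hlt
    have hp3 : p = 3 := by
      obtain ⟨o, ho⟩ := h.odd
      have := hp.out.two_le
      omega
    subst hp3
    have h3 : x * (x * (x * n * x⁻¹) * x⁻¹) * x⁻¹ = n := by
      have e : x * (x * (x * n * x⁻¹) * x⁻¹) * x⁻¹ = x ^ 3 * n * (x ^ 3)⁻¹ := by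
        simp [pow_succ, mul_assoc]
      rw [e, hpx, one_mul, inv_one, mul_one]
    have cm : ∀ a b : Ω, x * (a * b) * x⁻¹ = x * a * x⁻¹ * (x * b * x⁻¹) := fun a b => conj_mul.symm
    rw [u1, cm n Y, u1, u2, cm (n * Y) (Y * c), cm n Y, cm Y c, u1, u2, u3] at h3
    have hw := hzn
    have hcw : ∀ a ∈ S, Commute a ⁅n, R⁆ := fun a ha => h.fix ha hw
    have h4 : ⁅n, R⁆ * (Y * (Y * (Y * (c * (c * c))))) * R = 1 := by
      have e : Y * (Y * c * (Y * c * (c * R))) = ⁅n, R⁆ * (Y * (Y * (Y * (c * (c * c))))) * R := by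
        calc Y * (Y * c * (Y * c * (c * R))) = Y * Y * (c * Y) * c * c * R := by simp [mul_assoc]
          _ = Y * Y * (⁅n, R⁆ * (Y * c)) * c * c * R := by rw [hcY]
          _ = (Y * Y) * ⁅n, R⁆ * (Y * c * c * c * R) := by simp [mul_assoc]
          _ = ⁅n, R⁆ * (Y * Y) * (Y * c * c * c * R) := by
              rw [(hcw (Y * Y) (S.mul_mem (M.le hY.1) (M.le hY.1))).eq]
          _ = _ := by simp [mul_assoc]
      rw [← e]
      refine mul_left_cancel (a := n) ?_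
      rw [mul_one]
      simpa [mul_assoc] using h3
    rw [show Y * (Y * (Y * (c * (c * c)))) = Y ^ 3 * c ^ 3 by simp [pow_succ, mul_assoc], hpY, hpc, mul_one,
      mul_one] at h4
    refine hR1 (M.inter_trivial h hg ?_ hR)
    rw [eq_inv_of_mul_eq_one_right h4]
    exact inv_mem hw
  · refine ⟨fun i => ?_, ?_, ?_, ?_, ?_, ?_, hcy, ?_, ?_, ?_, ?_, ?_, ?_, u3, u2, u1⟩
    · fin_cases i
      exacts [h.pow_of_mem hzn, hpR, hpc, hpY, C.pow_Q M h hgX hg hr hn, hpx]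
    · exact h.conj_fix (h.le hRQ) hzn
    · exact h.conj_fix (h.le hc.1.2) hzn
    · show c * R * c⁻¹ = R
      rw [← hRc c hc.1.1, mul_inv_cancel_right]
    · exact h.conj_fix (h.le hY.2) hzn
    · show Y * R * Y⁻¹ = R
      rw [← hRc Y hY.1, mul_inv_cancel_right]
    · exact h.conj_fix (h.le hn) hzn
    · exact conj_eq_comm_mul n R
    · show n * c * n⁻¹ = _
      rw [conj_eq_comm_mul n c, hnc]
      rfl
    · show n * Y * n⁻¹ = Y
      rw [conj_eq_comm_mul n Y, hnY, one_mul]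
    · exact h.conj_fix hxS hzn
    · show x * R * x⁻¹ = R
      rw [← hRc x C.xE, mul_inv_cancel_right]
  · intro i
    fin_cases i
    exacts [h.le (h.zmem hzn), h.le hRQ, h.le hc.1.2, h.le hY.2, h.le hn, hxS]
  · set K := closure (Set.range ![⁅n, R⁆, R, c, Y, n, x])
    have m : ∀ i, (![⁅n, R⁆, R, c, Y, n, x]) i ∈ K := fun i => subset_closure ⟨i, rfl⟩
    refine C.S_le M h hgX hg hr hn hnE hc hcM ?_ ?_ (m 2) ?_ (m 4) (m 5)
    · have hK : zpowers ⁅n, R⁆ ≤ K := zpowers_le.mpr (m 0)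
      exact hK ((h.gen hzn hnR).ge (mem_zpowers z))
    · have hK : zpowers R ≤ K := zpowers_le.mpr (m 1)
      obtain ⟨i, hi⟩ : ∃ i : ℤ, ap g z ^ i = R := hR
      rw [← hi] at hK
      refine hK (mem_zpowers_zpow (M.image_pow h g) fun hd => hR1 ?_)
      obtain ⟨q, rfl⟩ := hd
      rw [← hi, zpow_mul, zpow_natCast, M.image_pow h g, one_zpow]
    · have e : ⁅n, x⁆ = n * Y⁻¹ * n⁻¹ := by
        rw [hYe]; simp [commutatorElement_def, mul_assoc]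
      rw [e]
      exact K.mul_mem (K.mul_mem (m 4) (K.inv_mem (m 3))) (K.inv_mem (m 4))

end Core

/-- The conclusion when an image of the centre lies in `Q`. -/
theorem Mov.inner {X : Subgroup (MulAut E)} (M : Mov p S Q E z X) (h : Amb p S Q z) {g : MulAut E}
    (hgX : g ∈ X) (hg : ap g z ∉ zpowers z) (hr : ap g z ∈ Q) :
    Nat.card S = p ^ 6 ∧ ((∃ n₁ n₂ x, Pre p S z n₁ n₂ x) ∨
      5 ≤ p ∧ ∃ w : Fin 6 → Ω, Chain p w ∧ (∀ i, w i ∈ S) ∧ S ≤ closure (Set.range w)) := by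
  obtain ⟨x, C⟩ := M.exists_core h hgX hg hr
  refine ⟨C.cardS, ?_⟩
  by_cases hl : ∃ n ∈ Q, n ∉ E ∧ ⁅x, ⁅n, x⁆⁆ ∈ zpowers z ⊔ zpowers (ap g z)
  · obtain ⟨n, hn, hnE, hm⟩ := hl
    exact Or.inl (C.lag M h hgX hg hr hn hnE hm)
  · exact Or.inr (C.chain M h hgX hg hr fun n hn hnE hm => hl ⟨n, hn, hnE, hm⟩)

end CfsgLib.IndexExtra
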