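import Cfsg.Agent.Lib.Fusion.IndexExtra.InnerCore

/-!
# An image of the centre lies in `Q`: then `Q` has exponent `p`

Two conjugates of a transvection of the plane of the two images give an automorphism inverting it; it
extends to the Sylow group, fixes a generator modulo `D` and inverts its `p`-th power.
-/

set_option autoImplicit false

namespace CfsgLib.IndexExtra

open Subgroup
open scoped commutatorElement

variable {Ω : Type*} [Group Ω] {S Q E : Subgroup Ω} [Finite S] {p : ℕ} [hp : Fact p.Prime] {z : Ω}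

/-- A submonoid of a finite group as a subgroup. -/
def ofSubmonoid {G : Type*} [Group G] [Finite G] (P : Submonoid G) : Subgroup G :=
  { P with
    inv_mem' := fun {k} hk => by
      obtain ⟨j, hj⟩ := (IsOfFinOrder.mem_powers_iff_mem_zpowers (isOfFinOrder_of_finite k)).mpr
        (Subgroup.inv_mem _ (Subgroup.mem_zpowers k))
      show k⁻¹ ∈ P
      rw [show k⁻¹ = k ^ j from hj.symm]
      exact P.pow_mem hk j }

theorem mem_ofSubmonoid {G : Type*} [Group G] [Finite G] {P : Submonoid G} {k : G} :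
    k ∈ ofSubmonoid P ↔ k ∈ P := Iff.rfl

omit hp in
theorem dvd_sub_one_of_zpow {w : Ω} (hw : orderOf w = p) {k : ℤ} (h : w ^ k = w) : (p : ℤ) ∣ k - 1 := by
  rw [← hw]
  refine orderOf_dvd_iff_zpow_eq_one.mpr ?_
  rw [zpow_sub, h, zpow_one, mul_inv_cancel]

theorem zpow_congr {w : Ω} (hw : w ^ p = 1) {j k : ℤ} (h : (p : ℤ) ∣ j - k) : w ^ j = w ^ k := by
  obtain ⟨m, hm⟩ := h
  rw [show j = k + (p : ℤ) * m by omega, zpow_add, zpow_mul, zpow_natCast, hw, one_zpow, mul_one]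

theorem mem_zpowers_zpow {w : Ω} (hw : w ^ p = 1) {j : ℤ} (hj : ¬ (p : ℤ) ∣ j) : w ∈ zpowers (w ^ j) := by
  have hc : IsCoprime (p : ℤ) j := (Nat.prime_iff_prime_int.mp hp.out).coprime_iff_not_dvd.mpr hj
  obtain ⟨a, b, hab⟩ := hc
  refine ⟨b, ?_⟩
  show (w ^ j) ^ b = w
  rw [← zpow_mul]
  conv_rhs => rw [← zpow_one w]
  exact zpow_congr hw ⟨-a, by linear_combination hab⟩

namespace Core

variable {X : Subgroup (MulAut E)} {g : MulAut E} {x : Ω} (C : Core p S Q E g x)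
  (M : Mov p S Q E z X) (h : Amb p S Q z) (hgX : g ∈ X) (hg : ap g z ∉ zpowers z) (hr : ap g z ∈ Q)

include C M h hgX hg hr

theorem M0_le : zpowers z ⊔ zpowers (ap g z) ≤ interD Q g :=
  sup_le (zpowers_le.mpr (M.z_mem_inter h hgX hg hr).1) (zpowers_le.mpr (M.z_mem_inter h hgX hg hr).2)

/-- An element of the intersection outside the plane of the images, commuting with a given outer element. -/
theorem exists_c {n : Ω} (hn : n ∈ Q) (hnr : ⁅n, ap g z⁆ ≠ 1) :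
    ∃ c ∈ interD Q g, c ∉ zpowers z ⊔ zpowers (ap g z) ∧ ⁅n, c⁆ = 1 := by
  have : Finite (interD Q g) := M.finI
  obtain ⟨c₀, hc₀, hc₀'⟩ : ∃ c₀ ∈ interD Q g, c₀ ∉ zpowers z ⊔ zpowers (ap g z) := by
    by_contra! hno
    have := finite_sub ((C.M0_le M h hgX hg hr).trans ((inf_le_left.trans inf_le_left).trans M.le))
    have h1 := Subgroup.card_le_of_le (show interD Q g ≤ _ from hno)
    rw [C.cardI, M.card_M0 h hg, ← pow_two, Nat.pow_le_pow_iff_right hp.out.one_lt] at h1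
    omega
  obtain ⟨k, hk⟩ := exists_zpow_of_gen (inv_mem (h.comm n hn c₀ hc₀.1.2)) (h.gen (h.comm n hn _ hr) hnr)
  refine ⟨c₀ * ap g z ^ k, mul_mem hc₀ (zpow_mem (M.z_mem_inter h hgX hg hr).2 k), fun hm => hc₀' ?_, ?_⟩
  · have := Subgroup.mul_mem _ hm (Subgroup.inv_mem _ (mem_sup_right (zpow_mem (mem_zpowers (ap g z)) k)))
    rwa [mul_inv_cancel_right] at this
  · rw [h.comm_mul_right (h.le hc₀.1.2) (h.comm n hn _ (Q.zpow_mem hr k)),
      h.comm_zpow_right (h.le hn) (h.le hr) (h.comm n hn _ hr), hk, mul_inv_cancel]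

theorem comm_x_ne {c : Ω} (hc : c ∈ interD Q g) (hcM : c ∉ zpowers z ⊔ zpowers (ap g z)) : ⁅x, c⁆ ≠ 1 :=
  fun e => hcM (C.cent_x M h hgX hg hr hc (commutatorElement_eq_one_iff_mul_comm.mp e).symm)

/-- Conjugation by elements of `S` moves the intersection only along the plane of the images. -/
theorem conj_mod {s : Ω} (hs : s ∈ S) {i : Ω} (hi : i ∈ interD Q g) :
    s * i * s⁻¹ * i⁻¹ ∈ zpowers z ⊔ zpowers (ap g z) := by
  obtain ⟨q, hq, j, rfl⟩ := h.decomp (M.le C.xE) C.xQ hs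
  obtain ⟨l, hl⟩ := M.img_comm h ((img g (E ⊓ Q)).zpow_mem C.ximg j) hi.2
  have hl' : ap g z ^ l * i ∈ Q := Q.mul_mem (Q.zpow_mem hr l) hi.1.2
  have e : q * x ^ j * i * (q * x ^ j)⁻¹ * i⁻¹ = ⁅q, ap g z ^ l * i⁆ * ap g z ^ l := by
    rw [show ap g z ^ l = ⁅x ^ j, i⁆ from hl, ← conj_eq_comm_mul]
    simp [commutatorElement_def, mul_assoc]
  rw [e]
  exact Subgroup.mul_mem _ (mem_sup_left (h.comm q hq _ hl')) (mem_sup_right (zpow_mem (mem_zpowers _) l))

/-- An automorphism inverting `z` and `g z` and moving the intersection only along their plane. -/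
theorem exists_inverter {n : Ω} (hn : n ∈ Q) (hnr : ⁅n, ap g z⁆ ≠ 1) :
    ∃ t ∈ X, ap t z = z⁻¹ ∧ ap t (ap g z) = (ap g z)⁻¹ ∧
      ∀ i ∈ interD Q g, ap t i * i⁻¹ ∈ zpowers z ⊔ zpowers (ap g z) := by
  have hrE : ap g z ∈ E := ap_mem g M.zE
  have hrc : Commute z (ap g z) := M.image_central h g M.zE
  have := CfsgLib.Fusion.finite_mulAut M.le
  let L : Submonoid (MulAut E) :=
    { carrier := {k | k ∈ X ∧ ∀ i ∈ interD Q g, ap k i * i⁻¹ ∈ zpowers z ⊔ zpowers (ap g z)}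
      one_mem' := ⟨X.one_mem, fun i _ => by rw [ap_id, mul_inv_cancel]; exact one_mem _⟩
      mul_mem' := fun {a b} ha hb => ⟨X.mul_mem ha.1 hb.1, fun i hi => by
        have hm := hb.2 i hi
        have hmI := C.M0_le M h hgX hg hr hm
        rw [ap_comp a b hi.1.1]
        have e : ap a (ap b i) = ap a (ap b i * i⁻¹) * ap a i := by
          rw [← ap_mul a hmI.1.1 hi.1.1, inv_mul_cancel_right]
        rw [e, mul_assoc]
        refine Subgroup.mul_mem _ ?_ (ha.2 i hi)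
        have := Subgroup.mul_mem _ (ha.2 _ hmI) hm
        rwa [inv_mul_cancel_right] at this⟩ }
  -- conjugations by powers of `n`, and their conjugates under `g`
  obtain ⟨k₀, hk₀⟩ := exists_zpow_of_gen (Subgroup.mem_zpowers z) (h.gen (h.comm n hn _ hr) hnr)
  have hA : ∀ l : ℤ, ∃ a ∈ L, ap a z = z ∧ ap a (ap g z) = z ^ l * ap g z ∧
      (g * a * g⁻¹ ∈ L ∧ ap (g * a * g⁻¹) (ap g z) = ap g z) := fun l => by
    have hq : n ^ (k₀ * l) ∈ Q := Q.zpow_mem hn _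
    obtain ⟨a, haX, -, hae⟩ := M.ind (n ^ (k₀ * l)) ⟨h.le hq, M.le_norm_inf h hgX hg hr hq⟩
    have haL : a ∈ L := ⟨haX, fun i hi => by
      rw [hae i hi.1.1]; exact C.conj_mod M h hgX hg hr (h.le hq) hi⟩
    refine ⟨a, haL, ?_, ?_, ⟨X.mul_mem (X.mul_mem hgX haX) (X.inv_mem hgX), fun i hi => ?_⟩, ?_⟩
    · rw [hae z M.zE, h.conj_fix (h.le hq) (mem_zpowers z)]
    · rw [hae _ hrE, conj_eq_comm_mul, h.comm_zpow_left (h.le hn) (h.le hr) (h.comm n hn _ hr), zpow_mul, hk₀]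
    · obtain ⟨d, hd, hdE, rfl⟩ := exists_of_mem_img hi.2
      rw [ap_comp _ _ (ap_mem g hdE), ap_inv_ap g hdE, ap_comp _ _ hdE, hae d hdE, conj_eq_comm_mul,
        ap_mul g (zpowers_le.mpr M.zE (h.comm _ hq d hd.2)) hdE, mul_inv_cancel_right]
      obtain ⟨j, hj⟩ := h.comm _ hq d hd.2
      rw [← hj]
      exact mem_sup_right ⟨j, (ap_zpow g M.zE j).symm⟩
    · rw [ap_comp _ _ (ap_mem g M.zE), ap_inv_ap g M.zE, ap_comp _ _ M.zE, hae z M.zE,
        h.conj_fix (h.le hq) (mem_zpowers z)]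
  -- the coordinates of `g (g z)`
  have hr2 : ap g (ap g z) ∈ zpowers z ⊔ zpowers (ap g z) :=
    C.center_D M h hgX hg hr ⟨ap_mem g hrE, by rw [← ap_comp g g M.zE]; exact M.image_mem_Q h hgX hg hr _⟩
      fun e he => by rw [← ap_comp g g M.zE]; exact (M.image_central h _ he.1).symm
  have := finite_sub (zpowers_le.mpr (M.le M.zE) : zpowers z ≤ S)
  obtain ⟨w, ⟨u, rfl⟩, v, hv⟩ := exists_mul_zpow
    (CfsgLib.Fusion.mem_normalizer_of_forall (P := zpowers z) (fun w hw => by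
      rw [h.conj_fix (M.le hrE) hw]; exact hw)) hr2
  simp only at hv
  have hzu : z ^ u ≠ 1 := fun e => hg ⟨v, by
    refine ap_inj g (E.zpow_mem M.zE v) hrE ?_
    rw [ap_zpow g M.zE, hv, e, one_mul]⟩
  obtain ⟨k, hk⟩ := exists_zpow_of_gen (Subgroup.mem_zpowers z) (h.gen (zpow_mem (mem_zpowers z) u) hzu)
  have huk : (p : ℤ) ∣ u * k - 1 := dvd_sub_one_of_zpow h.ord (by rw [zpow_mul]; exact hk)
  obtain ⟨a, haL, haz, har, -⟩ := hA 1
  obtain ⟨a', haL', -, har', hbL, hbr⟩ := hA (-u)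
  rw [zpow_one] at har
  set b := g * a' * g⁻¹ with hb
  have hbu : ap b (z ^ u) = ap g z ^ (-u) * z ^ u := by
    refine mul_right_cancel (b := ap g z ^ v) ?_
    have h1 : ap b (ap g (ap g z)) = ap b (z ^ u) * ap g z ^ v := by
      rw [hv, ap_mul b (E.zpow_mem M.zE u) (E.zpow_mem hrE v), ap_zpow b hrE, hbr]
    rw [← h1, hb, ap_comp _ _ (ap_mem g hrE), ap_inv_ap g hrE, ap_comp _ _ hrE, har',
      ap_mul g (E.zpow_mem M.zE _) hrE, ap_zpow g M.zE, hv, mul_assoc]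
  have hbz : ap b z = (ap g z)⁻¹ * z := by
    conv_lhs => rw [← hk]
    rw [ap_zpow b (E.zpow_mem M.zE u), hbu, ((hrc.symm.zpow_zpow (-u) u)).mul_zpow, ← zpow_mul, ← zpow_mul,
      zpow_congr (p := p) (M.image_pow h g) (k := -1) ⟨-(huk.choose), by linear_combination -(huk.choose_spec)⟩,
      zpow_congr h.zpow_p (k := 1) huk, zpow_one, zpow_neg_one]
  refine ⟨(a * b * a) * (a * b * a), ?_, ?_, ?_, ?_⟩
  · exact X.mul_mem (X.mul_mem (X.mul_mem haL.1 hbL.1) haL.1) (X.mul_mem (X.mul_mem haL.1 hbL.1) haL.1)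
  all_goals
    have w1 : ap (a * b * a) z = (ap g z)⁻¹ := by
      rw [ap_comp _ _ M.zE, haz, ap_comp _ _ M.zE, hbz, ap_mul a (E.inv_mem hrE) M.zE, ap_inv a hrE, har, haz,
        mul_inv_rev, inv_mul_cancel_right]
    have w2 : ap (a * b * a) (ap g z) = z := by
      rw [ap_comp _ _ hrE, har, ap_comp _ _ (E.mul_mem M.zE hrE), ap_mul b M.zE hrE, hbz, hbr,
        (hrc.inv_right.symm).eq, inv_mul_cancel_right, haz]
  · rw [ap_comp _ _ M.zE, w1, ap_inv _ hrE, w2]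
  · rw [ap_comp _ _ hrE, w2, w1]
  · exact ((L.mul_mem (L.mul_mem (L.mul_mem haL hbL) haL) (L.mul_mem (L.mul_mem haL hbL) haL))).2

theorem pow_Q {n : Ω} (hn : n ∈ Q) : n ^ p = 1 := by
  by_cases hnr : ⁅n, ap g z⁆ = 1
  · exact C.pow_D M h hgX hg hr ⟨M.mem_of_comm h hgX hg hr hn (commutatorElement_eq_one_iff_mul_comm.mp hnr), hn⟩
  have hrE : ap g z ∈ E := ap_mem g M.zE
  have hnE := M.not_mem_of_comm_ne h hnr
  obtain ⟨c, hc, hcM, hnc⟩ := C.exists_c M h hgX hg hr hn hnr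
  obtain ⟨t, htX, htz, htr, htI⟩ := C.exists_inverter M h hgX hg hr hn hnr
  have := CfsgLib.Fusion.finite_mulAut M.le
  let K' : Submonoid (MulAut E) :=
    { carrier := {k | k ∈ X ∧ ap k z = z ∧ ap k (ap g z) * (ap g z)⁻¹ ∈ zpowers z ∧
        ∀ i ∈ interD Q g, ap k i * i⁻¹ ∈ zpowers z ⊔ zpowers (ap g z)}
      one_mem' := ⟨X.one_mem, ap_id, by rw [ap_id, mul_inv_cancel]; exact one_mem _,
        fun i _ => by rw [ap_id, mul_inv_cancel]; exact one_mem _⟩
      mul_mem' := fun {a b} ha hb => ⟨X.mul_mem ha.1 hb.1, by rw [ap_comp a b M.zE, hb.2.1, ha.2.1], by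
        obtain ⟨j, hj⟩ := hb.2.2.1
        have e : ap b (ap g z) = z ^ j * ap g z := by
          rw [show z ^ j = ap b (ap g z) * (ap g z)⁻¹ from hj, inv_mul_cancel_right]
        rw [ap_comp a b hrE, e, ap_mul a (E.zpow_mem M.zE j) hrE, ap_zpow a M.zE, ha.2.1, mul_assoc]
        exact mul_mem (zpow_mem (mem_zpowers z) j) ha.2.2.1, fun i hi => by
        have hm := hb.2.2.2 i hi
        have hmI := C.M0_le M h hgX hg hr hm
        rw [ap_comp a b hi.1.1]
        have e : ap a (ap b i) = ap a (ap b i * i⁻¹) * ap a i := by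
          rw [← ap_mul a hmI.1.1 hi.1.1, inv_mul_cancel_right]
        rw [e, mul_assoc]
        refine Subgroup.mul_mem _ ?_ (ha.2.2.2 i hi)
        have := Subgroup.mul_mem _ (ha.2.2.2 _ hmI) hm
        rwa [inv_mul_cancel_right] at this⟩ }
  obtain ⟨hNS, -⟩ := M.normalizerIn_eq h hgX hg hr
  -- the part of `autInducedBy S E` and of its conjugate under `t`
  have hT : ∀ a ∈ Cfsg.autInducedBy S E, ∃ w ∈ zpowers z, ap a z = z ∧
      ap a (ap g z) = w * ap g z ∧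
      ∀ i ∈ interD Q g, ap a i * i⁻¹ ∈ zpowers z ⊔ zpowers (ap g z) := fun a ha => by
    obtain ⟨s, hs, hse⟩ := CfsgLib.Fusion.mem_autInducedBy.mp ha
    have hae : ∀ y ∈ E, ap a y = s * y * s⁻¹ := fun y hy => by rw [ap_of_mem a hy]; exact hse ⟨y, hy⟩
    obtain ⟨q, hq, j, rfl⟩ := h.decomp (M.le C.xE) C.xQ hs
    refine ⟨⁅q, ap g z⁆, h.comm q hq _ hr, by rw [hae z M.zE, h.conj_fix hs (mem_zpowers z)], ?_,
      fun i hi => by rw [hae i hi.1.1]; exact C.conj_mod M h hgX hg hr hs hi⟩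
    have hxr : x ^ j * ap g z = ap g z * x ^ j := (M.image_central h g (E.zpow_mem C.xE j))
    rw [hae _ hrE, mul_inv_rev, ← mul_assoc, mul_assoc q (x ^ j) (ap g z), hxr, ← mul_assoc q,
      mul_inv_cancel_right, conj_eq_comm_mul]
  have hTK : Cfsg.autInducedBy S E ≤ ofSubmonoid K' := fun a ha => by
    obtain ⟨w, hw, h1, h2, h3⟩ := hT a ha
    exact ⟨M.subT ha, h1, by rw [h2, mul_inv_cancel_right]; exact hw, h3⟩
  have htI' : ∀ i ∈ interD Q g, ap t⁻¹ i * i⁻¹ ∈ zpowers z ⊔ zpowers (ap g z) := by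
    let L : Submonoid (MulAut E) :=
      { carrier := {k | ∀ i ∈ interD Q g, ap k i * i⁻¹ ∈ zpowers z ⊔ zpowers (ap g z)}
        one_mem' := fun i _ => by rw [ap_id, mul_inv_cancel]; exact one_mem _
        mul_mem' := fun {a b} ha hb i hi => by
          have hm := hb i hi
          have hmI := C.M0_le M h hgX hg hr hm
          rw [ap_comp a b hi.1.1]
          have e : ap a (ap b i) = ap a (ap b i * i⁻¹) * ap a i := by
            rw [← ap_mul a hmI.1.1 hi.1.1, inv_mul_cancel_right]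
          rw [e, mul_assoc]
          refine Subgroup.mul_mem _ ?_ (ha i hi)
          have := Subgroup.mul_mem _ (ha _ hmI) hm
          rwa [inv_mul_cancel_right] at this }
    exact (ofSubmonoid L).inv_mem (x := t) htI
  have htz' : ap t⁻¹ z = z⁻¹ := ap_inj t (ap_mem _ M.zE) (E.inv_mem M.zE) (by
    rw [ap_ap_inv t M.zE, ap_inv t M.zE, htz, inv_inv])
  have htr' : ap t⁻¹ (ap g z) = (ap g z)⁻¹ := ap_inj t (ap_mem _ hrE) (E.inv_mem hrE) (by
    rw [ap_ap_inv t hrE, ap_inv t hrE, htr, inv_inv])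
  have hPK : (Cfsg.autInducedBy S E).map (MulAut.conj t).toMonoidHom ≤ ofSubmonoid K' := by
    rintro _ ⟨a, ha, rfl⟩
    obtain ⟨w, hw, h1, h2, h3⟩ := hT a ha
    obtain ⟨j, rfl⟩ := hw
    simp only at h2
    refine ⟨X.mul_mem (X.mul_mem htX (M.subT ha)) (X.inv_mem htX), ?_, ?_, fun i hi => ?_⟩
    · show ap (t * a * t⁻¹) z = z
      rw [ap_comp _ _ M.zE, htz', ap_comp _ _ (E.inv_mem M.zE), ap_inv a M.zE, h1, ap_inv t M.zE, htz, inv_inv]
    · show ap (t * a * t⁻¹) (ap g z) * (ap g z)⁻¹ ∈ zpowers z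
      rw [ap_comp _ _ hrE, htr', ap_comp _ _ (E.inv_mem hrE), ap_inv a hrE, h2,
        ap_inv t (E.mul_mem (E.zpow_mem M.zE j) hrE), ap_mul t (E.zpow_mem M.zE j) hrE, ap_zpow t M.zE, htz, htr,
        mul_inv_rev, inv_inv, h.fix (M.le hrE) (inv_mem (zpow_mem (inv_mem (mem_zpowers z)) j)),
        mul_inv_cancel_right]
      exact inv_mem (zpow_mem (inv_mem (mem_zpowers z)) j)
    · show ap (t * a * t⁻¹) i * i⁻¹ ∈ _
      have st : ∀ {a b : MulAut E}, (∀ i ∈ interD Q g, ap a i * i⁻¹ ∈ zpowers z ⊔ zpowers (ap g z)) →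
          (∀ i ∈ interD Q g, ap b i * i⁻¹ ∈ zpowers z ⊔ zpowers (ap g z)) →
          ∀ i ∈ interD Q g, ap (a * b) i * i⁻¹ ∈ zpowers z ⊔ zpowers (ap g z) := fun {a b} ha hb i hi => by
        have hm := hb i hi
        have hmI := C.M0_le M h hgX hg hr hm
        rw [ap_comp a b hi.1.1]
        have e : ap a (ap b i) = ap a (ap b i * i⁻¹) * ap a i := by
          rw [← ap_mul a hmI.1.1 hi.1.1, inv_mul_cancel_right]
        rw [e, mul_assoc]
        refine Subgroup.mul_mem _ ?_ (ha i hi)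
        have := Subgroup.mul_mem _ (ha _ hmI) hm
        rwa [inv_mul_cancel_right] at this
      exact st (st htI h3) htI' i hi
  obtain ⟨k, hk, hkT⟩ := M.conjT (ofSubmonoid K') (fun k hk => hk.1) hTK _ hPK
    ((CfsgLib.Fusion.isPGroup_autInducedBy h.isP E).map _)
  obtain ⟨τ, hτ⟩ := M.extend (k * t) (X.mul_mem hk.1 htX) (fun a ha => by
    have h1 := hkT ⟨t * a * t⁻¹, ⟨a, ha, rfl⟩, rfl⟩
    rw [show k * t * a * (k * t)⁻¹ = k * (t * a * t⁻¹) * k⁻¹ by group]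
    exact h1) hNS
  -- values of the extension
  have hτz : ap τ z = z⁻¹ := by
    rw [hτ z M.zE, ap_comp _ _ M.zE, htz, ap_inv k M.zE, hk.2.1]
  obtain ⟨j₁, hj₁⟩ := hk.2.2.1
  have hτr : ap τ (ap g z) = (z ^ j₁ * ap g z)⁻¹ := by
    rw [hτ _ hrE, ap_comp _ _ hrE, htr, ap_inv k hrE,
      show z ^ j₁ = ap k (ap g z) * (ap g z)⁻¹ from hj₁, inv_mul_cancel_right]
  have hτc : ap τ c * c⁻¹ ∈ zpowers z ⊔ zpowers (ap g z) := by
    rw [hτ c hc.1.1, ap_comp _ _ hc.1.1]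
    have hm := htI c hc
    have hmI := C.M0_le M h hgX hg hr hm
    have e : ap k (ap t c) = ap k (ap t c * c⁻¹) * ap k c := by
      rw [← ap_mul k hmI.1.1 hc.1.1, inv_mul_cancel_right]
    rw [e, mul_assoc]
    refine Subgroup.mul_mem _ ?_ (hk.2.2.2 c hc)
    have := Subgroup.mul_mem _ (hk.2.2.2 _ hmI) hm
    rwa [inv_mul_cancel_right] at this
  have hnS : n ∈ S := h.le hn
  obtain ⟨q, hq, j, hτn⟩ := h.decomp (M.le C.xE) C.xQ (ap_mem τ hnS)
  have hecI : ap τ c ∈ interD Q g := by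
    have := mul_mem (C.M0_le M h hgX hg hr hτc) hc
    rwa [inv_mul_cancel_right] at this
  have hj : (p : ℤ) ∣ j := by
    by_contra hj
    have h1 : ⁅ap τ n, ap τ c⁆ = 1 := by
      rw [← ap_comm τ hnS (h.le hc.1.2), hnc, ap_one_mem]
    rw [hτn, comm_mul_left_id] at h1
    have h2 : ⁅x ^ j, ap τ c⁆ ∈ zpowers z := by
      rw [show ⁅x ^ j, ap τ c⁆ = q⁻¹ * ⁅q, ap τ c⁆⁻¹ * q⁻¹⁻¹ by
        rw [← eq_inv_of_mul_eq_one_left h1]; group]
      rw [h.conj_fix (S.inv_mem (h.le hq)) (inv_mem (h.comm q hq _ hecI.1.2))]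
      exact inv_mem (h.comm q hq _ hecI.1.2)
    have h3 := M.inter_trivial h hg h2 (M.img_comm h ((img g (E ⊓ Q)).zpow_mem C.ximg j) hecI.2)
    obtain ⟨i, hi⟩ := mem_zpowers_zpow (C.pow_img M h hgX hg hr C.ximg) hj
    have hxe : Commute x (ap τ c) := by
      rw [← show (x ^ j) ^ i = x from hi]
      exact (show Commute (x ^ j) (ap τ c) from commutatorElement_eq_one_iff_mul_comm.mp h3).zpow_left i
    refine hcM (C.cent_x M h hgX hg hr hc ?_)
    have hxm : Commute x (ap τ c * c⁻¹) := by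
      have := finite_sub (zpowers_le.mpr (M.le M.zE) : zpowers z ≤ S)
      obtain ⟨a, ⟨a', ha'⟩, b', hb'⟩ := exists_mul_zpow
        (CfsgLib.Fusion.mem_normalizer_of_forall (P := zpowers z) (fun w hw => by
          rw [h.conj_fix (M.le hrE) hw]; exact hw)) hτc
      rw [hb', ← ha']
      exact ((show Commute x z from h.zS x (M.le C.xE)).zpow_right a').mul_right
        ((show Commute x (ap g z) from M.image_central h g C.xE).zpow_right b')
    have hxc : Commute x c := by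
      have := hxm.inv_right.mul_right hxe
      rwa [mul_inv_rev, inv_inv, inv_mul_cancel_right] at this
    exact hxc.symm.eq
  have hτq : ap τ n = q := by
    obtain ⟨m, rfl⟩ := hj
    rw [hτn, zpow_mul, zpow_natCast, C.pow_img M h hgX hg hr C.ximg, one_zpow, mul_one]
  obtain ⟨d, hd, l, hl⟩ := M.decomp_inner h hgX hg hr hn hnE hq
  have hl1 : (p : ℤ) ∣ l - 1 := by
    obtain ⟨s, hs⟩ := h.comm n hn _ hr
    have h1 : ⁅ap τ n, ap τ (ap g z)⁆ = (z⁻¹) ^ s := by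
      rw [← ap_comm τ hnS (M.le hrE), show ⁅n, ap g z⁆ = z ^ s from hs.symm, ap_zpow τ (M.le M.zE), hτz]
    have hdr : ⁅d, ap g z⁆ = 1 := commutatorElement_eq_one_iff_mul_comm.mpr (M.image_central h g hd.1)
    have hzr : (z ^ j₁ * ap g z) ∈ Q := Q.mul_mem (Q.zpow_mem h.zQ _) hr
    rw [hτq, hl, hτr, ← zpow_neg_one (z ^ j₁ * ap g z),
      h.comm_zpow_right (h.le (Q.mul_mem hd.2 (Q.zpow_mem hn l))) (h.le hzr)
        (h.comm _ (Q.mul_mem hd.2 (Q.zpow_mem hn l)) _ hzr),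
      h.comm_mul_right (M.le (E.zpow_mem M.zE j₁)) (h.comm _ (Q.mul_mem hd.2 (Q.zpow_mem hn l)) _ hr),
      h.comm_z_right (h.le (Q.mul_mem hd.2 (Q.zpow_mem hn l))) (zpow_mem (mem_zpowers z) j₁), one_mul,
      h.comm_mul_left (h.le hd.2) (h.comm _ (Q.zpow_mem hn l) _ hr), hdr, mul_one,
      h.comm_zpow_left hnS (h.le hr) (h.comm n hn _ hr), zpow_neg_one, inv_zpow, inv_inj,
      show z ^ s = ⁅n, ap g z⁆ from hs] at h1
    exact dvd_sub_one_of_zpow (orderOf_eq_prime (h.comm_pow hn hr) hnr) h1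
  obtain ⟨m, hm⟩ := hl1
  have hpow : ap τ (n ^ p) = n ^ p := by
    have hnp : (n ^ p) ^ m ∈ E ⊓ Q := Amb.zle h (M.zD h) (zpow_mem (h.pw n hn) m)
    have e : q = d * (n ^ p) ^ m * n := by
      rw [hl, show l = (p : ℤ) * m + 1 by omega, zpow_add, zpow_mul, zpow_natCast, zpow_one, mul_assoc]
    rw [ap_pow τ hnS, hτq, e, h.mul_pow (Q.mul_mem hd.2 hnp.2) hn,
      C.pow_D M h hgX hg hr (mul_mem hd hnp), one_mul]
  obtain ⟨e, he⟩ := h.pw n hn
  have he' : z ^ e = n ^ p := he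
  rw [← he', ap_zpow τ (M.le M.zE), hτz, inv_zpow, inv_eq_iff_mul_eq_one, ← zpow_add] at hpow
  have h2 : (p : ℤ) ∣ e + e := by rw [← h.ord]; exact orderOf_dvd_iff_zpow_eq_one.mpr hpow
  rw [← two_mul] at h2
  rcases Int.Prime.dvd_mul' hp.out h2 with h3 | h3
  · exfalso
    have := Nat.le_of_dvd two_pos (Int.natCast_dvd_natCast.mp h3)
    have := hp.out.two_le
    obtain ⟨o, ho⟩ := h.odd
    omega
  · rw [← he']
    exact orderOf_dvd_iff_zpow_eq_one.mp (by rw [h.ord]; exact h3)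

end Core

end CfsgLib.IndexExtra
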