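import Cfsg.Agent.Lib.GTwoSpec.Transitive
import Cfsg.Agent.Lib.AutPSL.Unitriangular
import Cfsg.Agent.Lib.ClassicalGroups.Count

/-!
The seventh power of `p` does not divide the order of `G₂(p)`: count the primitive idempotents of
the split octonions; the stabiliser of one embeds in `SL₃(p)`.
-/

set_option autoImplicit false

namespace CfsgLib.IndexExtra

open Matrix Cfsg.Lie CfsgLib.OctG2 CfsgLib.NormalCover.OctEven CfsgLib.G2Spec

variable {K : Type*} [Field K]

/-- The linear functional `b ↦ a · b`. -/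
def dotL (a : Fin 3 → K) : (Fin 3 → K) →ₗ[K] K where
  toFun b := dot3 a b
  map_add' x y := by simp [dot3]; ring
  map_smul' c x := by simp [dot3]; ring

theorem card_dot_fiber [Fintype K] {a : Fin 3 → K} (ha : a ≠ 0) (c : K) :
    Nat.card {b : Fin 3 → K // dot3 a b = c} = Fintype.card K ^ 2 := by
  classical
  obtain ⟨i, hi⟩ : ∃ i, a i ≠ 0 := Function.ne_iff.1 ha
  have hs : Function.Surjective (dotL a) := fun c => by
    refine ⟨Pi.single i (c / a i), ?_⟩
    show dot3 a (Pi.single i (c / a i)) = c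
    have key : ∀ (i : Fin 3) (x : K), dot3 a (Pi.single i x) = a i * x := fun i x => by
      fin_cases i <;> simp [dot3]
    rw [key, mul_div_cancel₀ _ hi]
  obtain ⟨b0, hb0⟩ := hs c
  have hk : Module.finrank K (LinearMap.ker (dotL a)) = 2 := by
    have h := (dotL a).finrank_range_add_finrank_ker
    rw [LinearMap.range_eq_top.2 hs, finrank_top, Module.finrank_self, Module.finrank_fin_fun] at h
    omega
  rw [show Fintype.card K ^ 2 = Nat.card (LinearMap.ker (dotL a)) by
    rw [Module.natCard_eq_pow_finrank (K := K), hk, Nat.card_eq_fintype_card]]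
  refine Nat.card_congr
    { toFun := fun b => ⟨b.1 - b0, by rw [LinearMap.mem_ker, map_sub, hb0, sub_eq_zero]; exact b.2⟩
      invFun := fun v => ⟨v.1 + b0, by
        show dotL a (v.1 + b0) = c
        rw [map_add, hb0, LinearMap.mem_ker.1 v.2, zero_add]⟩
      left_inv := fun b => by simp
      right_inv := fun v => by simp }

theorem card_idem [Fintype K] :
    Nat.card {w : Fin 8 → K // trc w = 1 ∧ nrm w = 0} = Fintype.card K ^ 6 + Fintype.card K ^ 3 := by
  classical
  let e : {w : Fin 8 → K // trc w = 1 ∧ nrm w = 0} ≃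
      (Σ x : K, Σ a : Fin 3 → K, {b : Fin 3 → K // dot3 a b = x * (1 - x)}) :=
    { toFun := fun w => ⟨w.1 0, zA K w.1, zB K w.1, by
        obtain ⟨h1, h2⟩ := w.2
        rw [trc_apply] at h1
        rw [nrm, sub_eq_zero] at h2
        linear_combination -h2 + w.1 0 * h1⟩
      invFun := fun s => ⟨![s.1, s.2.1 0, s.2.1 1, s.2.1 2, s.2.2.1 0, s.2.2.1 1, s.2.2.1 2, 1 - s.1], by
        refine ⟨by simp [trc_apply], ?_⟩
        have hA : zA K ![s.1, s.2.1 0, s.2.1 1, s.2.1 2, s.2.2.1 0, s.2.2.1 1, s.2.2.1 2, 1 - s.1] = s.2.1 := by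
          funext i; fin_cases i <;> rfl
        have hB : zB K ![s.1, s.2.1 0, s.2.1 1, s.2.1 2, s.2.2.1 0, s.2.2.1 1, s.2.2.1 2, 1 - s.1] = s.2.2.1 := by
          funext i; fin_cases i <;> rfl
        rw [nrm, hA, hB, s.2.2.2]
        simp⟩
      left_inv := fun w => by
        obtain ⟨w, h1, h2⟩ := w
        refine Subtype.ext ?_
        rw [trc_apply] at h1
        funext i
        fin_cases i <;> simp
        linear_combination -h1
      right_inv := fun s => by
        obtain ⟨x, a, b, h⟩ := s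
        have hA : zA K ![x, a 0, a 1, a 2, b 0, b 1, b 2, 1 - x] = a := by
          funext i; fin_cases i <;> rfl
        have hB : zB K ![x, a 0, a 1, a 2, b 0, b 1, b 2, 1 - x] = b := by
          funext i; fin_cases i <;> rfl
        refine Sigma.ext rfl (heq_of_eq ?_)
        exact Sigma.subtype_ext hA hB }
  rw [Nat.card_congr e, Nat.card_sigma]
  have hin : ∀ x : K, Nat.card (Σ a : Fin 3 → K, {b : Fin 3 → K // dot3 a b = x * (1 - x)}) =
      (Fintype.card K ^ 3 - 1) * Fintype.card K ^ 2 +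
        if x = 0 ∨ x = 1 then Fintype.card K ^ 3 else 0 := by
    intro x
    rw [Nat.card_sigma, ← Finset.add_sum_erase _ _ (Finset.mem_univ (0 : Fin 3 → K)),
      Finset.sum_congr rfl fun a ha => card_dot_fiber (Finset.ne_of_mem_erase ha) _,
      Finset.sum_const, smul_eq_mul, Finset.card_erase_of_mem (Finset.mem_univ _), Finset.card_univ,
      Fintype.card_fun, Fintype.card_fin, add_comm]
    congr 1
    have h0 : ∀ b : Fin 3 → K, dot3 0 b = 0 := fun b => by simp [dot3]
    split_ifs with hx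
    · rw [Nat.card_congr (Equiv.subtypeUnivEquiv fun b => by rw [h0]; rcases hx with rfl | rfl <;> simp),
        Nat.card_eq_fintype_card, Fintype.card_fun, Fintype.card_fin]
    · push Not at hx
      rw [Nat.card_eq_zero]
      refine Or.inl ⟨fun b => ?_⟩
      have := b.2
      rw [h0, eq_comm, mul_eq_zero, sub_eq_zero] at this
      rcases this with h | h
      · exact hx.1 h
      · exact hx.2 h.symm
  have h2 : (Finset.univ.filter fun x : K => x = 0 ∨ x = 1).card = 2 := by
    rw [show (Finset.univ.filter fun x : K => x = 0 ∨ x = 1) = {0, 1} by ext x; simp]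
    exact Finset.card_pair zero_ne_one
  simp only [hin, Finset.sum_add_distrib, Finset.sum_const, smul_eq_mul, Finset.card_univ]
  rw [← Finset.sum_filter, Finset.sum_const, h2, smul_eq_mul]
  obtain ⟨n, hn⟩ : ∃ n, Fintype.card K ^ 3 = n + 1 :=
    ⟨_, (Nat.succ_pred_eq_of_pos (pow_pos Fintype.card_pos 3)).symm⟩
  have e6 : Fintype.card K ^ 6 = (n + 1) * (n + 1) := by rw [← hn]; ring
  rw [hn, e6, Nat.add_sub_cancel,
    show Fintype.card K * (n * Fintype.card K ^ 2) = n * Fintype.card K ^ 3 by ring, hn]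
  ring

theorem not_pow_seven_dvd_card_G2 (p : ℕ) [hp : Fact p.Prime] (h5 : 5 ≤ p) :
    ¬ p ^ 7 ∣ Nat.card (G2 (ZMod p)) := by
  classical
  let St : Subgroup (G2 (ZMod p)) :=
    { carrier := {g | app g (e0 : Fin 8 → ZMod p) = e0}
      one_mem' := app_one _
      mul_mem' := fun {g h} hg hh => by show app (g * h) _ = _; rw [app_mul, hh, hg]
      inv_mem' := fun {g} hg => by
        show app g⁻¹ _ = _
        conv_lhs => rw [← (show app g (e0 : Fin 8 → ZMod p) = e0 from hg)]
        rw [app_inv] }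
  have hex : ∀ g : St, ∃ A : Matrix.SpecialLinearGroup (Fin 3) (ZMod p),
      ∀ x, app (g : G2 (ZMod p)) x = slLin A.1 x := fun g => by
    obtain ⟨A, hA, hx⟩ := exists_slLin_of_fix g.2
    exact ⟨⟨A, hA⟩, hx⟩
  choose φ hφ using hex
  let f : St →* Matrix.SpecialLinearGroup (Fin 3) (ZMod p) := MonoidHom.mk' φ fun g h => by
    refine Subtype.ext (slLin_injective fun x => ?_)
    rw [Matrix.SpecialLinearGroup.coe_mul, ← slLin_comp, ← hφ, ← hφ, ← hφ, Subgroup.coe_mul, app_mul]
  have hf : Function.Injective f := fun g h e => Subtype.ext <| app_ext fun x => by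
    rw [hφ g, hφ h]; exact congrArg (fun A => slLin A.1 x) e
  have h3 : ∃ α : ZMod p, α ≠ 0 ∧ α ≠ 1 := by
    refine ⟨((2 : ℕ) : ZMod p), fun h => ?_, fun h => ?_⟩
    · exact absurd (Nat.le_of_dvd two_pos ((ZMod.natCast_eq_zero_iff 2 p).1 h)) (by omega)
    · rw [← Nat.cast_one, ZMod.natCast_eq_natCast_iff', Nat.mod_eq_of_lt (by omega),
        Nat.mod_eq_of_lt (by omega)] at h
      omega
  have hc := CfsgLib.ClassicalGroups.natCard_eq_image_mul St
    (fun g => app g (e0 : Fin 8 → ZMod p)) {w | trc w = 1 ∧ nrm w = 0}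
    (fun a b => by
      show _ ↔ app (a⁻¹ * b) e0 = e0
      rw [app_mul]
      constructor
      · intro h; rw [← h, app_inv]
      · intro h
        have := congrArg (app a) h
        rw [app_inv'] at this
        exact this.symm)
    (fun g => ⟨by rw [(invariants g _).1]; simp [trc_apply, e0],
      by rw [(invariants g _).2]; simp [nrm, e0, dot3]⟩)
    (fun w hw => by
      obtain ⟨g, hg⟩ := exists_to_e0 h3 hw.1 hw.2
      refine ⟨g⁻¹, ?_⟩
      show app g⁻¹ e0 = w
      rw [← hg, app_inv])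
  rw [show Nat.card ({w | trc w = 1 ∧ nrm w = 0} : Set (Fin 8 → ZMod p)) = _ from card_idem (K := ZMod p),
    ZMod.card] at hc
  have hSt : Nat.card St ∣ p ^ 3 * (CfsgLib.AutPSL.uni 3 (ZMod p)).index := by
    have h := Subgroup.card_dvd_of_injective f hf
    rwa [← (CfsgLib.AutPSL.uni 3 (ZMod p)).card_mul_index, CfsgLib.AutPSL.card_uni, ZMod.card,
      show (∑ i : Fin 3, (i : ℕ)) = 3 by decide] at h
  intro hd
  rw [hc] at hd
  have h1 : p ^ 6 * p ∣ p ^ 6 * ((p ^ 3 + 1) * (CfsgLib.AutPSL.uni 3 (ZMod p)).index) := by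
    rw [← pow_succ]
    refine (hd.trans (Nat.mul_dvd_mul_left _ hSt)).trans (dvd_of_eq ?_)
    ring
  rcases hp.out.dvd_mul.1 ((Nat.mul_dvd_mul_iff_left (pow_pos hp.out.pos 6)).1 h1) with h | h
  · exact hp.out.one_lt.ne' (Nat.dvd_one.1 ((Nat.dvd_add_right (dvd_pow_self p three_ne_zero)).1 h))
  · exact CfsgLib.AutPSL.not_dvd_index_uni (by norm_num) h

end CfsgLib.IndexExtra
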