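import Cfsg.Agent.Lib.Fusion.IndexExtra.ModelTools
import Cfsg.Agent.Lib.Fusion.IndexExtra.ModelG2Card
import Cfsg.Agent.Lib.GTwoSpec.Octonion
import Cfsg.Agent.Lib.GTwoDeg.Rel
import Cfsg.Agent.Lib.GTwoDeg.HeckeSum

/-!
The frame of a Sylow `p`-subgroup of `G₂(p)`, `p ≥ 5`: the word coordinates of the unipotent radical
of the long root parabolic, and the short simple root element.
-/

set_option autoImplicit false

namespace CfsgLib.IndexExtra

open Cfsg.Lie CfsgLib.ChevStr CfsgLib.GTwoDeg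

section Radical

variable {F : Type*} [Field F]

/-- The product `x_b x_{a+b} x_{2a+b} x_{3a+b} x_{3a+2b}`. -/
noncomputable def el (B C D E Z : F) : G2g F := X 6 B * X 8 C * X 9 D * X 10 E * X 11 Z

theorem eq_el_six (t : F) : X 6 t = el t 0 0 0 0 := by simp [el, X_zero]
theorem eq_el_eight (t : F) : X 8 t = el 0 t 0 0 0 := by simp [el, X_zero]
theorem eq_el_nine (t : F) : X 9 t = el 0 0 t 0 0 := by simp [el, X_zero]
theorem eq_el_ten (t : F) : X 10 t = el 0 0 0 t 0 := by simp [el, X_zero]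
theorem eq_el_eleven (t : F) : X 11 t = el 0 0 0 0 t := by simp [el, X_zero]
theorem el_zero : el (0 : F) 0 0 0 0 = 1 := by simp [el, X_zero]

theorem ten_six (E B : F) : X 10 E * X 6 B = (X 6 B * X 10 E * X 11 (-(B * E)) : G2g F) := by
  have h := b_e B E
  rw [mul_inv_eq_iff_eq_mul] at h
  rw [h, mul_assoc (X 10 E), (comm_pair (r := 11) (s := 6) (by simp) _ _).eq, ← mul_assoc, mul_assoc,
    ← X_add, add_neg_cancel, X_zero, mul_one]

theorem nine_eight (D C : F) : X 9 D * X 8 C = (X 8 C * X 9 D * X 11 (-(3 * C * D)) : G2g F) := by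
  have h := c_d C D
  rw [mul_inv_eq_iff_eq_mul] at h
  rw [h, mul_assoc (X 9 D), (comm_pair (r := 11) (s := 8) (by simp) _ _).eq, ← mul_assoc, mul_assoc,
    ← X_add, add_neg_cancel, X_zero, mul_one]

theorem eleven_comm {r : ℕ} (hr : r ∈ [6, 8, 9, 10, 7]) (t u : F) :
    (X 11 t * X r u : G2g F) = X r u * X 11 t := by
  fin_cases hr <;> exact (comm_pair (by simp) t u).eq

theorem el_mul_six (B C D E Z b : F) :
    el B C D E Z * X 6 b = el (B + b) C D E (Z - b * E) := by
  simp only [el, mul_assoc]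
  rw [eleven_comm (by simp), ← mul_assoc (X 10 E), ten_six]
  simp only [← mul_assoc]
  rw [mul_assoc (X 6 B * X 8 C) (X 9 D) (X 6 b), ← (comm_pair (r := 6) (s := 9) (by simp) b D).eq,
    ← mul_assoc, mul_assoc (X 6 B) (X 8 C) (X 6 b), ← (comm_pair (r := 6) (s := 8) (by simp) b C).eq,
    ← mul_assoc, ← X_add, mul_assoc (X 6 (B + b) * X 8 C * X 9 D * X 10 E) _ (X 11 Z), ← X_add,
    neg_add_eq_sub]

theorem el_mul_eight (B C D E Z c : F) :
    el B C D E Z * X 8 c = el B (C + c) D E (Z - 3 * c * D) := by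
  simp only [el, mul_assoc]
  rw [eleven_comm (by simp), ← mul_assoc (X 10 E), ← (comm_pair (r := 8) (s := 10) (by simp) c E).eq,
    mul_assoc (X 8 c), ← mul_assoc (X 9 D), nine_eight]
  simp only [← mul_assoc]
  rw [mul_assoc (X 6 B) (X 8 C), ← X_add,
    mul_assoc (X 6 B * X 8 (C + c) * X 9 D) (X 11 _) (X 10 E), eleven_comm (by simp), ← mul_assoc,
    mul_assoc (X 6 B * X 8 (C + c) * X 9 D * X 10 E) _ (X 11 Z), ← X_add, neg_add_eq_sub]

theorem el_mul_nine (B C D E Z d : F) : el B C D E Z * X 9 d = el B C (D + d) E Z := by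
  simp only [el, mul_assoc]
  rw [eleven_comm (by simp), ← mul_assoc (X 10 E), ← (comm_pair (r := 9) (s := 10) (by simp) d E).eq,
    mul_assoc (X 9 d), ← mul_assoc (X 9 D), ← X_add]

theorem el_mul_ten (B C D E Z e : F) : el B C D E Z * X 10 e = el B C D (E + e) Z := by
  simp only [el, mul_assoc]
  rw [eleven_comm (by simp), ← mul_assoc (X 10 E), ← X_add]

theorem el_mul_eleven (B C D E Z z : F) : el B C D E Z * X 11 z = el B C D E (Z + z) := by
  simp only [el, mul_assoc]
  rw [← X_add]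

theorem el_mul (B C D E Z B' C' D' E' Z' : F) : el B C D E Z * el B' C' D' E' Z' =
    el (B + B') (C + C') (D + D') (E + E') (Z + Z' - B' * E - 3 * C' * D) := by
  conv_lhs => arg 2; simp only [el]
  simp only [← mul_assoc, el_mul_six, el_mul_eight, el_mul_nine, el_mul_ten, el_mul_eleven]
  congr 1
  ring

theorem el_pow {h : F} (hh : h + h = 1) (B C D E Z : F) : ∀ m : ℕ, el B C D E Z ^ m =
    el (m * B) (m * C) (m * D) (m * E) (m * Z - h * (m * (m - 1)) * (B * E + 3 * C * D))
  | 0 => by simp [el_zero]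
  | m + 1 => by
    rw [pow_succ, el_pow hh B C D E Z m, el_mul]
    congr 1 <;> push_cast
    · ring
    · ring
    · ring
    · ring
    · linear_combination ((m : F) * (B * E + 3 * C * D)) * hh

theorem seven_conj (B C D E Z : F) : X 7 1 * el B C D E Z * (X 7 1 : G2g F)⁻¹ =
    el B (C - B) (B - 2 * C + D) (B - 3 * C + 3 * D + E) (B ^ 2 + 3 * C ^ 2 - 3 * C * B + Z) := by
  have key : ∀ g g' : G2g F, X 7 1 * (g * g') * (X 7 1)⁻¹ =
      (X 7 1 * g * (X 7 1)⁻¹) * (X 7 1 * g' * (X 7 1)⁻¹) := fun g g' => by group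
  have fix : ∀ {r : ℕ} (t : F), Commute (X 7 1 : G2g F) (X r t) →
      X 7 1 * X r t * (X 7 1 : G2g F)⁻¹ = X r t := fun t h => by rw [h.eq, mul_inv_cancel_right]
  conv_lhs => simp only [el, key, a_b, a_c, a_d, fix E (a_e 1 E),
    fix Z (comm_pair (r := 11) (s := 7) (by simp) Z 1).symm]
  simp only [one_pow, one_mul, mul_one, ← mul_assoc]
  rw [eq_el_six]
  simp only [el_mul_six, el_mul_eight, el_mul_nine, el_mul_ten, el_mul_eleven]
  congr 1 <;> ring

/-- The six generators; `h` is one half and `k` is minus one sixth. -/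
noncomputable def g2W (h k : F) : Fin 6 → G2g F :=
  ![el 0 0 0 0 6, el 0 0 0 6 0, el 0 0 2 6 3, el 0 (-1) 1 h (3 * h), el 1 0 k 0 0, X 7 1]

theorem g2W_chain {p : ℕ} [CharP F p] {h k : F} (hh : h + h = 1) (hk : 1 + 3 * k = h) :
    Chain p (g2W h k) := by
  constructor
  case pow =>
    intro i
    fin_cases i <;> simp [g2W]
    case «5» =>
      have hX : ∀ m : ℕ, (X 7 1 : G2g F) ^ m = X 7 (m : F) := by
        intro m
        induction m with
        | zero => simp [X_zero]
        | succ m ih => rw [pow_succ, ih, ← X_add]; push_cast; ring_nf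
      rw [hX, CharP.cast_eq_zero, X_zero]
    all_goals rw [el_pow hh]; simp [CharP.cast_eq_zero, el_zero]
  case xz => simp [g2W, seven_conj]
  case xr => simp [g2W, seven_conj]
  case xc => simp [g2W, seven_conj, el_mul]; congr 1 <;> ring
  case xy =>
    simp [g2W, seven_conj, el_mul]
    congr 1 <;> first | ring1 | linear_combination hh | linear_combination -hh
  case xn =>
    simp [g2W, seven_conj, el_mul]
    congr 1 <;> first | ring1 | linear_combination hk | linear_combination -hk |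
      linear_combination hh + hk | linear_combination -hh - hk | linear_combination -hh + hk |
      linear_combination hh - hk | linear_combination -hk - 2 * hh | linear_combination hk + 2 * hh
  all_goals rw [mul_inv_eq_iff_eq_mul]
  case cy =>
    have hz : (el 0 0 0 0 6 : G2g F)⁻¹ = el 0 0 0 0 (-6) := inv_eq_of_mul_eq_one_right (by
      rw [el_mul]; simp [el_zero])
    simp [g2W, hz, el_mul]
    congr 1 <;> ring
  case ny =>
    simp [g2W, el_mul]
    congr 1 <;> first | ring1 | linear_combination -hh + hk | linear_combination hh - hk |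
      linear_combination hh + hk | linear_combination -hh - hk | linear_combination -2 * hh + hk |
      linear_combination 2 * hh - hk
  all_goals simp [g2W, el_mul]
  all_goals congr 1 <;> ring

end Radical

theorem pos_table : ∀ r : Fin 12, chevG2.IsPosRoot r.val → 6 ≤ r.val := by decide +kernel

theorem g2W_card {p : ℕ} [Fact p.Prime] {h k : ZMod p} (h2 : (2 : ZMod p) ≠ 0) (h6 : (6 : ZMod p) ≠ 0) :
    p ^ 6 ≤ Nat.card (Subgroup.closure (Set.range (g2W h k))) := by
  classical
  let Kc := Subgroup.closure (Set.range (g2W h k))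
  have hw : ∀ i, g2W h k i ∈ Kc := fun i => Subgroup.subset_closure (Set.mem_range_self i)
  have hall : ∀ (r : ℕ) (s : ZMod p), s ≠ 0 → (X r s : G2g (ZMod p)) ∈ Kc → ∀ t, X r t ∈ Kc := by
    intro r s hs hm t
    have hn : ∀ m : ℕ, (X r ((m : ZMod p) * s) : G2g (ZMod p)) = X r s ^ m := by
      intro m
      induction m with
      | zero => simp [X_zero]
      | succ m ih => rw [pow_succ, ← ih, ← X_add]; push_cast; ring_nf
    have := hn (t / s).val
    rw [ZMod.natCast_zmod_val, div_mul_cancel₀ t hs] at this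
    rw [this]
    exact pow_mem hm _
  have h11 := hall 11 6 h6 (by rw [eq_el_eleven]; exact hw 0)
  have h10 := hall 10 6 h6 (by rw [eq_el_ten]; exact hw 1)
  have h9 : ∀ t, X 9 t ∈ Kc := hall 9 2 h2 (by
    have := mul_mem (mul_mem (hw 2) (h11 (-3))) (h10 (-6))
    simpa [g2W, el_mul_eleven, el_mul_ten, ← eq_el_nine] using this)
  have h8 : ∀ t, X 8 t ∈ Kc := hall 8 (-1) (neg_ne_zero.2 one_ne_zero) (by
    have := mul_mem (mul_mem (mul_mem (hw 3) (h11 (-(3 * h)))) (h10 (-h))) (h9 (-1))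
    simpa [g2W, el_mul_eleven, el_mul_ten, el_mul_nine, ← eq_el_eight] using this)
  have h6' : ∀ t, X 6 t ∈ Kc := hall 6 1 one_ne_zero (by
    have := mul_mem (hw 4) (h9 (-k))
    simpa [g2W, el_mul_nine, ← eq_el_six] using this)
  have h7 : ∀ t, X 7 t ∈ Kc := hall 7 1 one_ne_zero (hw 5)
  have hle : (coreG2 (ZMod p)).Ucl {r | chevG2.IsPosRoot r} ≤ Kc.map (chevG2.group (ZMod p)).subtype := by
    refine (Subgroup.closure_le _).2 ?_
    rintro _ ⟨r, hr, t, rfl⟩
    have hlt : r < 12 := ((coreG2 (ZMod p)).R.isClosed_pos.1 r hr).1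
    have hr6 : 6 ≤ r := pos_table ⟨r, hlt⟩ hr
    refine ⟨X r t, ?_, coe_X r t⟩
    interval_cases r
    exacts [h6' t, h7 t, h8 t, h9 t, h10 t, h11 t]
  have hc := (coreG2 (ZMod p)).card_Ucl (S := {r | chevG2.IsPosRoot r}) (coreG2 (ZMod p)).R.isClosed_pos
  rw [ncard_isPosRoot (D := chevG2) (N := 6) (by decide +kernel), ZMod.card] at hc
  rw [← hc, show Nat.card Kc = Nat.card (Kc.map (chevG2.group (ZMod p)).subtype) from
    (Subgroup.card_map_of_injective (chevG2.group (ZMod p)).subtype_injective).symm]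
  exact Nat.card_le_card_of_injective _ (Subgroup.inclusion_injective hle)

/-- The model in `G₂(p)`. -/
theorem exists_chain_G2 (p : ℕ) [Fact p.Prime] (h5 : 5 ≤ p) :
    ∃ (P : Sylow p (Cfsg.Lie.G2 (ZMod p))) (w : Fin 6 → P),
      Chain p w ∧ Nat.card P = p ^ 6 ∧ Subgroup.closure (Set.range w) = ⊤ := by
  have hp : p.Prime := Fact.out
  have hne : ∀ n : ℕ, n ≠ 0 → n.primeFactors ⊆ {2, 3} → (n : ZMod p) ≠ 0 := fun n hn hs h => by
    have := hs (Nat.mem_primeFactors.2 ⟨hp, (ZMod.natCast_eq_zero_iff n p).1 h, hn⟩)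
    simp at this
    omega
  have h20 : (2 : ZMod p) ≠ 0 := by
    simpa using hne 2 two_ne_zero (by rw [Nat.Prime.primeFactors Nat.prime_two]; simp)
  have h30 : (3 : ZMod p) ≠ 0 := by
    simpa using hne 3 three_ne_zero (by rw [Nat.Prime.primeFactors Nat.prime_three]; simp)
  have h60 : (6 : ZMod p) ≠ 0 := by
    rw [show (6 : ZMod p) = 2 * 3 by norm_num]; exact mul_ne_zero h20 h30
  have hh : (2 : ZMod p)⁻¹ + (2 : ZMod p)⁻¹ = 1 := by field_simp; norm_num
  have hk : 1 + 3 * (-(6 : ZMod p)⁻¹) = (2 : ZMod p)⁻¹ := by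
    rw [show (6 : ZMod p) = 3 * 2 by norm_num, mul_inv, mul_neg, ← mul_assoc, mul_inv_cancel₀ h30]
    linear_combination -hh
  have hch := g2W_chain (p := p) hh hk
  let φ : G2g (ZMod p) →* Cfsg.Lie.G2 (ZMod p) := CfsgLib.G2Spec.oct
  refine exists_sylow_chain (w := fun i => φ (g2W _ _ i)) (Chain.map φ hch) ?_
    (not_pow_seven_dvd_card_G2 p h5)
  rw [show (Set.range fun i => φ (g2W ((2 : ZMod p)⁻¹) (-(6 : ZMod p)⁻¹) i)) =
    φ '' Set.range (g2W ((2 : ZMod p)⁻¹) (-(6 : ZMod p)⁻¹)) from Set.range_comp φ _,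
    ← MonoidHom.map_closure, Subgroup.card_map_of_injective CfsgLib.G2Spec.oct_injective]
  exact g2W_card h20 h60

end CfsgLib.IndexExtra
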