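import Cfsg.Agent.Lib.Fusion.IndexExtra.ModelTools
import Cfsg.Agent.Lib.AutPSL.Unitriangular

/-!
The frame of a Sylow `p`-subgroup of `SL₄(p)`, `p` odd.
-/

set_option autoImplicit false

namespace CfsgLib.IndexExtra

open Matrix

section SLFour

variable {F : Type*} [Field F]

/-- The unitriangular matrix with entries `12, 13, 14, 23, 24, 34`. -/
def ut4M (a b c d e f : F) : Matrix (Fin 4) (Fin 4) F :=
  !![1, a, b, c; 0, 1, d, e; 0, 0, 1, f; 0, 0, 0, 1]

theorem det_ut4M (a b c d e f : F) : (ut4M a b c d e f).det = 1 := by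
  rw [Matrix.det_of_isUpperTriangular]
  · simp [ut4M, Fin.prod_univ_four]
  · intro i j h
    fin_cases i <;> fin_cases j <;> simp_all [ut4M]

/-- The unitriangular element with the given entries. -/
def ut4 (a b c d e f : F) : Matrix.SpecialLinearGroup (Fin 4) F := ⟨ut4M a b c d e f, det_ut4M ..⟩

theorem ut4_mul (a b c d e f a' b' c' d' e' f' : F) : ut4 a b c d e f * ut4 a' b' c' d' e' f' =
    ut4 (a + a') (b + b' + a * d') (c + c' + a * e' + b * f') (d + d') (e + e' + d * f') (f + f') := by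
  refine Subtype.ext ?_
  show ut4M a b c d e f * ut4M a' b' c' d' e' f' = ut4M _ _ _ _ _ _
  ext i j
  fin_cases i <;> fin_cases j <;> simp [ut4M, Matrix.mul_apply, Fin.sum_univ_four] <;> ring

theorem ut4_zero : ut4 (0 : F) 0 0 0 0 0 = 1 := by
  refine Subtype.ext ?_
  show ut4M (0 : F) 0 0 0 0 0 = 1
  ext i j
  fin_cases i <;> fin_cases j <;> simp [ut4M]

theorem ut4_inj {a b c d e f a' b' c' d' e' f' : F} (h : ut4 a b c d e f = ut4 a' b' c' d' e' f') :
    a = a' ∧ b = b' ∧ c = c' ∧ d = d' ∧ e = e' ∧ f = f' := by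
  have h' : ∀ i j, ut4M a b c d e f i j = ut4M a' b' c' d' e' f' i j := fun i j => by
    exact congrFun (congrFun (congrArg Subtype.val h) i) j
  exact ⟨by simpa [ut4M] using h' 0 1, by simpa [ut4M] using h' 0 2, by simpa [ut4M] using h' 0 3,
    by simpa [ut4M] using h' 1 2, by simpa [ut4M] using h' 1 3, by simpa [ut4M] using h' 2 3⟩

theorem ut4_pow {a b c d e f : F} (h1 : a * d = 0) (h2 : a * e + b * f = 0) (h3 : d * f = 0) :
    ∀ k : ℕ, ut4 a b c d e f ^ k = ut4 (k * a) (k * b) (k * c) (k * d) (k * e) (k * f)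
  | 0 => by simp [ut4_zero]
  | k + 1 => by
    rw [pow_succ, ut4_pow h1 h2 h3 k, ut4_mul]
    congr 1 <;> push_cast
    · ring
    · linear_combination (k : F) * h1
    · linear_combination (k : F) * h2
    · ring
    · linear_combination (k : F) * h3
    · ring

/-- The six generators; `h` is one half. -/
def slW (h : F) : Fin 6 → Matrix.SpecialLinearGroup (Fin 4) F :=
  ![ut4 0 0 1 0 0 0, ut4 0 1 h 0 h 0, ut4 0 1 (-h) 0 (-h) 0, ut4 0 0 0 1 0 0, ut4 1 0 0 0 0 (-h),
    ut4 1 0 0 0 0 h]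

theorem slW_lag {p : ℕ} [CharP F p] {h : F} (hh : h + h = 1) : Lag p (-1) (slW h) := by
  constructor
  case pow =>
    intro k
    fin_cases k <;> simp [slW] <;> rw [ut4_pow (by ring) (by ring) (by ring)] <;>
      simp [CharP.cast_eq_zero, ut4_zero]
  all_goals rw [mul_inv_eq_iff_eq_mul]
  case mj =>
    rw [_root_.zpow_neg_one, mul_assoc, eq_inv_mul_iff_mul_eq]
    simp [slW, ut4_mul]
    congr 1
    linear_combination -hh
  all_goals simp [slW, ut4_mul]
  all_goals congr 1 <;> first | ring1 | linear_combination hh | linear_combination -hh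

theorem slW_normalWord {h : F} (t : Fin 6 → ℕ) : normalWord (slW h) t =
    ut4 ((t 4 : F) + t 5) ((t 1 : F) + t 2)
      ((t 0 : F) + h * ((t 1 : F) - t 2) + h * ((t 5 : F) - t 4) * ((t 1 : F) + t 2))
      (t 3) (h * ((t 1 : F) - t 2) + h * ((t 5 : F) - t 4) * t 3) (h * ((t 5 : F) - t 4)) := by
  simp only [normalWord, slW, Matrix.cons_val]
  rw [ut4_pow (by ring) (by ring) (by ring), ut4_pow (by ring) (by ring) (by ring),
    ut4_pow (by ring) (by ring) (by ring), ut4_pow (by ring) (by ring) (by ring),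
    ut4_pow (by ring) (by ring) (by ring), ut4_pow (by ring) (by ring) (by ring)]
  simp only [ut4_mul]
  congr 1 <;> ring

theorem natCast_fin_injective (p : ℕ) [CharP F p] {a b : Fin p} (h : ((a : ℕ) : F) = ((b : ℕ) : F)) :
    a = b :=
  Fin.ext (CharP.natCast_injOn_Iio F p a.isLt b.isLt h)

theorem slW_injective {p : ℕ} [CharP F p] {h : F} (hh : h + h = 1) :
    Function.Injective fun t : Fin 6 → Fin p => normalWord (slW h) fun k => (t k : ℕ) := by
  intro s t e
  simp only [slW_normalWord] at e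
  obtain ⟨e1, e2, e3, e4, e5, e6⟩ := ut4_inj e
  have c3 := natCast_fin_injective p (F := F) e4
  have h5 : ((s 5 : ℕ) : F) = ((t 5 : ℕ) : F) := by
    linear_combination e6 + h * e1 + (((t 5 : ℕ) : F) - ((s 5 : ℕ) : F)) * hh
  have h4 : ((s 4 : ℕ) : F) = ((t 4 : ℕ) : F) := by linear_combination e1 - h5
  have c4 := natCast_fin_injective p (F := F) h4
  have c5 := natCast_fin_injective p (F := F) h5
  rw [c3, c4, c5] at e5
  have e5' : h * (((s 1 : ℕ) : F) - (s 2 : ℕ)) = h * (((t 1 : ℕ) : F) - (t 2 : ℕ)) := by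
    linear_combination e5
  have h1 : ((s 1 : ℕ) : F) = ((t 1 : ℕ) : F) := by
    linear_combination e5' + h * e2 + (((t 1 : ℕ) : F) - ((s 1 : ℕ) : F)) * hh
  have h2 : ((s 2 : ℕ) : F) = ((t 2 : ℕ) : F) := by linear_combination e2 - h1
  rw [h1, h2, h4, h5] at e3
  have c0 := natCast_fin_injective p (F := F) (show ((s 0 : ℕ) : F) = ((t 0 : ℕ) : F) by linear_combination e3)
  have c1 := natCast_fin_injective p (F := F) h1
  have c2 := natCast_fin_injective p (F := F) h2
  funext k
  fin_cases k <;> assumption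

end SLFour

/-- The model in `SL₄(p)`. -/
theorem exists_lag_SL (p : ℕ) [Fact p.Prime] (hodd : Odd p) :
    ∃ (P : Sylow p (Matrix.SpecialLinearGroup (Fin 4) (ZMod p))) (w : Fin 6 → P),
      Lag p (-1) w ∧ Nat.card P = p ^ 6 ∧ Subgroup.closure (Set.range w) = ⊤ := by
  have hp : p.Prime := Fact.out
  have h2 : (2 : ZMod p) ≠ 0 := by
    intro h
    have : p ∣ 2 := (ZMod.natCast_eq_zero_iff 2 p).1 (by exact_mod_cast h)
    have := (Nat.prime_dvd_prime_iff_eq hp Nat.prime_two).1 this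
    subst this
    exact absurd hodd (by decide)
  have hh : (2 : ZMod p)⁻¹ + (2 : ZMod p)⁻¹ = 1 := by field_simp; norm_num
  have hcard : Nat.card (CfsgLib.AutPSL.uni 4 (ZMod p)) = p ^ 6 := by
    rw [CfsgLib.AutPSL.card_uni, ZMod.card, show (∑ i : Fin 4, (i : ℕ)) = 6 by decide]
  refine exists_sylow_lag (slW_lag hh) (slW_injective hh) fun hd => ?_
  rw [← (CfsgLib.AutPSL.uni 4 (ZMod p)).card_mul_index, hcard, pow_succ] at hd
  exact CfsgLib.AutPSL.not_dvd_index_uni (by norm_num)
    ((Nat.mul_dvd_mul_iff_left (pow_pos hp.pos 6)).1 hd)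

end CfsgLib.IndexExtra
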