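import Cfsg.Agent.Lib.Fusion.IndexExtra.ModelTools
import Cfsg.Agent.Lib.ClassicalGroups.HermGroup
import Cfsg.Agent.Lib.UnitaryEmbed.Herm

/-!
The frame of a Sylow `p`-subgroup of `SU₄(p)`, `p` odd.
-/

set_option autoImplicit false

namespace CfsgLib.IndexExtra

open Matrix

section SUFour

variable {K : Type*} [Field K] (σ : K →+* K) (dl : K)

/-- An element of the parabolic radical times an element of the Levi part, for the form with Gram
matrix `[[0, 1], [1, 0]]`. -/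
def suM (α β γ a : K) : Matrix (Fin 4) (Fin 4) K :=
  !![1, a, dl * (α - β * σ a), dl * β; 0, 1, dl * (σ β - γ * σ a), dl * γ; 0, 0, 1, 0; 0, 0, -σ a, 1]

theorem det_suM (α β γ a : K) : (suM σ dl α β γ a).det = 1 := by
  simp [suM, Matrix.det_succ_column_zero, Fin.sum_univ_succ, Fin.succAbove]

/-- The same as an element of `SL₄`. -/
def suS (α β γ a : K) : Matrix.SpecialLinearGroup (Fin 4) K := ⟨suM σ dl α β γ a, det_suM σ dl α β γ a⟩

variable {σ dl}

theorem suM_mul (h2 : ∀ x, σ (σ x) = x) {α β γ a α' β' γ' a' : K} (hγ : σ γ' = γ') :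
    suM σ dl α β γ a * suM σ dl α' β' γ' a' =
      suM σ dl (α + α' + a * σ β' + σ a * β' + a * σ a * γ') (β + β' + a * γ') (γ + γ') (a + a') := by
  ext i j
  fin_cases i <;> fin_cases j <;>
    simp [suM, Matrix.mul_apply, Fin.sum_univ_four, h2, hγ] <;> ring

theorem suS_mul (h2 : ∀ x, σ (σ x) = x) {α β γ a α' β' γ' a' : K} (hγ : σ γ' = γ') :
    suS σ dl α β γ a * suS σ dl α' β' γ' a' =
      suS σ dl (α + α' + a * σ β' + σ a * β' + a * σ a * γ') (β + β' + a * γ') (γ + γ') (a + a') :=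
  Subtype.ext (suM_mul h2 hγ)

theorem suS_zero : suS σ dl 0 0 0 0 = 1 := by
  refine Subtype.ext ?_
  show suM σ dl 0 0 0 0 = 1
  ext i j
  fin_cases i <;> fin_cases j <;> simp [suM]

theorem suS_pow (h2 : ∀ x, σ (σ x) = x) {α β γ a : K} (hγ : σ γ = γ)
    (h1 : a * σ β + σ a * β + a * σ a * γ = 0) (h3 : a * γ = 0) :
    ∀ k : ℕ, suS σ dl α β γ a ^ k = suS σ dl (k * α) (k * β) (k * γ) (k * a)
  | 0 => by simp [suS_zero]
  | k + 1 => by
    rw [pow_succ, suS_pow h2 hγ h1 h3 k, suS_mul h2 hγ]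
    congr 1 <;> push_cast
    · simp only [map_mul, map_natCast]
      linear_combination (k : K) * h1 + ((k : K) ^ 2 - (k : K)) * σ a * h3
    · linear_combination (k : K) * h3
    · ring
    · ring

theorem suS_zpow (h2 : ∀ x, σ (σ x) = x) (α : K) (k : ℤ) :
    suS σ dl α 0 0 0 ^ k = suS σ dl (k * α) 0 0 0 := by
  have hn : ∀ n : ℕ, suS σ dl α 0 0 0 ^ n = suS σ dl (n * α) 0 0 0 := fun n => by
    rw [suS_pow h2 (map_zero σ) (by simp) (by simp)]; simp
  cases k with
  | ofNat n => simp [hn]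
  | negSucc n =>
    rw [zpow_negSucc, hn, inv_eq_iff_mul_eq_one, suS_mul h2 (map_zero σ)]
    convert suS_zero (σ := σ) (dl := dl) using 2 <;> simp <;> ring

theorem suM_inj (hdl : dl ≠ 0) {α β γ a α' β' γ' a' : K}
    (h : suS σ dl α β γ a = suS σ dl α' β' γ' a') : α = α' ∧ β = β' ∧ γ = γ' ∧ a = a' := by
  have h' : ∀ i j, suM σ dl α β γ a i j = suM σ dl α' β' γ' a' i j := fun i j => by
    exact congrFun (congrFun (congrArg Subtype.val h) i) j
  have ha : a = a' := by simpa [suM] using h' 0 1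
  have hb : β = β' := by simpa [suM, hdl] using h' 0 3
  have hc : γ = γ' := by simpa [suM, hdl] using h' 1 3
  subst ha hb hc
  exact ⟨by simpa [suM, hdl] using h' 0 2, rfl, rfl, rfl⟩

variable (σ) in
/-- The form with Gram matrix `[[0, 1], [1, 0]]`. -/
def hJ (u v : Fin 4 → K) : K := u 0 * σ (v 2) + u 1 * σ (v 3) + u 2 * σ (v 0) + u 3 * σ (v 1)

theorem suM_preserves (h2 : ∀ x, σ (σ x) = x) (hd : σ dl = -dl) {α β γ a : K} (hα : σ α = α)
    (hγ : σ γ = γ) (u v : Fin 4 → K) :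
    hJ σ (suM σ dl α β γ a *ᵥ u) (suM σ dl α β γ a *ᵥ v) = hJ σ u v := by
  simp [hJ, suM, Matrix.mulVec, dotProduct, Fin.sum_univ_four, h2, hd, hα, hγ]
  ring

/-- The change of basis from the hyperbolic basis to the standard one. -/
def suT (c h : K) : Matrix (Fin 4) (Fin 4) K :=
  !![1, 0, h, 0; c, 0, -(c * h), 0; 0, 1, 0, h; 0, c, 0, -(c * h)]

/-- Its inverse. -/
def suTi (ci h : K) : Matrix (Fin 4) (Fin 4) K :=
  !![h, h * ci, 0, 0; 0, 0, h, h * ci; 1, -ci, 0, 0; 0, 0, 1, -ci]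

theorem suT_mul {c ci h : K} (hc : c * ci = 1) (hh : h + h = 1) : suT c h * suTi ci h = 1 := by
  ext i j
  fin_cases i <;> fin_cases j <;> simp [suT, suTi, Matrix.mul_apply, Fin.sum_univ_four] <;>
    first | ring1 | linear_combination hh | linear_combination c * ci * hh + hc

theorem suT_form {c h : K} (hc : c * σ c = -1) (hhs : σ h = h) (hh : h + h = 1) {p : ℕ}
    (hσ : ∀ x, σ x = x ^ p) (u v : Fin 4 → K) :
    Cfsg.hermForm 4 K p (suT c h *ᵥ u) (suT c h *ᵥ v) = hJ σ u v := by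
  simp only [Cfsg.hermForm, ← hσ]
  simp [hJ, suT, Matrix.mulVec, dotProduct, Fin.sum_univ_four, hhs]
  linear_combination (u 0 - h * u 2) * (σ (v 0) - h * σ (v 2)) * hc +
    (u 1 - h * u 3) * (σ (v 1) - h * σ (v 3)) * hc +
    (u 0 * σ (v 2) + u 1 * σ (v 3) + u 2 * σ (v 0) + u 3 * σ (v 1)) * hh

variable (σ dl) in
/-- The six generators; `e` is the square of `dl`. -/
def suW (e : K) : Fin 6 → Matrix.SpecialLinearGroup (Fin 4) K :=
  ![suS σ dl 2 0 0 0, suS σ dl 1 1 0 0, suS σ dl (-e) dl 0 0, suS σ dl 0 0 1 0, suS σ dl 0 0 0 1,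
    suS σ dl 0 0 0 dl]

theorem suW_lag {p : ℕ} [CharP K p] (h2 : ∀ x, σ (σ x) = x) (hd : σ dl = -dl) {eps : ℤ}
    (he : dl * dl = (eps : K)) : Lag p (-eps) (suW σ dl (eps : K)) := by
  have hmul := @suS_mul _ _ σ dl h2
  constructor
  case pow =>
    intro k
    fin_cases k <;> simp [suW] <;>
      rw [suS_pow h2 (by simp) (by simp) (by simp)] <;> simp [CharP.cast_eq_zero, suS_zero]
  all_goals rw [mul_inv_eq_iff_eq_mul]
  case mj =>
    simp only [suW, Matrix.cons_val]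
    rw [suS_zpow h2]
    simp [suS_mul h2 (map_zero σ), hd]
    congr 1
    linear_combination -2 * he
  all_goals simp [suW, suS_mul h2 (map_zero σ), suS_mul h2 (map_one σ), hd]
  all_goals congr 1 <;> first | ring1 | linear_combination he | linear_combination -he

theorem suW_normalWord (h2 : ∀ x, σ (σ x) = x) (hd : σ dl = -dl) {e : K} (t : Fin 6 → ℕ) :
    normalWord (suW σ dl e) t = suS σ dl ((t 0 : K) * 2 + t 1 - (t 2 : K) * e)
      ((t 1 : K) + (t 2 : K) * dl) (t 3) ((t 4 : K) + (t 5 : K) * dl) := by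
  simp only [normalWord, suW, Matrix.cons_val]
  rw [suS_pow h2 (by simp) (by simp) (by simp), suS_pow h2 (by simp) (by simp) (by simp),
    suS_pow h2 (by simp) (by simp) (by simp), suS_pow h2 (by simp) (by simp) (by simp),
    suS_pow h2 (by simp) (by simp) (by simp), suS_pow h2 (by simp) (by simp) (by simp)]
  simp [suS_mul h2, hd]
  congr 1
  ring

theorem split_unique (hd : σ dl = -dl) (hdl : dl ≠ 0) (h20 : (2 : K) ≠ 0) {a b a' b' : ℕ}
    (h : (a : K) + (b : K) * dl = (a' : K) + (b' : K) * dl) : (a : K) = a' ∧ (b : K) = b' := by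
  have h' := congrArg σ h
  simp [hd] at h'
  have hb : (2 * dl) * ((b : K) - b') = 0 := by linear_combination h - h'
  rw [mul_eq_zero, sub_eq_zero] at hb
  have hb' := hb.resolve_left (mul_ne_zero h20 hdl)
  exact ⟨by linear_combination h - dl * hb', hb'⟩

theorem suW_injective {p : ℕ} [CharP K p] (h2 : ∀ x, σ (σ x) = x) (hd : σ dl = -dl) (hdl : dl ≠ 0)
    (h20 : (2 : K) ≠ 0) {e : K} :
    Function.Injective fun t : Fin 6 → Fin p => normalWord (suW σ dl e) fun k => (t k : ℕ) := by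
  intro s t h
  simp only [suW_normalWord h2 hd] at h
  obtain ⟨e0, e1, e3, e4⟩ := suM_inj hdl h
  have cast : ∀ {a b : Fin p}, ((a : ℕ) : K) = ((b : ℕ) : K) → a = b := fun {a b} hab =>
    Fin.ext (CharP.natCast_injOn_Iio K p a.isLt b.isLt hab)
  obtain ⟨c1, c2⟩ := split_unique hd hdl h20 e1
  obtain ⟨c4, c5⟩ := split_unique hd hdl h20 e4
  rw [c1, c2] at e0
  have c0 : ((s 0 : ℕ) : K) = ((t 0 : ℕ) : K) := mul_right_cancel₀ h20 (by linear_combination e0)
  funext k
  fin_cases k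
  exacts [cast c0, cast c1, cast c2, cast e3, cast c4, cast c5]

end SUFour

theorem not_pow_seven_dvd_card_SU {K : Type*} [Field K] [Fintype K] {p : ℕ} [hp : Fact p.Prime]
    (hK : Fintype.card K = p ^ 2) : ¬ p ^ 7 ∣ Nat.card (Cfsg.SU 4 K p) := by
  intro h
  have h1 := Dvd.dvd.mul_left h (p + 1)
  rw [CfsgLib.ClassicalGroups.card_SU_mul hK (by norm_num), CfsgLib.ClassicalGroups.card_GU hK 4] at h1
  have h2 : p ^ 6 * p ∣ p ^ 6 * ∏ i ∈ Finset.range 4,
      (if Even i then p ^ (i + 1) + 1 else p ^ (i + 1) - 1) := by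
    rw [← pow_succ]
    exact h1
  obtain ⟨i, -, hi⟩ := (Prime.dvd_finsetProd_iff hp.out.prime _).1
    ((Nat.mul_dvd_mul_iff_left (pow_pos hp.out.pos 6)).1 h2)
  have hpi : p ∣ p ^ (i + 1) := dvd_pow_self p (Nat.succ_ne_zero i)
  apply hp.out.one_lt.ne'
  apply Nat.dvd_one.1
  split_ifs at hi
  · exact (Nat.dvd_add_right hpi).1 hi
  · have h3 := Nat.dvd_sub hpi hi
    rwa [Nat.sub_sub_self (Nat.one_le_pow _ _ hp.out.pos)] at h3

/-- The model in `SU₄(p)`. -/
theorem exists_lag_SU (p : ℕ) [Fact p.Prime] (hodd : Odd p) (eps : ℤ)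
    (heps : ¬ IsSquare (eps : ZMod p)) (K : Type*) [Field K] [Fintype K] (hK : Fintype.card K = p ^ 2) :
    ∃ (P : Sylow p (Cfsg.SU 4 K p)) (w : Fin 6 → P),
      Lag p (-eps) w ∧ Nat.card P = p ^ 6 ∧ Subgroup.closure (Set.range w) = ⊤ := by
  have hp : p.Prime := Fact.out
  have : CharP K p := charP_of_card_eq_prime_pow hK
  have hp2 : p ≠ 2 := by rintro rfl; exact absurd hodd (by decide)
  have hR : ringChar K ≠ 2 := by rwa [ringChar.eq K p]
  have h20 : (2 : K) ≠ 0 := Ring.two_ne_zero hR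
  have e0 : (eps : ZMod p) ≠ 0 := fun h => heps (by simp [h])
  let f := ZMod.castHom (dvd_refl p) K
  have hf : f (eps : ZMod p) = (eps : K) := map_intCast f eps
  have heK : (eps : K) ≠ 0 := by
    rw [← hf]; exact fun h => e0 (f.injective (h.trans (map_zero f).symm))
  have hhalf : (eps : ZMod p) ^ (p / 2) = -1 :=
    (ZMod.pow_div_two_eq_neg_one_or_one p e0).resolve_left
      fun h => heps ((ZMod.euler_criterion p e0).2 h)
  obtain ⟨k, hk⟩ := hodd
  have hpk : p / 2 = k := by omega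
  have hq : Fintype.card K / 2 = (p / 2) * (p + 1) := by
    rw [hK, hpk, hk, show (2 * k + 1) ^ 2 = 1 + 2 * (k * (2 * k + 1 + 1)) by ring,
      Nat.add_mul_div_left _ _ two_pos]
    simp
  have hsq : IsSquare (eps : K) := by
    rw [FiniteField.isSquare_iff hR heK, hq, pow_mul, ← hf, ← map_pow, hhalf, map_neg, map_one]
    exact Even.neg_one_pow ⟨k + 1, by omega⟩
  obtain ⟨dl, hdl⟩ := hsq
  let σ : K →+* K := frobenius K p
  have hσ : ∀ x, σ x = x ^ p := fun x => rfl
  have h2 : ∀ x, σ (σ x) = x := fun x => by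
    rw [hσ, hσ, ← pow_mul, ← sq, ← hK, FiniteField.pow_card]
  have hd : σ dl = -dl := by
    have h := congrArg f hhalf
    rw [map_pow, map_neg, map_one, hf, hdl, hpk, ← sq, ← pow_mul] at h
    rw [hσ, hk, pow_succ', h, mul_neg_one]
  have hd0 : dl ≠ 0 := fun h => heK (by rw [hdl, h, mul_zero])
  obtain ⟨c, hc⟩ := CfsgLib.UnitaryEmbed.exists_norm hK (-1 : K)
    (by rw [hk, pow_succ, pow_mul]; simp)
  have hc' : c * σ c = -1 := by rw [hσ, ← pow_succ', hc]
  have hci : c * -σ c = 1 := by rw [mul_neg, hc', neg_neg]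
  have hh : (2 : K)⁻¹ + (2 : K)⁻¹ = 1 := by field_simp; norm_num
  have hhs : σ (2 : K)⁻¹ = (2 : K)⁻¹ := by rw [map_inv₀, map_ofNat]
  have hT := suT_mul hci hh
  have hTi := mul_eq_one_comm.1 hT
  let T : Matrix (Fin 4) (Fin 4) K := suT c (2 : K)⁻¹
  let Ti : Matrix (Fin 4) (Fin 4) K := suTi (-σ c) (2 : K)⁻¹
  let cj : Matrix.SpecialLinearGroup (Fin 4) K →* Matrix.SpecialLinearGroup (Fin 4) K :=
    { toFun := fun g => ⟨T * g.1 * Ti, by
        rw [det_mul, det_mul, g.2, mul_one, ← det_mul, hT, det_one]⟩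
      map_one' := Subtype.ext (by simp [T, Ti, hT])
      map_mul' := fun g g' => Subtype.ext (by
        show T * (g.1 * g'.1) * Ti = T * g.1 * Ti * (T * g'.1 * Ti)
        simp only [Matrix.mul_assoc]
        rw [← Matrix.mul_assoc Ti T, hTi, Matrix.one_mul]) }
  have hinj : Function.Injective cj := fun g g' h => by
    have h' : T * g.1 * Ti = T * g'.1 * Ti := congrArg Subtype.val h
    apply Subtype.ext
    have := congrArg (fun X => Ti * X * T) h'
    simp only [Matrix.mul_assoc, hTi, mul_one, T, Ti] at this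
    rwa [← Matrix.mul_assoc, hTi, one_mul, ← Matrix.mul_assoc, hTi, one_mul] at this
  have hfix : ∀ m : ℤ, σ (m : K) = m := map_intCast σ
  have hmem : ∀ k, cj (suW σ dl (eps : K) k) ∈ Cfsg.SU 4 K p := by
    intro k
    obtain ⟨α, β, γ, a, hα, hγ, hk⟩ : ∃ α β γ a, σ α = α ∧ σ γ = γ ∧
        suW σ dl (eps : K) k = suS σ dl α β γ a := by
      fin_cases k <;> refine ⟨_, _, _, _, ?_, ?_, rfl⟩ <;>
        first | exact map_zero σ | exact map_one σ | exact map_ofNat σ 2 | exact hfix _ |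
          exact (map_neg σ _).trans (congrArg Neg.neg (hfix eps))
    rw [hk, CfsgLib.ClassicalGroups.mem_SU_iff]
    intro u v
    have hM := suM_preserves h2 hd hα hγ (β := β) (a := a) (Ti *ᵥ u) (Ti *ᵥ v)
    rw [← suT_form hc' hhs hh hσ, ← suT_form hc' hhs hh hσ] at hM
    simp only [Matrix.mulVec_mulVec, Ti, hT, one_mulVec] at hM
    show Cfsg.hermForm 4 K p ((T * suM σ dl α β γ a * Ti) *ᵥ u)
      ((T * suM σ dl α β γ a * Ti) *ᵥ v) = _
    simp only [T, Ti, Matrix.mul_assoc]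
    exact hM
  let w : Fin 6 → Cfsg.SU 4 K p := fun k => ⟨_, hmem k⟩
  have hlag : Lag p (-eps) w :=
    Lag.of_injective (f := (Cfsg.SU 4 K p).subtype) Subtype.val_injective
      (Lag.map cj (suW_lag h2 hd hdl.symm))
  refine exists_sylow_lag hlag ?_ (not_pow_seven_dvd_card_SU hK)
  intro s t h
  refine suW_injective h2 hd hd0 h20 (e := (eps : K)) ?_
  apply hinj
  have h' := congrArg (Cfsg.SU 4 K p).subtype h
  simp only [map_normalWord] at h' ⊢
  exact h'

end CfsgLib.IndexExtra
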