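import Cfsg.Agent.Lib.Fusion.IndexExtra.Frame

/-!
Tools for the models: a frame with injective normal form spans a Sylow subgroup of order `p ^ 6`.
-/

set_option autoImplicit false

namespace CfsgLib.IndexExtra

open Subgroup

variable {G H : Type*} [Group G] [Group H]

/-- The ordered product of powers. -/
def normalWord (w : Fin 6 → G) (t : Fin 6 → ℕ) : G :=
  w 0 ^ t 0 * w 1 ^ t 1 * w 2 ^ t 2 * w 3 ^ t 3 * w 4 ^ t 4 * w 5 ^ t 5

theorem normalWord_mem (w : Fin 6 → G) (t : Fin 6 → ℕ) :
    normalWord w t ∈ closure (Set.range w) := by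
  have h : ∀ k, w k ^ t k ∈ closure (Set.range w) := fun k =>
    pow_mem (Subgroup.subset_closure (Set.mem_range_self k)) _
  exact mul_mem (mul_mem (mul_mem (mul_mem (mul_mem (h 0) (h 1)) (h 2)) (h 3)) (h 4)) (h 5)

theorem map_normalWord (f : G →* H) (w : Fin 6 → G) (t : Fin 6 → ℕ) :
    f (normalWord w t) = normalWord (fun k => f (w k)) t := by
  simp [normalWord]

theorem Lag.of_injective {p : ℕ} {d : ℤ} {f : G →* H} (hf : Function.Injective f) {w : Fin 6 → G}
    (h : Lag p d fun k => f (w k)) : Lag p d w := by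
  constructor <;> intros <;> apply hf <;> simp only [map_pow, map_one, map_mul, map_inv, map_zpow]
  · exact h.pow _
  · exact h.zi
  · exact h.zj
  · exact h.ij
  · exact h.zx
  · exact h.ix
  · exact h.jx
  · exact h.nz
  · exact h.ni
  · exact h.nj
  · exact h.nx
  · exact h.mz
  · exact h.mi
  · exact h.mj
  · exact h.mx
  · exact h.mn

theorem Chain.of_injective {p : ℕ} {f : G →* H} (hf : Function.Injective f) {w : Fin 6 → G}
    (h : Chain p fun k => f (w k)) : Chain p w := by
  constructor <;> intros <;> apply hf <;> simp only [map_pow, map_one, map_mul, map_inv]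
  · exact h.pow _
  · exact h.zr
  · exact h.zc
  · exact h.rc
  · exact h.zy
  · exact h.ry
  · exact h.cy
  · exact h.nz
  · exact h.nr
  · exact h.nc
  · exact h.ny
  · exact h.xz
  · exact h.xr
  · exact h.xc
  · exact h.xy
  · exact h.xn

theorem Chain.map {p : ℕ} (f : G →* H) {w : Fin 6 → G} (h : Chain p w) :
    Chain p fun k => f (w k) := by
  constructor <;> intros <;> simp only [← map_pow, ← map_mul, ← map_inv]
  · rw [h.pow, map_one]
  · rw [h.zr]
  · rw [h.zc]
  · rw [h.rc]
  · rw [h.zy]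
  · rw [h.ry]
  · rw [h.cy]
  · rw [h.nz]
  · rw [h.nr]
  · rw [h.nc]
  · rw [h.ny]
  · rw [h.xz]
  · rw [h.xr]
  · rw [h.xc]
  · rw [h.xy]
  · rw [h.xn]

theorem Lag.map {p : ℕ} {d : ℤ} (f : G →* H) {w : Fin 6 → G} (h : Lag p d w) :
    Lag p d fun k => f (w k) := by
  constructor <;> intros <;> simp only [← map_pow, ← map_mul, ← map_inv, ← map_zpow]
  · rw [h.pow, map_one]
  · rw [h.zi]
  · rw [h.zj]
  · rw [h.ij]
  · rw [h.zx]
  · rw [h.ix]
  · rw [h.jx]
  · rw [h.nz]
  · rw [h.ni]
  · rw [h.nj]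
  · rw [h.nx]
  · rw [h.mz]
  · rw [h.mi]
  · rw [h.mj]
  · rw [h.mx]
  · rw [h.mn]

/-- A frame whose normal words are pairwise different spans a Sylow subgroup, if `p ^ 7` does not
divide the order of the group. -/
theorem exists_sylow_of_tower [Finite G] {p : ℕ} [hp : Fact p.Prime] {w : Fin 6 → G} (h : Tower p w)
    (hlow : p ^ 6 ≤ Nat.card (closure (Set.range w))) (hG : ¬ p ^ 7 ∣ Nat.card G) :
    ∃ (P : Sylow p G) (v : Fin 6 → P), (∀ k, ((v k : P) : G) = w k) ∧ Nat.card P = p ^ 6 ∧
      closure (Set.range v) = ⊤ := by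
  have hc : Nat.card (closure (Set.range w)) = p ^ 6 := le_antisymm (h.card_le hp.out.pos) hlow
  obtain ⟨P, hP⟩ := (IsPGroup.of_card (p := p) hc).exists_le_sylow
  obtain ⟨n, hn⟩ := P.isPGroup'.exists_card_eq
  have hn6 : n ≤ 6 := by
    by_contra hlt
    exact hG ((pow_dvd_pow p (by omega : 7 ≤ n)).trans (hn ▸ Subgroup.card_subgroup_dvd_card _))
  have hcard : Nat.card (P : Subgroup G) = p ^ 6 := by
    refine le_antisymm (hn ▸ Nat.pow_le_pow_right hp.out.pos hn6) ?_
    rw [← hc]
    exact Nat.card_le_card_of_injective _ (Subgroup.inclusion_injective hP)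
  have heq : closure (Set.range w) = (P : Subgroup G) :=
    CfsgLib.Fusion.eq_of_le_of_card_le hP (hcard.le.trans hc.ge)
  refine ⟨P, fun k => ⟨w k, hP (Subgroup.subset_closure ⟨k, rfl⟩)⟩, fun k => rfl, hcard, ?_⟩
  refine Subgroup.map_injective (P : Subgroup G).subtype_injective ?_
  rw [MonoidHom.map_closure, ← Set.range_comp, ← MonoidHom.range_eq_map, Subgroup.range_subtype]
  exact heq

/-- Injective normal words give the lower bound on the order. -/
theorem le_card_of_normalWord [Finite G] {p : ℕ} {w : Fin 6 → G}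
    (hinj : Function.Injective fun t : Fin 6 → Fin p => normalWord w fun k => (t k : ℕ)) :
    p ^ 6 ≤ Nat.card (closure (Set.range w)) := by
  have := Nat.card_le_card_of_injective
    (fun t : Fin 6 → Fin p =>
      (⟨normalWord w fun k => (t k : ℕ), normalWord_mem _ _⟩ : closure (Set.range w)))
    (fun s t e => hinj (congrArg Subtype.val e))
  simpa using this

/-- The Lagrangian model from a frame in the ambient group. -/
theorem exists_sylow_lag [Finite G] {p : ℕ} [Fact p.Prime] {d : ℤ} {w : Fin 6 → G} (h : Lag p d w)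
    (hinj : Function.Injective fun t : Fin 6 → Fin p => normalWord w fun k => (t k : ℕ))
    (hG : ¬ p ^ 7 ∣ Nat.card G) :
    ∃ (P : Sylow p G) (v : Fin 6 → P), Lag p d v ∧ Nat.card P = p ^ 6 ∧ closure (Set.range v) = ⊤ := by
  obtain ⟨P, v, hv, hc, ht⟩ := exists_sylow_of_tower h.tower (le_card_of_normalWord hinj) hG
  refine ⟨P, v, Lag.of_injective (f := (P : Subgroup G).subtype) Subtype.val_injective ?_, hc, ht⟩
  simpa [hv] using h

/-- The single block model from a frame in the ambient group. -/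
theorem exists_sylow_chain [Finite G] {p : ℕ} [Fact p.Prime] {w : Fin 6 → G} (h : Chain p w)
    (hlow : p ^ 6 ≤ Nat.card (closure (Set.range w))) (hG : ¬ p ^ 7 ∣ Nat.card G) :
    ∃ (P : Sylow p G) (v : Fin 6 → P), Chain p v ∧ Nat.card P = p ^ 6 ∧ closure (Set.range v) = ⊤ := by
  obtain ⟨P, v, hv, hc, ht⟩ := exists_sylow_of_tower h.tower hlow hG
  refine ⟨P, v, Chain.of_injective (f := (P : Subgroup G).subtype) Subtype.val_injective ?_, hc, ht⟩
  simpa [hv] using h

end CfsgLib.IndexExtra
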