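import Cfsg.Agent.Lib.Fusion.IndexExtra.Ambient
import Cfsg.Agent.Lib.Fusion.Normal
import Cfsg.Agent.Lib.Fusion.EssentialTorus
import Cfsg.Agent.Lib.Fusion.AbelianIndexP
import Cfsg.Agent.Lib.Techniques.Basic

/-!
# A largest essential subgroup moving the centre

If the centre is not normal in the system, take an essential subgroup `E` of largest order whose
automizer `X` moves it. The stabiliser of the centre in `X` then controls all of `Aut_S(E)`: an element
of `N_S(E)` outside `E` commutes with no image of the generator `z` outside `⟨z⟩`.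
-/

set_option autoImplicit false

namespace CfsgLib.IndexExtra

open Cfsg Cfsg.FusionSystem CfsgLib.Fusion
open scoped commutatorElement

variable {Ω : Type*} [Group Ω] {S Q E : Subgroup Ω} {p : ℕ} {z : Ω}

/-- An automorphism of `E` as a map of the ambient group, fixing what lies outside `E`. -/
noncomputable def ap (g : MulAut E) (y : Ω) : Ω :=
  open scoped Classical in if h : y ∈ E then ((g ⟨y, h⟩ : E) : Ω) else y

theorem ap_of_mem (g : MulAut E) {y : Ω} (h : y ∈ E) : ap g y = ((g ⟨y, h⟩ : E) : Ω) := by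
  rw [ap, dif_pos h]

theorem ap_mem (g : MulAut E) {y : Ω} (h : y ∈ E) : ap g y ∈ E := by
  rw [ap_of_mem g h]; exact (g _).2

theorem ap_mul (g : MulAut E) {a b : Ω} (ha : a ∈ E) (hb : b ∈ E) : ap g (a * b) = ap g a * ap g b := by
  rw [ap_of_mem g (E.mul_mem ha hb), ap_of_mem g ha, ap_of_mem g hb, ← Subgroup.coe_mul, ← map_mul]
  rfl

theorem ap_one_mem (g : MulAut E) : ap g 1 = (1 : Ω) := by
  rw [ap_of_mem g E.one_mem]
  exact congrArg Subtype.val (map_one g)

theorem ap_zpow (g : MulAut E) {a : Ω} (ha : a ∈ E) (i : ℤ) : ap g (a ^ i) = ap g a ^ i := by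
  rw [ap_of_mem g (E.zpow_mem ha i), ap_of_mem g ha, ← Subgroup.coe_zpow, ← map_zpow]
  rfl

theorem ap_inv (g : MulAut E) {a : Ω} (ha : a ∈ E) : ap g a⁻¹ = (ap g a)⁻¹ := by
  rw [← zpow_neg_one, ap_zpow g ha, zpow_neg_one]

theorem ap_comp (g g' : MulAut E) {y : Ω} (h : y ∈ E) : ap (g * g') y = ap g (ap g' y) := by
  rw [ap_of_mem _ h, ap_of_mem g' h, ap_of_mem g (g' _).2]
  rfl

theorem ap_id {y : Ω} : ap (1 : MulAut E) y = y := by
  unfold ap; split_ifs <;> rfl

theorem ap_inv_ap (g : MulAut E) {y : Ω} (h : y ∈ E) : ap g⁻¹ (ap g y) = y := by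
  rw [← ap_comp _ _ h, inv_mul_cancel, ap_id]

theorem ap_ap_inv (g : MulAut E) {y : Ω} (h : y ∈ E) : ap g (ap g⁻¹ y) = y := by
  rw [← ap_comp _ _ h, mul_inv_cancel, ap_id]

theorem ap_inj (g : MulAut E) {a b : Ω} (ha : a ∈ E) (hb : b ∈ E) (he : ap g a = ap g b) : a = b := by
  rw [← ap_inv_ap g ha, he, ap_inv_ap g hb]

theorem ap_pow (g : MulAut E) {a : Ω} (ha : a ∈ E) (i : ℕ) : ap g (a ^ i) = ap g a ^ i := by
  rw [← zpow_natCast, ap_zpow g ha, zpow_natCast]

theorem ap_comm (g : MulAut E) {a b : Ω} (ha : a ∈ E) (hb : b ∈ E) :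
    ap g ⁅a, b⁆ = ⁅ap g a, ap g b⁆ := by
  rw [commutatorElement_def, ap_mul g (E.mul_mem (E.mul_mem ha hb) (E.inv_mem ha)) (E.inv_mem hb),
    ap_mul g (E.mul_mem ha hb) (E.inv_mem ha), ap_mul g ha hb, ap_inv g ha, ap_inv g hb, commutatorElement_def]

/-- Two automorphisms agreeing as ambient maps are equal. -/
theorem ap_ext {g g' : MulAut E} (h : ∀ y ∈ E, ap g y = ap g' y) : g = g' := by
  refine MulEquiv.ext fun y => Subtype.ext ?_
  have := h y y.2
  rwa [ap_of_mem g y.2, ap_of_mem g' y.2] at this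

/-- What the case analysis uses about the largest essential subgroup moving the centre. -/
structure Mov (p : ℕ) (S Q E : Subgroup Ω) (z : Ω) (X : Subgroup (MulAut E)) : Prop where
  le : E ≤ S
  zE : z ∈ E
  cent : ∀ s ∈ S, (∀ e ∈ E, s * e = e * s) → s ∈ E
  notQ : ¬ E ≤ Q
  lt : E < S
  ind : ∀ s ∈ normalizerIn S E, ∃ g ∈ X, g ∈ autInducedBy S E ∧ ∀ y ∈ E, ap g y = s * y * s⁻¹
  moved : ∃ g ∈ X, ap g z ∉ Subgroup.zpowers z
  sep : ∀ g ∈ X, ap g z ∉ Subgroup.zpowers z →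
    ∀ s ∈ normalizerIn S E, s * ap g z = ap g z * s → s ∈ E
  subT : autInducedBy S E ≤ X
  conjT : ∀ K ≤ X, autInducedBy S E ≤ K → ∀ P ≤ K, IsPGroup p P →
    ∃ k ∈ K, P.map (MulAut.conj k).toMonoidHom ≤ autInducedBy S E
  extend : ∀ g ∈ X, (∀ a ∈ autInducedBy S E, g * a * g⁻¹ ∈ autInducedBy S E) → normalizerIn S E = S →
    ∃ τ : MulAut S, ∀ y ∈ E, ap τ y = ap g y

variable [Finite S] [hp : Fact p.Prime] {F : FusionSystem S}

/-- Maps from subgroups of order above `m` respect `⟨z⟩`, if the automorphisms of `S` and of the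
essential subgroups of such orders do. -/
theorem fix_of_large (h : Amb p S Q z) (hF : F.IsSaturated p) (m : ℕ)
    (hm : ∀ P : Subgroup Ω, (P = S ∨ F.IsEssential p P) → ∀ a ∈ F.autGroup P, ∀ hz : z ∈ P, m < Nat.card P →
      ((a ⟨z, hz⟩ : P) : Ω) ∈ Subgroup.zpowers z) {P : Subgroup Ω} {φ : P →* Ω} (hφ : φ ∈ F.Hom P) (hz : z ∈ P)
    (hP : m < Nat.card P) : φ ⟨z, hz⟩ ∈ Subgroup.zpowers z := by
  let F' : FusionSystem S :=
    { Hom := fun R => {ψ | ψ ∈ F.Hom R ∧
        (m < Nat.card R → ∀ y : R, (y : Ω) ∈ Subgroup.zpowers z ↔ ψ y ∈ Subgroup.zpowers z)}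
      le_of_mem := fun hψ => F.le_of_mem hψ.1
      injective_of_mem := fun hψ => F.injective_of_mem hψ.1
      conj_mem := fun {R g} hR hg => ⟨F.conj_mem hR hg, fun _ y => by
        rw [CfsgLib.Fusion.conjHom_apply]
        refine ⟨fun hy => by rw [h.conj_fix hg hy]; exact hy, fun hy => ?_⟩
        have h1 := h.conj_fix (S.inv_mem hg) hy
        rw [show g⁻¹ * (g * (y : Ω) * g⁻¹) * g⁻¹⁻¹ = (y : Ω) by group] at h1
        rw [h1]
        exact hy⟩
      comp_mem := fun {R R' ψ χ} hψ hχ hmem => ⟨F.comp_mem hψ.1 hχ.1 hmem, fun hR y => by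
        have hf : Finite R' := finite_of_le (CfsgLib.Fusion.le_S hχ.1)
        have hcard : Nat.card R ≤ Nat.card R' := Nat.card_le_card_of_injective (fun x => ⟨ψ x, hmem x⟩)
          fun a b e => F.injective_of_mem hψ.1 (congrArg Subtype.val e)
        exact (hψ.2 hR y).trans (hχ.2 (lt_of_lt_of_le hR hcard) ⟨ψ y, hmem y⟩)⟩
      inv_mem := fun {R ψ} hψ => by
        obtain ⟨χ, hχ, hχe⟩ := F.inv_mem hψ.1
        refine ⟨χ, ⟨hχ, fun hI y => ?_⟩, hχe⟩
        obtain ⟨_, w, rfl⟩ := y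
        rw [CfsgLib.Fusion.card_range hψ.1] at hI
        rw [hχe]
        exact (hψ.2 hI w).symm }
  have hle : F ≤ F' := CfsgLib.Fusion.alperin h.isP hF F' fun R hR a ha => by
    have hRS : R ≤ S := hR.elim (fun e => e.le) fun e => e.1.1
    refine (mem_autGroup hRS).mpr ⟨(mem_autGroup hRS).mp ha, fun hcard y => ?_⟩
    have key : ∀ b ∈ F.autGroup R, ∀ u : R, (u : Ω) ∈ Subgroup.zpowers z →
        ((b u : R) : Ω) ∈ Subgroup.zpowers z := by
      intro b hb u hu
      by_cases hu1 : (u : Ω) = 1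
      · rw [show u = 1 from Subtype.ext hu1, map_one]
        exact Subgroup.one_mem _
      have hzR : z ∈ R := Subgroup.zpowers_le.mpr u.2 (h.gen hu hu1 ▸ Subgroup.mem_zpowers z)
      obtain ⟨i, hi⟩ := hu
      rw [show u = (⟨z, hzR⟩ : R) ^ i from Subtype.ext (by simpa using hi.symm), map_zpow, Subgroup.coe_zpow]
      exact Subgroup.zpow_mem _ (hm R hR b hb hzR hcard) i
    show (y : Ω) ∈ _ ↔ ((a y : R) : Ω) ∈ _
    refine ⟨key a ha y, fun hy => ?_⟩
    have h1 := key a⁻¹ (Subgroup.inv_mem _ ha) (a y) hy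
    rwa [MulAut.inv_apply_self] at h1
  exact ((hle P hφ).2 hP ⟨z, hz⟩).mp (Subgroup.mem_zpowers z)

/-- If the centre is not normal, some largest essential subgroup gives `Mov`. -/
theorem exists_mov (h : Amb p S Q z) (hF : F.IsSaturated p) (hcore : F.core = ⊥)
    (hQess : ∀ P ≤ Q, F.IsEssential p P → P = Q) :
    ∃ E : Subgroup Ω, F.IsEssential p E ∧ Mov p S Q E z (F.autGroup E) := by
  classical
  have hZS : Subgroup.zpowers z ≤ S := Subgroup.zpowers_le.mpr (h.le h.zQ)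
  have hmem : ∀ P : Subgroup Ω, F.IsEssential p P → z ∈ P := fun P hP =>
    IsCentric.centralizerIn_le' hP.1 ⟨h.le h.zQ, Subgroup.mem_centralizer_iff.mpr fun y hy =>
      h.zS y (hP.1.1 hy)⟩
  let Bad : Subgroup Ω → Prop := fun P => F.IsEssential p P ∧
    ∃ g ∈ F.autGroup P, ap g z ∉ Subgroup.zpowers z
  have hSfix : ∀ a ∈ F.autGroup S, ∀ hz : z ∈ S, ((a ⟨z, hz⟩ : S) : Ω) ∈ Subgroup.zpowers z := by
    intro a _ hz
    refine h.centS _ (a _).2 fun s hs => ?_
    obtain ⟨u, hu⟩ := a.surjective ⟨s, hs⟩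
    have e : a (⟨z, hz⟩ * u) = a (u * ⟨z, hz⟩) :=
      congrArg a (Subtype.ext (h.zS (u : Ω) u.2).symm)
    rw [map_mul, map_mul, hu] at e
    exact congrArg Subtype.val e
  obtain ⟨E₀, hE₀⟩ : ∃ P, Bad P := by
    by_contra! hno
    have hn : F.IsNormal (Subgroup.zpowers z) := isNormal_of_essential h.isP hF fun P hP => by
      rcases hP with rfl | hP
      · refine ⟨hZS, fun a ha x hx => ?_⟩
        obtain ⟨i, hi⟩ := hx
        rw [show x = (⟨z, h.le h.zQ⟩ : P) ^ i from Subtype.ext (by simpa using hi.symm), map_zpow,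
          Subgroup.coe_zpow]
        exact Subgroup.zpow_mem _ (hSfix a ha _) i
      · refine ⟨Subgroup.zpowers_le.mpr (hmem P hP), fun a ha x hx => ?_⟩
        obtain ⟨i, hi⟩ := hx
        rw [show x = (⟨z, hmem P hP⟩ : P) ^ i from Subtype.ext (by simpa using hi.symm), map_zpow,
          Subgroup.coe_zpow]
        refine Subgroup.zpow_mem _ ?_ i
        rw [← ap_of_mem a (hmem P hP)]
        by_contra hz'
        exact hno P ⟨hP, a, ha, hz'⟩
    exact h.zne (Subgroup.mem_bot.mp (hcore ▸ (le_sSup hn : Subgroup.zpowers z ≤ F.core)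
      (Subgroup.mem_zpowers z)))
  let C : ℕ → Prop := fun c => ∃ P, Bad P ∧ Nat.card P = c
  have hb : ∀ P, Bad P → Nat.card P ≤ Nat.card S := fun P hP => Subgroup.card_le_of_le hP.1.1.1
  obtain ⟨E, hE, hmax⟩ : ∃ E, Bad E ∧ ∀ P, Bad P → Nat.card P ≤ Nat.card E := by
    obtain ⟨E, hE, hc⟩ := Nat.findGreatest_spec (P := C) (hb E₀ hE₀) ⟨E₀, hE₀, rfl⟩
    exact ⟨E, hE, fun P hP => hc ▸ Nat.le_findGreatest (hb P hP) ⟨P, hP, rfl⟩⟩
  obtain ⟨hess, hmov⟩ := hE
  have hES := hess.1.1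
  have hzE := hmem E hess
  have : Finite E := finite_of_le hES
  have : Finite (MulAut E) := finite_mulAut hES
  have hlt : E < S := CfsgLib.Fusion.AbelianIndexP.lt_of_essential h.isP hF hess
  obtain ⟨hA, hR⟩ := fullyNormalized_good h.isP hF hess.2.1
  set T := autInducedBy S E with hT
  have hTX : T ≤ F.autGroup E := autInducedBy_le_autGroup hES
  have hTi : ¬ p ∣ T.relIndex (F.autGroup E) := by
    obtain ⟨-, R, hR'⟩ := hA
    have := R.not_dvd_index
    rwa [hR'] at this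
  have hconjT : ∀ K ≤ F.autGroup E, T ≤ K → ∀ P ≤ K, IsPGroup p P →
      ∃ k ∈ K, P.map (MulAut.conj k).toMonoidHom ≤ T := fun K hK hTK P hPK hP =>
    CfsgLib.Techniques.exists_conj_le_sylow_of hPK hP hTK (isPGroup_autInducedBy h.isP E) fun hd => hTi
      (by rw [← Subgroup.relIndex_mul_relIndex T K _ hTK hK]; exact hd.mul_right _)
  have hfix : ∀ {P : Subgroup Ω} {φ : P →* Ω}, φ ∈ F.Hom P → ∀ hz : z ∈ P, Nat.card E < Nat.card P →
      φ ⟨z, hz⟩ ∈ Subgroup.zpowers z := fun hφ hz hP =>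
    fix_of_large h hF (Nat.card E) (fun P' hP' a ha hz' hc => by
      rcases hP' with rfl | hP'
      · exact hSfix a ha hz'
      · by_contra hno
        exact absurd (hmax P' ⟨hP', a, ha, by rwa [ap_of_mem a hz']⟩) (by omega)) hφ hz hP
  -- an automorphism carrying one outer element of `Aut_S(E)` into `Aut_S(E)` fixes the centre
  have hkey : ∀ g ∈ F.autGroup E, ∀ a : MulAut E, ∀ s ∈ S, s ∉ E → (∀ y : E, ((a y : E) : Ω) = s * y * s⁻¹) →
      g * a * g⁻¹ ∈ T → ap g z ∈ Subgroup.zpowers z := by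
    intro g hg a s hs hsE ha hga
    have hm := (mem_autGroup hES).mp hg
    have hse : s ∈ extender S E (E.subtype.comp g.toMonoidHom) := by
      obtain ⟨s', hs', hse⟩ := mem_autInducedBy.mp hga
      refine mem_extender.mpr ⟨hs, mem_normalizer_of_aut ha, s', hs', fun x hx => ?_⟩
      rw [autMap_apply, autMap_apply, ← hse]
      simp [← ha x]
    have hlt' : E < extender S E (E.subtype.comp g.toMonoidHom) :=
      lt_of_le_of_ne (le_extender hES (apply_mem_S hm)) fun he => hsE (he.ge hse)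
    obtain ⟨ψ, hψ, hψe⟩ := exists_extension hR hm (autMap_range g) hlt'.le le_rfl
    have hfin : Finite (extender S E (E.subtype.comp g.toMonoidHom)) := finite_of_le (le_S hψ)
    have hc : Nat.card E < Nat.card (extender S E (E.subtype.comp g.toMonoidHom)) :=
      lt_of_not_ge fun hle => hlt'.ne (eq_of_le_of_card_le hlt'.le hle)
    have h1 := hfix hψ (hlt'.le hzE) hc
    rw [hψe ⟨z, hzE⟩] at h1
    rwa [ap_of_mem g hzE]
  refine ⟨E, hess, hES, hzE, fun s hs hse => IsCentric.centralizerIn_le' hess.1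
    ⟨hs, Subgroup.mem_centralizer_iff.mpr fun e he => (hse e he).symm⟩, fun hEQ => ?_, hlt, fun s hs => ?_,
    hmov, ?_, hTX, hconjT, fun g hg hn hNS => ?_⟩
  · obtain rfl := hQess E hEQ hess
    obtain ⟨g, hg, hgz⟩ := hmov
    refine hgz (h.cen _ (ap_mem g hzE) fun b hb => ?_)
    rw [← ap_ap_inv g hb, ← ap_mul g hzE (ap_mem g⁻¹ hb), ← ap_mul g (ap_mem g⁻¹ hb) hzE,
      h.zS _ (hES (ap_mem g⁻¹ hb))]
  · obtain ⟨g, hg, hge⟩ := exists_autInducedBy (K := S) hs.1 hs.2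
    exact ⟨g, hTX hg, hg, fun y hy => by rw [ap_of_mem g hy]; exact hge ⟨y, hy⟩⟩
  · intro g hg hgz s hs hcomm
    by_contra hsE
    obtain ⟨a, ha, hae⟩ := exists_autInducedBy (K := S) hs.1 hs.2
    -- the conjugate `g⁻¹ a g` fixes the centre, so the stabiliser conjugates it into `Aut_S(E)`
    let M : Subgroup (MulAut E) :=
      { carrier := {k | k ∈ F.autGroup E ∧ ap k z ∈ Subgroup.zpowers z}
        one_mem' := ⟨Subgroup.one_mem _, by rw [ap_id]; exact Subgroup.mem_zpowers z⟩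
        mul_mem' := fun {u v} hu hv => ⟨Subgroup.mul_mem _ hu.1 hv.1, by
          rw [ap_comp u v hzE]
          obtain ⟨i, hi⟩ := hv.2
          rw [← hi, ap_zpow u hzE]
          exact Subgroup.zpow_mem _ hu.2 i⟩
        inv_mem' := fun {u} hu => ⟨Subgroup.inv_mem _ hu.1, by
          have hne : ap u z ≠ 1 := fun e => h.zne (ap_inj u hzE E.one_mem (e.trans (ap_one_mem u).symm))
          obtain ⟨j, hj⟩ : z ∈ Subgroup.zpowers (ap u z) := by
            rw [h.gen hu.2 hne]; exact Subgroup.mem_zpowers z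
          have e1 : ap u⁻¹ z = z ^ j := by
            rw [show ap u⁻¹ z = ap u⁻¹ (ap u z ^ j) from congrArg _ hj.symm, ← ap_zpow u hzE,
              ap_inv_ap u (E.zpow_mem hzE j)]
          rw [e1]
          exact Subgroup.zpow_mem _ (Subgroup.mem_zpowers z) j⟩ }
    have hTM : T ≤ M := fun u hu => ⟨hTX hu, by
      obtain ⟨t, ht, hte⟩ := mem_autInducedBy.mp hu
      rw [ap_of_mem u hzE, hte]
      show t * z * t⁻¹ ∈ _
      rw [h.conj_fix ht (Subgroup.mem_zpowers z)]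
      exact Subgroup.mem_zpowers z⟩
    have hb : g⁻¹ * a * g ∈ M := ⟨Subgroup.mul_mem _ (Subgroup.mul_mem _ (Subgroup.inv_mem _ hg) (hTX ha)) hg, by
      rw [ap_comp _ _ hzE, ap_comp _ _ (ap_mem g hzE),
        show ap a (ap g z) = ap g z by
          rw [ap_of_mem a (ap_mem g hzE), hae]
          show s * ap g z * s⁻¹ = ap g z
          rw [hcomm, mul_inv_cancel_right],
        ap_inv_ap g hzE]
      exact Subgroup.mem_zpowers z⟩
    have hP : IsPGroup p (Subgroup.zpowers (g⁻¹ * a * g)) := by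
      obtain ⟨k, hk⟩ := isPGroup_autInducedBy h.isP E ⟨a, ha⟩
      have hk' : (g⁻¹ * a * g) ^ p ^ k = 1 := by
        have e1 : a ^ p ^ k = 1 := congrArg Subtype.val hk
        have := _root_.conj_pow (a := g⁻¹) (b := a) (i := p ^ k)
        rw [inv_inv] at this
        rw [this, e1, mul_one, inv_mul_cancel]
      rintro ⟨u, i, rfl⟩
      refine ⟨k, Subtype.ext ?_⟩
      show ((g⁻¹ * a * g) ^ i) ^ p ^ k = 1
      rw [← zpow_natCast, ← zpow_mul, mul_comm, zpow_mul, zpow_natCast, hk', one_zpow]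
    obtain ⟨k, hk, hkT⟩ := hconjT M (fun u hu => hu.1) hTM _ (Subgroup.zpowers_le.mpr hb) hP
    have h2 : k * g⁻¹ * a * (k * g⁻¹)⁻¹ ∈ T := by
      have h3 := hkT ⟨g⁻¹ * a * g, Subgroup.mem_zpowers _, rfl⟩
      rw [show k * g⁻¹ * a * (k * g⁻¹)⁻¹ = k * (g⁻¹ * a * g) * k⁻¹ by group]
      exact h3
    have h4 : k * g⁻¹ ∈ M := ⟨Subgroup.mul_mem _ hk.1 (Subgroup.inv_mem _ hg),
      hkey _ (Subgroup.mul_mem _ hk.1 (Subgroup.inv_mem _ hg)) a s hs.1 hsE hae h2⟩
    refine hgz ?_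
    have h5 := M.inv_mem (M.mul_mem (M.inv_mem hk) h4)
    rw [inv_mul_cancel_left, inv_inv] at h5
    exact h5.2
  · have key : ∀ N : Subgroup Ω, N = S → ∀ β : MulAut N,
        (∀ x : E, ∀ hx : (x : Ω) ∈ N, ((β ⟨x, hx⟩ : N) : Ω) = ((g x : E) : Ω)) →
        ∃ τ : MulAut S, ∀ y ∈ E, ap τ y = ap g y := by
      rintro N rfl β hβe
      exact ⟨β, fun y hy => by rw [ap_of_mem β (hES hy), ap_of_mem g hy]; exact hβe ⟨y, hy⟩ _⟩
    obtain ⟨β, -, hβe⟩ := CfsgLib.FusionTorus.exists_extend_normalizing h.isP hF hess.2.1 hg hn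
    exact key _ hNS β fun x _ => hβe x

end CfsgLib.IndexExtra
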