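import Cfsg.Agent.Lib.Fusion.IndexExtra.Pre
import Cfsg.Agent.Lib.Fusion.IndexExtra.Frame
import Mathlib.NumberTheory.LegendreSymbol.QuadraticChar.Basic

/-!
# Diagonalising the form of a frame of Lagrangian type
-/

set_option autoImplicit false

namespace CfsgLib.IndexExtra

open Subgroup
open scoped commutatorElement

/-- Diagonalisation of a nondegenerate binary symmetric form over `ZMod p`. -/
theorem exists_diagonal {p : ℕ} [hp : Fact p.Prime] (hodd : Odd p) {ε : ℤ} (hε : ¬ IsSquare (ε : ZMod p))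
    {a b c : ZMod p} (hD : a * c - b * b ≠ 0) :
    ∃ (u₁ v₁ u₂ v₂ : ℕ) (k d : ℤ), (k : ZMod p) ≠ 0 ∧ (d = -1 ∨ d = -ε) ∧
      ((u₁ : ZMod p) * v₂ - u₂ * v₁ ≠ 0) ∧
      (u₁ : ZMod p) * (a * u₁ + b * v₁) + v₁ * (b * u₁ + c * v₁) = k ∧
      (u₂ : ZMod p) * (a * u₁ + b * v₁) + v₂ * (b * u₁ + c * v₁) = 0 ∧
      (u₁ : ZMod p) * (a * u₂ + b * v₂) + v₁ * (b * u₂ + c * v₂) = 0 ∧
      (u₂ : ZMod p) * (a * u₂ + b * v₂) + v₂ * (b * u₂ + c * v₂) = k * d := by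
  have h2 : (2 : ZMod p) ≠ 0 := fun e => by
    have h3 : ((2 : ℕ) : ZMod p) = 0 := by exact_mod_cast e
    have := Nat.le_of_dvd two_pos ((ZMod.natCast_eq_zero_iff 2 p).mp h3)
    have := hp.out.two_le
    obtain ⟨o, ho⟩ := hodd
    omega
  obtain ⟨x, y, hk⟩ : ∃ x y : ZMod p, x * (a * x + b * y) + y * (b * x + c * y) ≠ 0 := by
    by_contra! hno
    have ha : a = 0 := by simpa using hno 1 0
    have hc : c = 0 := by simpa using hno 0 1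
    have h11 := hno 1 1
    simp only [ha, hc, zero_mul, mul_one, zero_add, add_zero, one_mul] at h11
    have hb : b = 0 := by
      have : (2 : ZMod p) * b = 0 := by linear_combination h11
      exact (mul_eq_zero.mp this).resolve_left h2
    exact hD (by rw [ha, hb]; ring)
  obtain ⟨d, s, hd, hs0, hs⟩ : ∃ (d : ℤ) (s : ZMod p), (d = -1 ∨ d = -ε) ∧ s ≠ 0 ∧
      (a * c - b * b) * (s * s) = d := by
    by_cases hsq : IsSquare (-(a * c - b * b))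
    · obtain ⟨t, ht⟩ := hsq
      have ht0 : t ≠ 0 := fun e => hD (by rw [e, mul_zero, neg_eq_zero] at ht; exact ht)
      exact ⟨-1, t⁻¹, Or.inl rfl, inv_ne_zero ht0, by
        rw [show a * c - b * b = -(t * t) by linear_combination -ht]; push_cast; field_simp⟩
    · have hq1 := quadraticChar_neg_one_iff_not_isSquare.mpr hsq
      have hq2 := quadraticChar_neg_one_iff_not_isSquare.mpr hε
      have he0 : (ε : ZMod p) ≠ 0 := fun e => hε (e ▸ IsSquare.zero)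
      have hprod : quadraticChar (ZMod p) ((ε : ZMod p) * -(a * c - b * b)) = 1 := by
        rw [map_mul, hq1, hq2]; norm_num
      obtain ⟨r, hr⟩ := (quadraticChar_one_iff_isSquare (mul_ne_zero he0 (neg_ne_zero.mpr hD))).mp hprod
      refine ⟨-ε, r / (a * c - b * b), Or.inr rfl, div_ne_zero ?_ hD, ?_⟩
      · intro e
        rw [e, mul_zero] at hr
        exact mul_ne_zero he0 (neg_ne_zero.mpr hD) hr
      · push_cast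
        generalize a * c - b * b = D at hD hr ⊢
        field_simp
        linear_combination -hr
  refine ⟨x.val, y.val, (-(b * x + c * y) * s).val, ((a * x + b * y) * s).val,
    ((x * (a * x + b * y) + y * (b * x + c * y)).val : ℤ), d, ?_, hd, ?_, ?_, ?_, ?_, ?_⟩
  · rwa [Int.cast_natCast, ZMod.natCast_zmod_val]
  · rw [ZMod.natCast_zmod_val, ZMod.natCast_zmod_val, ZMod.natCast_zmod_val, ZMod.natCast_zmod_val,
      show x * ((a * x + b * y) * s) - -(b * x + c * y) * s * y = (x * (a * x + b * y) + y * (b * x + c * y)) * s by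
        ring]
    exact mul_ne_zero hk hs0
  all_goals simp only [ZMod.natCast_zmod_val, Int.cast_natCast]
  · ring
  · ring
  · rw [← hs]; ring

variable {Ω : Type*} [Group Ω] {S : Subgroup Ω} {p : ℕ} {z n₁ n₂ x : Ω}

theorem conj_of_comm {n i : Ω} {w : Ω} (h : ⁅n, i⁆ = w) : n * i * n⁻¹ = w * i := by
  rw [← h, commutatorElement_def]; group

theorem pow_conj_central {n i w : Ω} (hw : ⁅n, i⁆ = w) (hn : n * w = w * n) :
    ∀ u : ℕ, n ^ u * i * (n ^ u)⁻¹ = w ^ u * i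
  | 0 => by simp
  | u + 1 => by
    rw [pow_succ', mul_inv_rev, show n * n ^ u * i * ((n ^ u)⁻¹ * n⁻¹) = n * (n ^ u * i * (n ^ u)⁻¹) * n⁻¹ by
      simp [mul_assoc], pow_conj_central hw hn u, ← conj_mul, conj_of_comm hw,
      ((show Commute n w from hn).pow_right u).eq, mul_inv_cancel_right, ← mul_assoc, ← pow_succ]

namespace Pre

variable (P : Pre p S z n₁ n₂ x)

include P

theorem commute_z {s : Ω} (hs : s ∈ S) (j : ℤ) : Commute s (z ^ j) :=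
  (show Commute s z from P.cz s hs).zpow_right j

theorem iS₁ : ⁅n₁, x⁆ ∈ S :=
  S.mul_mem (S.mul_mem (S.mul_mem P.n₁S P.xS) (S.inv_mem P.n₁S)) (S.inv_mem P.xS)

theorem iS₂ : ⁅n₂, x⁆ ∈ S :=
  S.mul_mem (S.mul_mem (S.mul_mem P.n₂S P.xS) (S.inv_mem P.n₂S)) (S.inv_mem P.xS)

/-- Powers of one of the two outer elements act on `x` along its commutator. -/
theorem pow_conj_x {n : Ω} {a : ℤ} (hn : n ∈ S) (ha : ⁅n, ⁅n, x⁆⁆ = z ^ a) :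
    ∀ u : ℕ, ∃ j : ℤ, n ^ u * x * (n ^ u)⁻¹ = z ^ j * ⁅n, x⁆ ^ u * x
  | 0 => ⟨0, by simp⟩
  | u + 1 => by
    obtain ⟨j, hj⟩ := pow_conj_x hn ha u
    refine ⟨j + a * u, ?_⟩
    have hiS : ⁅n, x⁆ ∈ S := S.mul_mem (S.mul_mem (S.mul_mem hn P.xS) (S.inv_mem hn)) (S.inv_mem P.xS)
    rw [pow_succ', mul_inv_rev, show n * n ^ u * x * ((n ^ u)⁻¹ * n⁻¹) = n * (n ^ u * x * (n ^ u)⁻¹) * n⁻¹ by
      simp [mul_assoc], hj, ← conj_mul, ← conj_mul, ← _root_.conj_pow, (P.commute_z hn j).eq,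
      mul_inv_cancel_right, conj_of_comm ha, conj_of_comm (rfl : ⁅n, x⁆ = _),
      (P.commute_z hiS a).symm.mul_pow, ← zpow_natCast (z ^ a), ← zpow_mul, ← mul_assoc (z ^ j) (z ^ _), ← zpow_add,
      ← mul_assoc, mul_assoc (z ^ (j + a * (u : ℤ))), ← pow_succ]

/-- The commutator of `n₁ ^ u * n₂ ^ v` with `x`, up to the centre. -/
theorem exists_comm (u v : ℕ) :
    ∃ j : ℤ, ⁅n₁ ^ u * n₂ ^ v, x⁆ = z ^ j * (⁅n₁, x⁆ ^ u * ⁅n₂, x⁆ ^ v) := by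
  obtain ⟨a, b, c, ha, hb, hb', hc, -⟩ := P.form
  obtain ⟨j₁, h₁⟩ := P.pow_conj_x P.n₁S ha u
  obtain ⟨j₂, h₂⟩ := P.pow_conj_x P.n₂S hc v
  have h12 : n₁ ^ u * ⁅n₂, x⁆ * (n₁ ^ u)⁻¹ = (z ^ b) ^ u * ⁅n₂, x⁆ :=
    pow_conj_central hb (P.commute_z P.n₁S b).eq u
  refine ⟨j₂ + b * ((u : ℤ) * v) + j₁, ?_⟩
  rw [commutatorElement_def, mul_inv_eq_iff_eq_mul, mul_inv_rev,
    show n₁ ^ u * n₂ ^ v * x * ((n₂ ^ v)⁻¹ * (n₁ ^ u)⁻¹) = n₁ ^ u * (n₂ ^ v * x * (n₂ ^ v)⁻¹) * (n₁ ^ u)⁻¹ by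
      simp [mul_assoc], h₂, ← conj_mul, ← conj_mul, ← _root_.conj_pow, h12, h₁,
    (P.commute_z (S.pow_mem P.n₁S u) j₂).eq, mul_inv_cancel_right,
    ← zpow_natCast (z ^ b) u, ← zpow_mul, (P.commute_z P.iS₂ _).symm.mul_pow,
    ← zpow_natCast (z ^ (b * (u : ℤ))) v, ← zpow_mul, ← mul_assoc (z ^ j₂), ← zpow_add]
  have e1 : Commute (⁅n₂, x⁆ ^ v) (z ^ j₁) := (P.commute_z (S.pow_mem P.iS₂ v) j₁)
  have e2 : Commute (⁅n₂, x⁆ ^ v) (⁅n₁, x⁆ ^ u) :=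
    ((show Commute ⁅n₁, x⁆ ⁅n₂, x⁆ from P.ii).symm.pow_left v).pow_right u
  simp only [mul_assoc]
  rw [← mul_assoc (⁅n₂, x⁆ ^ v), e1.eq, mul_assoc (z ^ j₁), ← mul_assoc (⁅n₂, x⁆ ^ v) (⁅n₁, x⁆ ^ u), e2.eq,
    zpow_add _ (j₂ + b * ((u : ℤ) * v)) j₁]
  simp only [mul_assoc]

theorem conj_comb {a b c : ℤ} (ha : ⁅n₁, ⁅n₁, x⁆⁆ = z ^ a) (hb : ⁅n₁, ⁅n₂, x⁆⁆ = z ^ b)
    (hb' : ⁅n₂, ⁅n₁, x⁆⁆ = z ^ b) (hc : ⁅n₂, ⁅n₂, x⁆⁆ = z ^ c) (u' v' u v : ℕ) :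
    n₁ ^ u' * n₂ ^ v' * ⁅n₁ ^ u * n₂ ^ v, x⁆ * (n₁ ^ u' * n₂ ^ v')⁻¹ =
      z ^ ((u' : ℤ) * (a * u + b * v) + v' * (b * u + c * v)) * ⁅n₁ ^ u * n₂ ^ v, x⁆ := by
  obtain ⟨j, hj⟩ := P.exists_comm u v
  have step : ∀ {n i : Ω} {e : ℤ} (m k : ℕ), n ∈ S → i ∈ S → ⁅n, i⁆ = z ^ e →
      n ^ m * i ^ k * (n ^ m)⁻¹ = z ^ (e * m * k) * i ^ k := fun {n i e} m k hn hi he => by
    rw [← _root_.conj_pow, pow_conj_central he (P.commute_z hn e).eq m, ← zpow_natCast (z ^ e) m, ← zpow_mul,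
      (P.commute_z hi _).symm.mul_pow, ← zpow_natCast (z ^ (e * (m : ℤ))) k, ← zpow_mul]
  have hv : n₂ ^ v' * ⁅n₁ ^ u * n₂ ^ v, x⁆ * (n₂ ^ v')⁻¹ = z ^ ((v' : ℤ) * (b * u + c * v)) * ⁅n₁ ^ u * n₂ ^ v, x⁆ := by
    rw [hj, ← conj_mul, ← conj_mul, (P.commute_z (S.pow_mem P.n₂S v') j).eq, mul_inv_cancel_right,
      step v' u P.n₂S P.iS₁ hb', step v' v P.n₂S P.iS₂ hc, mul_assoc (z ^ (b * v' * u)),
      ← mul_assoc (⁅n₁, x⁆ ^ u), (P.commute_z (S.pow_mem P.iS₁ u) _).eq]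
    simp only [← mul_assoc, ← zpow_add]
    congr 3
    ring
  rw [mul_inv_rev, show n₁ ^ u' * n₂ ^ v' * ⁅n₁ ^ u * n₂ ^ v, x⁆ * ((n₂ ^ v')⁻¹ * (n₁ ^ u')⁻¹) =
    n₁ ^ u' * (n₂ ^ v' * ⁅n₁ ^ u * n₂ ^ v, x⁆ * (n₂ ^ v')⁻¹) * (n₁ ^ u')⁻¹ by simp [mul_assoc], hv, hj,
    ← conj_mul, ← conj_mul, ← conj_mul, (P.commute_z (S.pow_mem P.n₁S u') _).eq, mul_inv_cancel_right,
    (P.commute_z (S.pow_mem P.n₁S u') j).eq, mul_inv_cancel_right,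
    step u' u P.n₁S P.iS₁ ha, step u' v P.n₁S P.iS₂ hb, mul_assoc (z ^ (a * u' * u)),
    ← mul_assoc (⁅n₁, x⁆ ^ u), (P.commute_z (S.pow_mem P.iS₁ u) _).eq]
  simp only [← mul_assoc, ← zpow_add]
  congr 3
  ring

/-- A frame of Lagrangian type with one of the two normalised forms. -/
theorem exists_lag [hp : Fact p.Prime] (hodd : Odd p) {ε : ℤ} (hε : ¬ IsSquare (ε : ZMod p)) :
    ∃ (d : ℤ) (w : Fin 6 → Ω), (d = -1 ∨ d = -ε) ∧ Lag p d w ∧ (∀ i, w i ∈ S) ∧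
      S ≤ closure (Set.range w) := by
  obtain ⟨a, b, c, ha, hb, hb', hc, hD⟩ := P.form
  have hD' : (a : ZMod p) * c - b * b ≠ 0 := fun e => hD ((ZMod.intCast_zmod_eq_zero_iff_dvd _ p).mp (by push_cast; exact e))
  obtain ⟨u₁, v₁, u₂, v₂, k, d, hk, hd, hdet, q11, q21, q12, q22⟩ := exists_diagonal hodd hε hD'
  have zeq : ∀ {j l : ℤ}, (j : ZMod p) = l → z ^ j = z ^ l := fun {j l} e => by
    obtain ⟨m, hm⟩ := (ZMod.intCast_zmod_eq_zero_iff_dvd (j - l) p).mp (by push_cast; rw [e, sub_self])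
    rw [show j = l + (p : ℤ) * m by omega, zpow_add, zpow_mul, zpow_natCast, P.pz, one_zpow, mul_one]
  set N := fun u v : ℕ => n₁ ^ u * n₂ ^ v with hN
  have hnn : Commute n₁ n₂ := P.nn
  have hNS : ∀ u v, N u v ∈ S := fun u v => S.mul_mem (S.pow_mem P.n₁S u) (S.pow_mem P.n₂S v)
  have hIS : ∀ u v, ⁅N u v, x⁆ ∈ S := fun u v =>
    S.mul_mem (S.mul_mem (S.mul_mem (hNS u v) P.xS) (S.inv_mem (hNS u v))) (S.inv_mem P.xS)
  have hNp : ∀ u v, N u v ^ p = 1 := fun u v => by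
    show (n₁ ^ u * n₂ ^ v) ^ p = 1
    rw [(hnn.pow_pow u v).mul_pow, ← pow_mul, ← pow_mul, mul_comm u, mul_comm v, pow_mul, pow_mul, P.pn₁, P.pn₂,
      one_pow, one_pow, mul_one]
  have hIp : ∀ u v, ⁅N u v, x⁆ ^ p = 1 := fun u v => by
    obtain ⟨j, hj⟩ := P.exists_comm u v
    rw [hj, (P.commute_z (S.mul_mem (S.pow_mem P.iS₁ u) (S.pow_mem P.iS₂ v)) j).symm.mul_pow,
      ((show Commute ⁅n₁, x⁆ ⁅n₂, x⁆ from P.ii).pow_pow u v).mul_pow, ← zpow_natCast (z ^ j), ← zpow_mul,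
      mul_comm j, zpow_mul, zpow_natCast, P.pz, ← pow_mul, ← pow_mul, mul_comm u, mul_comm v, pow_mul, pow_mul,
      P.pi₁, P.pi₂, one_zpow, one_pow, one_pow, one_mul, one_mul]
  have hxI : ∀ u v, Commute x ⁅N u v, x⁆ := fun u v => by
    obtain ⟨j, hj⟩ := P.exists_comm u v
    rw [hj]
    exact (P.commute_z P.xS j).mul_right (((show Commute x _ from P.xi₁).pow_right u).mul_right
      ((show Commute x _ from P.xi₂).pow_right v))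
  have hII : Commute ⁅N u₂ v₂, x⁆ ⁅N u₁ v₁, x⁆ := by
    obtain ⟨j, hj⟩ := P.exists_comm u₁ v₁
    obtain ⟨j', hj'⟩ := P.exists_comm u₂ v₂
    have h12 : Commute ⁅n₁, x⁆ ⁅n₂, x⁆ := P.ii
    have e1 : ∀ u : ℕ, Commute (⁅n₁, x⁆ ^ u₂ * ⁅n₂, x⁆ ^ v₂) (⁅n₁, x⁆ ^ u) := fun u =>
      ((Commute.refl _).pow_pow u₂ u).mul_left ((h12.symm).pow_pow v₂ u)
    have e2 : ∀ u : ℕ, Commute (⁅n₁, x⁆ ^ u₂ * ⁅n₂, x⁆ ^ v₂) (⁅n₂, x⁆ ^ u) := fun u =>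
      (h12.pow_pow u₂ u).mul_left ((Commute.refl _).pow_pow v₂ u)
    rw [hj, hj']
    refine Commute.mul_right (P.commute_z (hj' ▸ hIS u₂ v₂) j) (Commute.mul_left ?_ ((e1 u₁).mul_right (e2 v₁)))
    exact (P.commute_z (S.mul_mem (S.pow_mem P.iS₁ u₁) (S.pow_mem P.iS₂ v₁)) j').symm
  have hc' : ∀ (u' v' u v : ℕ) (e : ℤ), (u' : ZMod p) * (a * u + b * v) + v' * (b * u + c * v) = e →
      N u' v' * ⁅N u v, x⁆ * (N u' v')⁻¹ = z ^ e * ⁅N u v, x⁆ := fun u' v' u v e he => by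
    rw [hN, P.conj_comb ha hb hb' hc, zeq (l := e) (by push_cast; exact he)]
  have hzf : ∀ s ∈ S, s * z ^ k * s⁻¹ = z ^ k := fun s hs => by rw [(P.commute_z hs k).eq, mul_inv_cancel_right]
  have hzk : (z ^ k) ^ p = 1 := by
    rw [← zpow_natCast (z ^ k), ← zpow_mul, mul_comm, zpow_mul, zpow_natCast, P.pz, one_zpow]
  refine ⟨d, ![z ^ k, ⁅N u₁ v₁, x⁆, ⁅N u₂ v₂, x⁆, x, N u₁ v₁, N u₂ v₂], hd, ?_, ?_, ?_⟩
  · refine ⟨fun i => ?_, hzf _ (hIS _ _), hzf _ (hIS _ _), ?_, hzf _ P.xS, ?_, ?_, hzf _ (hNS _ _),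
      hc' _ _ _ _ k q11, ?_, ?_, hzf _ (hNS _ _), ?_, ?_, ?_, ?_⟩
    · fin_cases i
      exacts [hzk, hIp _ _, hIp _ _, P.px, hNp _ _, hNp _ _]
    · exact mul_inv_eq_iff_eq_mul.mpr hII.eq
    · exact mul_inv_eq_iff_eq_mul.mpr (hxI _ _).eq
    · exact mul_inv_eq_iff_eq_mul.mpr (hxI _ _).eq
    · show N u₁ v₁ * ⁅N u₂ v₂, x⁆ * (N u₁ v₁)⁻¹ = ⁅N u₂ v₂, x⁆
      rw [hc' _ _ _ _ 0 (by rw [q12, Int.cast_zero]), zpow_zero, one_mul]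
    · exact conj_of_comm rfl
    · show N u₂ v₂ * ⁅N u₁ v₁, x⁆ * (N u₂ v₂)⁻¹ = ⁅N u₁ v₁, x⁆
      rw [hc' _ _ _ _ 0 (by rw [q21, Int.cast_zero]), zpow_zero, one_mul]
    · show N u₂ v₂ * ⁅N u₂ v₂, x⁆ * (N u₂ v₂)⁻¹ = (z ^ k) ^ d * ⁅N u₂ v₂, x⁆
      rw [hc' _ _ _ _ (k * d) (by rw [q22]; push_cast; ring), zpow_mul]
    · exact conj_of_comm rfl
    · refine mul_inv_eq_iff_eq_mul.mpr (Commute.eq ?_)
      exact ((Commute.refl _).pow_pow u₂ u₁).mul_right (hnn.pow_pow u₂ v₁) |>.mul_left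
        (((hnn.symm).pow_pow v₂ u₁).mul_right ((Commute.refl _).pow_pow v₂ v₁))
  · intro i
    fin_cases i
    exacts [S.zpow_mem P.zS k, hIS _ _, hIS _ _, P.xS, hNS _ _, hNS _ _]
  · set K := closure (Set.range ![z ^ k, ⁅N u₁ v₁, x⁆, ⁅N u₂ v₂, x⁆, x, N u₁ v₁, N u₂ v₂])
    have m : ∀ i, (![z ^ k, ⁅N u₁ v₁, x⁆, ⁅N u₂ v₂, x⁆, x, N u₁ v₁, N u₂ v₂]) i ∈ K := fun i =>
      subset_closure ⟨i, rfl⟩
    have root : ∀ {y : Ω} {e : ℤ}, y ^ p = 1 → (e : ZMod p) ≠ 0 → y ^ e ∈ K → y ∈ K := fun {y e} hy he hye => by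
      have he' : IsCoprime (p : ℤ) e := (Nat.prime_iff_prime_int.mp hp.out).coprime_iff_not_dvd.mpr fun h' =>
        he ((ZMod.intCast_zmod_eq_zero_iff_dvd e p).mpr h')
      obtain ⟨r, s, hrs⟩ := he'
      rw [← zpow_one y, ← hrs, zpow_add, mul_comm r, zpow_mul, zpow_natCast, hy, one_zpow, one_mul, mul_comm s,
        zpow_mul]
      exact K.zpow_mem hye s
    have hz : z ∈ K := root P.pz hk (m 0)
    have hdetZ : ((((u₁ : ℤ) * v₂ - u₂ * v₁) : ℤ) : ZMod p) ≠ 0 := by push_cast; exact hdet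
    have hn₁ : n₁ ∈ K := root P.pn₁ hdetZ (by
      have e : n₁ ^ ((u₁ : ℤ) * v₂ - u₂ * v₁) = N u₁ v₁ ^ v₂ * (N u₂ v₂ ^ v₁)⁻¹ := by
        show _ = (n₁ ^ u₁ * n₂ ^ v₁) ^ v₂ * ((n₁ ^ u₂ * n₂ ^ v₂) ^ v₁)⁻¹
        rw [(hnn.pow_pow u₁ v₁).mul_pow, (hnn.pow_pow u₂ v₂).mul_pow, ← pow_mul, ← pow_mul, ← pow_mul, ← pow_mul,
          mul_inv_rev, mul_comm v₂ v₁, ← mul_assoc, mul_inv_cancel_right, zpow_sub, ← Nat.cast_mul,
          ← Nat.cast_mul, zpow_natCast, zpow_natCast]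
      rw [e]
      exact K.mul_mem (K.pow_mem (m 4) _) (K.inv_mem (K.pow_mem (m 5) _)))
    have hn₂ : n₂ ∈ K := root P.pn₂ hdetZ (by
      have e : n₂ ^ ((u₁ : ℤ) * v₂ - u₂ * v₁) = (N u₁ v₁ ^ u₂)⁻¹ * N u₂ v₂ ^ u₁ := by
        show _ = ((n₁ ^ u₁ * n₂ ^ v₁) ^ u₂)⁻¹ * (n₁ ^ u₂ * n₂ ^ v₂) ^ u₁
        rw [(hnn.pow_pow u₁ v₁).mul_pow, (hnn.pow_pow u₂ v₂).mul_pow, ← pow_mul, ← pow_mul, ← pow_mul, ← pow_mul,
          mul_inv_rev, mul_comm u₁ u₂, mul_assoc, inv_mul_cancel_left, sub_eq_neg_add, zpow_add, zpow_neg,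
          ← Nat.cast_mul, ← Nat.cast_mul, zpow_natCast, zpow_natCast, mul_comm v₁ u₂, mul_comm u₁ v₂]
      rw [e]
      exact K.mul_mem (K.inv_mem (K.pow_mem (m 4) _)) (K.pow_mem (m 5) _))
    refine P.gen.trans ((closure_le K).mpr ?_)
    rintro y (rfl | rfl | rfl | rfl | rfl | rfl)
    exacts [hz, K.mul_mem (K.mul_mem (K.mul_mem hn₁ (m 3)) (K.inv_mem hn₁)) (K.inv_mem (m 3)),
      K.mul_mem (K.mul_mem (K.mul_mem hn₂ (m 3)) (K.inv_mem hn₂)) (K.inv_mem (m 3)), m 3, hn₁, hn₂]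

end Pre

end CfsgLib.IndexExtra
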