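import Cfsg.Agent.Lib.Fusion.IndexExtra.Index

/-!
# No image of the centre lies in `Q`: basic structure

Here `x = g z`, `E` is abelian and equal to `D × ⟨x⟩` with `D = E ⊓ Q`, and `E = g(D) × ⟨z⟩` gives the
coordinate `co` along `z`.
-/

set_option autoImplicit false

namespace CfsgLib.IndexExtra

open Subgroup
open scoped commutatorElement

variable {Ω : Type*} [Group Ω] {S Q E : Subgroup Ω} {p : ℕ} {z : Ω}

/-- The coordinate along `z` with respect to `g(E ⊓ Q)`. -/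
noncomputable def co (p : ℕ) (Q : Subgroup Ω) (g : MulAut E) (z e : Ω) : ZMod p :=
  open scoped Classical in
  if h : ∃ k : ℤ, e * z ^ (-k) ∈ img g (E ⊓ Q) then (h.choose : ZMod p) else 0

variable [Finite S] [hp : Fact p.Prime]

namespace Amb

variable (h : Amb p S Q z)

include h

/-- `⁅x, q⁆` commutes with whatever `x` moves only along the centre, for `q` in `Q`. -/
theorem comm_comm_eq_one' {x q r : Ω} (hx : x ∈ S) (hq : q ∈ Q) (hr : r ∈ Q) (hxr : ⁅x, r⁆ ∈ zpowers z) :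
    ⁅⁅x, q⁆, r⁆ = 1 := by
  have hw := h.comm q hq r hr
  have hd : ⁅x, q⁆ ∈ Q := h.comm_mem_Q hx (h.le hq)
  have h1 : ⁅⁅x, q⁆ * q, r⁆ = ⁅q, r⁆ := by
    have h2 : ⁅⁅x, q⁆ * q, ⁅x, r⁆ * r⁆ = ⁅q, r⁆ := by
      rw [← conj_eq_comm_mul, ← conj_eq_comm_mul, ← conj_comm, h.conj_fix hx hw]
    rwa [h.comm_mul_right (h.le (h.zmem hxr)) (h.comm _ (Q.mul_mem hd hq) r hr),
      h.comm_z_right (h.le (Q.mul_mem hd hq)) hxr, one_mul] at h2
  rw [h.comm_mul_left (h.le hd) hw] at h1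
  exact mul_eq_left.mp h1

end Amb

/-- No moved image of `z` lies in `Q`. -/
structure Out (p : ℕ) (S Q E : Subgroup Ω) (z : Ω) (X : Subgroup (MulAut E)) (g : MulAut E) : Prop where
  amb : Amb p S Q z
  mov : Mov p S Q E z X
  gX : g ∈ X
  gmoved : ap g z ∉ zpowers z
  none : ∀ g' ∈ X, ap g' z ∉ zpowers z → ap g' z ∉ Q

namespace Out

variable {X : Subgroup (MulAut E)} {g : MulAut E} (O : Out p S Q E z X g)

include O

omit [Finite S] hp in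
theorem xE : ap g z ∈ E := ap_mem g O.mov.zE

omit [Finite S] hp in
theorem xQ : ap g z ∉ Q := O.none g O.gX O.gmoved

omit [Finite S] hp in
theorem xS : ap g z ∈ S := O.mov.le O.xE

omit [Finite S] hp in
theorem xp : ap g z ^ p = 1 := O.mov.image_pow O.amb g

omit [Finite S] hp in
theorem zE : z ∈ E := O.mov.zE

theorem xD_sup : (E ⊓ Q) ⊔ zpowers (ap g z) = E :=
  sup_eq_of_card O.amb.isP inf_le_left O.mov.le O.xE (fun e => O.xQ e.2) (O.mov.card_inf O.amb).le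

theorem decompE {e : Ω} (he : e ∈ E) : ∃ d ∈ E ⊓ Q, ∃ k : ℤ, e = d * ap g z ^ k :=
  exists_mul_zpow (le_normalizer_of_card O.amb.isP inf_le_left O.mov.le (O.mov.card_inf O.amb) O.xE)
    (O.xD_sup.symm ▸ he)

theorem abelian {a b : Ω} (ha : a ∈ E) (hb : b ∈ E) : a * b = b * a := by
  have hx : ∀ e ∈ E, ∀ k : ℤ, Commute (ap g z ^ k) e := fun e he k =>
    (show Commute (ap g z) e from (O.mov.image_central O.amb g he).symm).zpow_left k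
  have hcomm : ∀ a ∈ E, ∀ b ∈ E, ⁅a, b⁆ ∈ zpowers z := fun a ha b hb => by
    obtain ⟨d, hd, i, rfl⟩ := O.decompE ha
    obtain ⟨d', hd', i', rfl⟩ := O.decompE hb
    rw [comm_mul_left_id, commutatorElement_eq_one_iff_mul_comm.mpr (hx _ hb i).eq, mul_one, mul_inv_cancel,
      one_mul, comm_mul_right_id, commutatorElement_eq_one_iff_mul_comm.mpr (hx _ hd.1 i').symm.eq, mul_one,
      mul_inv_cancel, mul_one]
    exact O.amb.comm d hd.2 d' hd'.2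
  by_contra hne
  refine O.gmoved ?_
  have hab : ⁅a, b⁆ ≠ 1 := fun e => hne (commutatorElement_eq_one_iff_mul_comm.mp e)
  have hmem : ⁅a, b⁆ ∈ E := by
    rw [commutatorElement_def]
    exact E.mul_mem (E.mul_mem (E.mul_mem ha hb) (E.inv_mem ha)) (E.inv_mem hb)
  obtain ⟨j, hj⟩ := exists_zpow_of_gen (Subgroup.mem_zpowers z) (O.amb.gen (hcomm a ha b hb) hab)
  have hc : ap g z = ⁅ap g a, ap g b⁆ ^ j := by
    rw [← ap_comm g ha hb, ← ap_zpow g hmem j, hj]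
  rw [hc]
  exact zpow_mem (hcomm _ (ap_mem g ha) _ (ap_mem g hb)) j

theorem cmt {a b : Ω} (ha : a ∈ E) (hb : b ∈ E) : Commute a b := O.abelian ha hb

/-- An image of `z` in `Q` is in its span. -/
theorem image_dichotomy {g' : MulAut E} (hg' : g' ∈ X) (hQ : ap g' z ∈ Q) : ap g' z ∈ zpowers z := by
  by_contra hn
  exact O.none g' hg' hn hQ

theorem z_zpow_img {k : ℤ} (hk : z ^ k ∈ img g (E ⊓ Q)) : (p : ℤ) ∣ k := by
  by_contra hk'
  obtain ⟨i, hi⟩ := mem_zpowers_iff.mp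
    (show z ∈ zpowers (z ^ k) from O.amb.gen (zpow_mem (mem_zpowers z) k)
      (fun e => hk' (O.amb.dvd_of_zpow O.amb.zpow_p O.amb.zne e)) ▸ mem_zpowers z)
  have hz : z ∈ img g (E ⊓ Q) := hi ▸ zpow_mem hk i
  exact O.mov.inv_moved O.amb O.gmoved (O.image_dichotomy (X.inv_mem O.gX) hz.2.2)

theorem img_inter_Z {w : Ω} (hw : w ∈ zpowers z) (hi : w ∈ img g (E ⊓ Q)) : w = 1 := by
  obtain ⟨k, rfl⟩ := hw
  obtain ⟨m, rfl⟩ := O.z_zpow_img hi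
  show z ^ ((p : ℤ) * m) = 1
  rw [zpow_mul, zpow_natCast, O.amb.zpow_p, one_zpow]

theorem x_img : ap g z ∈ img g (E ⊓ Q) := ap_mem_img g O.zE ⟨O.zE, O.amb.zQ⟩

theorem zimg_sup : img g (E ⊓ Q) ⊔ zpowers z = E :=
  sup_eq_of_card O.amb.isP (img_le g _) O.mov.le O.zE
    (fun hz => O.amb.zne (O.img_inter_Z (mem_zpowers z) hz))
    (by rw [card_img g inf_le_left, ← O.mov.card_inf O.amb])

theorem exists_co {e : Ω} (he : e ∈ E) : ∃ k : ℤ, e * z ^ (-k) ∈ img g (E ⊓ Q) := by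
  have hn : z ∈ normalizer ((img g (E ⊓ Q) : Subgroup Ω) : Set Ω) := by
    have := finite_sub ((img_le g (E ⊓ Q)).trans O.mov.le)
    exact CfsgLib.Fusion.mem_normalizer_of_forall fun w hw => by
      rw [(O.cmt O.zE (img_le g _ hw)).eq, mul_inv_cancel_right]; exact hw
  obtain ⟨j, hj, k, rfl⟩ := exists_mul_zpow hn (O.zimg_sup.symm ▸ he)
  exact ⟨k, by rwa [zpow_neg, mul_inv_cancel_right]⟩

theorem co_eq {e : Ω} {k : ℤ} (hk : e * z ^ (-k) ∈ img g (E ⊓ Q)) : co p Q g z e = (k : ZMod p) := by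
  have hex : ∃ k : ℤ, e * z ^ (-k) ∈ img g (E ⊓ Q) := ⟨k, hk⟩
  rw [co, dif_pos hex]
  have h1 := (img g (E ⊓ Q)).mul_mem ((img g (E ⊓ Q)).inv_mem hex.choose_spec) hk
  rw [mul_inv_rev, mul_assoc, inv_mul_cancel_left, zpow_neg, inv_inv, ← zpow_add] at h1
  have h2 := (ZMod.intCast_zmod_eq_zero_iff_dvd _ p).mpr (O.z_zpow_img h1)
  push_cast at h2
  linear_combination h2

theorem co_mul {a b : Ω} (ha : a ∈ E) (hb : b ∈ E) : co p Q g z (a * b) = co p Q g z a + co p Q g z b := by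
  obtain ⟨i, hi⟩ := O.exists_co ha
  obtain ⟨j, hj⟩ := O.exists_co hb
  rw [O.co_eq hi, O.co_eq hj, ← Int.cast_add]
  refine O.co_eq ?_
  have h1 := (img g (E ⊓ Q)).mul_mem hi hj
  have e : a * z ^ (-i) * (b * z ^ (-j)) = a * b * z ^ (-(i + j)) := by
    rw [(O.cmt (E.zpow_mem O.zE (-i)) hb).mul_mul_mul_comm, ← zpow_add]
    congr 2
    ring
  rwa [e] at h1

theorem co_z (k : ℤ) : co p Q g z (z ^ k) = (k : ZMod p) :=
  O.co_eq (by rw [zpow_neg, mul_inv_cancel]; exact one_mem _)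

theorem co_one : co p Q g z (1 : Ω) = 0 := by simpa using O.co_z 0

theorem co_inv {a : Ω} (ha : a ∈ E) : co p Q g z a⁻¹ = -co p Q g z a := by
  have := O.co_mul ha (E.inv_mem ha)
  rw [mul_inv_cancel, O.co_one] at this
  linear_combination -this

theorem co_zero_iff {e : Ω} (he : e ∈ E) : co p Q g z e = 0 ↔ e ∈ img g (E ⊓ Q) := by
  refine ⟨fun h0 => ?_, fun h => by simpa using O.co_eq (k := 0) (by simpa using h)⟩
  obtain ⟨k, hk⟩ := O.exists_co he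
  rw [O.co_eq hk] at h0
  obtain ⟨m, rfl⟩ := (ZMod.intCast_zmod_eq_zero_iff_dvd k p).mp h0
  rwa [← mul_neg, zpow_mul, zpow_natCast, O.amb.zpow_p, one_zpow, mul_one] at hk

theorem co_Z_zero {w : Ω} (hw : w ∈ zpowers z) (h0 : co p Q g z w = 0) : w = 1 :=
  O.img_inter_Z hw ((O.co_zero_iff (zpowers_le.mpr O.zE hw)).mp h0)

theorem zE' {w : Ω} (hw : w ∈ zpowers z) : w ∈ E := zpowers_le.mpr O.zE hw

theorem w_mem {n : Ω} (hn : n ∈ Q) (hnN : n ∈ normalizer (E : Set Ω)) : ⁅n, ap g z⁆ ∈ E ⊓ Q := by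
  refine ⟨?_, O.amb.comm_mem_Q (O.amb.le hn) O.xS⟩
  rw [commutatorElement_def]
  exact E.mul_mem (conj_mem_of_mem_normalizer hnN O.xE) (E.inv_mem O.xE)

theorem w_pow {n : Ω} (hn : n ∈ Q) : ⁅n, ap g z⁆ ^ p = 1 := by
  have hc : ap g z * n⁻¹ * (ap g z)⁻¹ ∈ Q := conj_mem_of_mem_normalizer (O.amb.norm O.xS) (Q.inv_mem hn)
  rw [show ⁅n, ap g z⁆ = n * (ap g z * n⁻¹ * (ap g z)⁻¹) by rw [commutatorElement_def]; group,
    O.amb.mul_pow hn hc, O.amb.conj_pow O.xS (Q.inv_mem hn), inv_pow, mul_inv_cancel]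

/-- An element moving `x` only within `g(D)` lies in `E`. -/
theorem mem_of_co_zero {n : Ω} (hn : n ∈ Q) (hnN : n ∈ normalizer (E : Set Ω))
    (h0 : co p Q g z ⁅n, ap g z⁆ = 0) : n ∈ E := by
  have hwD := O.w_mem hn hnN
  have hw := (O.co_zero_iff hwD.1).mp h0
  have himg : n * ap g z * n⁻¹ ∈ img g (E ⊓ Q) := by
    rw [conj_eq_comm_mul]; exact mul_mem hw O.x_img
  obtain ⟨a, haX, -, hae⟩ := O.mov.ind n ⟨O.amb.le hn, hnN⟩
  have hd : ap (g⁻¹ * a * g) z ∈ Q := by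
    rw [ap_comp _ _ O.zE, ap_comp _ _ O.xE, hae _ O.xE]; exact himg.2.2
  obtain ⟨k, hk⟩ := O.image_dichotomy (X.mul_mem (X.mul_mem (X.inv_mem O.gX) haX) O.gX) hd
  have e : n * ap g z * n⁻¹ = ap g z ^ k := by
    have e1 : ap (g⁻¹ * a * g) z = z ^ k := hk.symm
    rw [ap_comp _ _ O.zE, ap_comp _ _ O.xE, hae _ O.xE] at e1
    rw [← ap_zpow g O.zE, ← e1, ap_ap_inv g (conj_mem_of_mem_normalizer hnN O.xE)]
  rw [conj_eq_comm_mul, ← eq_mul_inv_iff_mul_eq, ← zpow_sub_one] at e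
  have h1 : ap g z ^ (k - 1) ∈ Q := e ▸ hwD.2
  have h2 : (p : ℤ) ∣ k - 1 := by
    by_contra hd'
    have hc : IsCoprime (p : ℤ) (k - 1) := (Nat.prime_iff_prime_int.mp hp.out).coprime_iff_not_dvd.mpr hd'
    obtain ⟨r, s, hrs⟩ := hc
    refine O.xQ ?_
    rw [← zpow_one (ap g z), ← hrs, zpow_add, mul_comm r, zpow_mul, zpow_natCast, O.xp, one_zpow, one_mul,
      mul_comm s, zpow_mul]
    exact Q.zpow_mem h1 s
  obtain ⟨m, hm⟩ := h2
  rw [hm, zpow_mul, zpow_natCast, O.xp, one_zpow] at e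
  exact O.mov.sep g O.gX O.gmoved n ⟨O.amb.le hn, hnN⟩ (commutatorElement_eq_one_iff_mul_comm.mp e)

theorem w_of_mem {n : Ω} (hn : n ∈ E) : ⁅n, ap g z⁆ = 1 :=
  commutatorElement_eq_one_iff_mul_comm.mpr (O.abelian hn O.xE)

end Out

/-- The elements of `Q` normalising `E`. -/
def outN (Q E : Subgroup Ω) : Subgroup Ω := Q ⊓ normalizer (E : Set Ω)

namespace Out

variable {X : Subgroup (MulAut E)} {g : MulAut E} (O : Out p S Q E z X g)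

include O

theorem D_le_N : E ⊓ Q ≤ outN Q E := fun _ hd => ⟨hd.2, Subgroup.le_normalizer hd.1⟩

/-- `q (n) = co ⁅n, x⁆` and the bilinear form `co ⁅n, ⁅m, x⁆⁆`. -/
theorem q_mul {n m : Ω} (hn : n ∈ outN Q E) (hm : m ∈ outN Q E) :
    co p Q g z ⁅n * m, ap g z⁆ = co p Q g z ⁅n, ap g z⁆ + co p Q g z ⁅m, ap g z⁆ +
      co p Q g z ⁅n, ⁅m, ap g z⁆⁆ := by
  have hwn := O.w_mem hn.1 hn.2
  have hwm := O.w_mem hm.1 hm.2
  have hB := O.zE' (O.amb.comm n hn.1 _ hwm.2)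
  rw [comm_mul_left_id, conj_eq_comm_mul, O.co_mul (E.mul_mem hB hwm.1) hwn.1, O.co_mul hB hwm.1]
  ring

theorem B_add_left {n n' m : Ω} (hn : n ∈ outN Q E) (hn' : n' ∈ outN Q E) (hm : m ∈ outN Q E) :
    co p Q g z ⁅n * n', ⁅m, ap g z⁆⁆ = co p Q g z ⁅n, ⁅m, ap g z⁆⁆ + co p Q g z ⁅n', ⁅m, ap g z⁆⁆ := by
  have hwm := O.w_mem hm.1 hm.2
  rw [O.amb.comm_mul_left (O.amb.le hn.1) (O.amb.comm _ hn'.1 _ hwm.2),
    O.co_mul (O.zE' (O.amb.comm _ hn'.1 _ hwm.2)) (O.zE' (O.amb.comm _ hn.1 _ hwm.2))]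
  ring

theorem B_symm {n m : Ω} (hn : n ∈ outN Q E) (hm : m ∈ outN Q E) :
    co p Q g z ⁅n, ⁅m, ap g z⁆⁆ = co p Q g z ⁅m, ⁅n, ap g z⁆⁆ := by
  have hwm := O.w_mem hm.1 hm.2
  have hwn := O.w_mem hn.1 hn.2
  have e : ∀ a : Ω, ap g z * a * (ap g z)⁻¹ = ⁅a, ap g z⁆⁻¹ * a := fun a => by
    rw [commutatorElement_inv, conj_eq_comm_mul]
  have h1 : ⁅⁅n, ap g z⁆⁻¹ * n, ⁅m, ap g z⁆⁻¹ * m⁆ = ⁅n, m⁆ := by
    rw [← e, ← e, ← conj_comm, O.amb.conj_fix O.xS (O.amb.comm n hn.1 m hm.1)]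
  have hii : ⁅⁅n, ap g z⁆⁻¹, ⁅m, ap g z⁆⁻¹⁆ = 1 :=
    commutatorElement_eq_one_iff_mul_comm.mpr (O.abelian (E.inv_mem hwn.1) (E.inv_mem hwm.1))
  have h := O.amb
  rw [h.comm_mul_left (h.le (Q.inv_mem hwn.2)) (h.comm n hn.1 _ (Q.mul_mem (Q.inv_mem hwm.2) hm.1)),
    h.comm_mul_right (h.le (Q.inv_mem hwm.2)) (h.comm n hn.1 m hm.1),
    h.comm_mul_right (h.le (Q.inv_mem hwm.2)) (h.comm _ (Q.inv_mem hwn.2) m hm.1), hii, one_mul,
    ← zpow_neg_one ⁅m, ap g z⁆, ← zpow_neg_one ⁅n, ap g z⁆,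
    h.comm_zpow_right (h.le hn.1) (h.le hwm.2) (h.comm n hn.1 _ hwm.2),
    h.comm_zpow_left (h.le hwn.2) (h.le hm.1) (h.comm _ hwn.2 m hm.1), zpow_neg_one, zpow_neg_one,
    commutatorElement_inv ⁅n, ap g z⁆ m] at h1
  have hc := congrArg (co p Q g z) h1
  rw [O.co_mul (E.mul_mem (E.inv_mem (O.zE' (h.comm n hn.1 _ hwm.2))) (O.zE' (h.comm n hn.1 m hm.1)))
      (O.zE' (h.comm m hm.1 _ hwn.2)),
    O.co_mul (E.inv_mem (O.zE' (h.comm n hn.1 _ hwm.2))) (O.zE' (h.comm n hn.1 m hm.1)),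
    O.co_inv (O.zE' (h.comm n hn.1 _ hwm.2))] at hc
  linear_combination -hc

theorem B_add_right {n m m' : Ω} (hn : n ∈ outN Q E) (hm : m ∈ outN Q E) (hm' : m' ∈ outN Q E) :
    co p Q g z ⁅n, ⁅m * m', ap g z⁆⁆ = co p Q g z ⁅n, ⁅m, ap g z⁆⁆ + co p Q g z ⁅n, ⁅m', ap g z⁆⁆ := by
  rw [O.B_symm hn ((outN Q E).mul_mem hm hm'), O.B_add_left hm hm' hn, O.B_symm hm hn, O.B_symm hm' hn]

theorem q_of_mem {n : Ω} (hn : n ∈ E) : co p Q g z ⁅n, ap g z⁆ = 0 := by rw [O.w_of_mem hn, O.co_one]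

theorem B_of_mem {n m : Ω} (hn : n ∈ E ⊓ Q) (hm : m ∈ outN Q E) : co p Q g z ⁅n, ⁅m, ap g z⁆⁆ = 0 := by
  rw [commutatorElement_eq_one_iff_mul_comm.mpr (O.abelian hn.1 (O.w_mem hm.1 hm.2).1), O.co_one]

theorem q_one : co p Q g z ⁅(1 : Ω), ap g z⁆ = 0 := O.q_of_mem E.one_mem

theorem B_one_left {m : Ω} (hm : m ∈ outN Q E) : co p Q g z ⁅(1 : Ω), ⁅m, ap g z⁆⁆ = 0 :=
  O.B_of_mem (one_mem _) hm

theorem B_pow_left {n m : Ω} (hn : n ∈ outN Q E) (hm : m ∈ outN Q E) :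
    ∀ t : ℕ, co p Q g z ⁅n ^ t, ⁅m, ap g z⁆⁆ = t * co p Q g z ⁅n, ⁅m, ap g z⁆⁆ := by
  intro t
  induction t with
  | zero => rw [pow_zero, O.B_one_left hm, Nat.cast_zero, zero_mul]
  | succ t ih =>
    rw [pow_succ, O.B_add_left ((outN Q E).pow_mem hn t) hn hm, ih]
    push_cast; ring

theorem B_pow_right {n m : Ω} (hn : n ∈ outN Q E) (hm : m ∈ outN Q E) (t : ℕ) :
    co p Q g z ⁅n, ⁅m ^ t, ap g z⁆⁆ = t * co p Q g z ⁅n, ⁅m, ap g z⁆⁆ := by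
  rw [O.B_symm hn ((outN Q E).pow_mem hm t), O.B_pow_left hm hn, O.B_symm hm hn]

theorem q_pow {n : Ω} (hn : n ∈ outN Q E) :
    ∀ t : ℕ, 2 * co p Q g z ⁅n ^ t, ap g z⁆ =
      t * (2 * co p Q g z ⁅n, ap g z⁆) + ((t : ZMod p) * t - t) * co p Q g z ⁅n, ⁅n, ap g z⁆⁆ := by
  intro t
  induction t with
  | zero => rw [pow_zero, O.q_one]; push_cast; ring
  | succ t ih =>
    rw [pow_succ, O.q_mul ((outN Q E).pow_mem hn t) hn, O.B_pow_left hn hn, mul_add, mul_add, ih]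
    push_cast; ring

theorem mem_of_pow_mem {n : Ω} (hn : n ∈ Q) {t : ℕ} (ht : (t : ZMod p) ≠ 0) (h : n ^ t ∈ E) : n ∈ E := by
  have hc : IsCoprime (p : ℤ) (t : ℤ) := (Nat.prime_iff_prime_int.mp hp.out).coprime_iff_not_dvd.mpr fun hd =>
    ht ((ZMod.natCast_eq_zero_iff t p).mpr (Int.natCast_dvd_natCast.mp hd))
  obtain ⟨r, s, hrs⟩ := hc
  rw [← zpow_one n, ← hrs, zpow_add, mul_comm r, zpow_mul, zpow_natCast, mul_comm s, zpow_mul, zpow_natCast]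
  exact E.mul_mem (E.zpow_mem (O.zE' (O.amb.pw n hn)) r) (E.zpow_mem h s)

end Out

end CfsgLib.IndexExtra
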