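import Cfsg.Agent.Lib.Fusion.IndexExtra.OuterBasic
import Mathlib.FieldTheory.Finite.Basic

/-!
# No image of the centre lies in `Q`: either `E` has order `p ^ 2` or `Q` normalises it
-/

set_option autoImplicit false

namespace CfsgLib.IndexExtra

open Subgroup
open scoped commutatorElement

variable {Ω : Type*} [Group Ω] {S Q E : Subgroup Ω} {p : ℕ} {z : Ω} [Finite S] [hp : Fact p.Prime]

omit [Finite S] in
theorem two_ne_zero_zmod (hodd : Odd p) : (2 : ZMod p) ≠ 0 := fun e => by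
  have h3 : ((2 : ℕ) : ZMod p) = 0 := by exact_mod_cast e
  have := Nat.le_of_dvd two_pos ((ZMod.natCast_eq_zero_iff 2 p).mp h3)
  have := hp.out.two_le
  obtain ⟨o, ho⟩ := hodd
  omega

omit [Finite S] in
theorem exists_diag_root (hodd : Odd p) {a b c : ZMod p} (ha : a ≠ 0) (hb : b ≠ 0) :
    ∃ x y : ZMod p, a * (x * x) + b * (y * y) = c := by
  have h2 := two_ne_zero_zmod hodd
  obtain ⟨x, y, hxy⟩ := FiniteField.exists_root_sum_quadratic (R := ZMod p)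
    (f := Polynomial.C a * Polynomial.X ^ 2) (g := Polynomial.C b * Polynomial.X ^ 2 + Polynomial.C (-c))
    (Polynomial.degree_C_mul_X_pow 2 ha)
    (by rw [Polynomial.degree_add_C (by rw [Polynomial.degree_C_mul_X_pow 2 hb]; norm_num),
      Polynomial.degree_C_mul_X_pow 2 hb]; rfl)
    (by rw [ZMod.card]; exact Nat.odd_iff.mp hodd)
  refine ⟨x, y, ?_⟩
  simp only [Polynomial.eval_add, Polynomial.eval_mul, Polynomial.eval_C, Polynomial.eval_pow, Polynomial.eval_X] at hxy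
  linear_combination hxy

namespace Out

variable {X : Subgroup (MulAut E)} {g : MulAut E} (O : Out p S Q E z X g)

include O

/-- An element centralising `D` moves `x` only along the centre. -/
theorem commD_mem {n : Ω} (hn : n ∈ outN Q E) (hc : ∀ d ∈ E ⊓ Q, n * d = d * n) :
    ⁅n, ap g z⁆ ∈ zpowers z := by
  by_cases hnE : n ∈ E
  · rw [O.w_of_mem hnE]; exact one_mem _
  have hwD := O.w_mem hn.1 hn.2
  set w := ⁅n, ap g z⁆ with hw
  obtain ⟨γ, hj⟩ := O.exists_co hwD.1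
  have hγ : (γ : ZMod p) ≠ 0 := fun e => hnE (O.mem_of_co_zero hn.1 hn.2 (by rw [← hw, O.co_eq hj, e]))
  set j := w * z ^ (-γ) with hjdef
  have hjD : j ∈ E ⊓ Q := mul_mem hwD (Amb.zle O.amb (K := E ⊓ Q) ⟨O.zE, O.amb.zQ⟩ (zpow_mem (mem_zpowers z) _))
  have hwj : w = z ^ γ * j := by
    rw [hjdef, zpow_neg, (O.cmt hwD.1 (E.inv_mem (E.zpow_mem O.zE γ))).eq, mul_inv_cancel_left]
  -- powers of `n` on `x`
  have hnpow : ∀ u : ℕ, n ^ u * ap g z * (n ^ u)⁻¹ = w ^ u * ap g z := fun u => by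
    induction u with
    | zero => simp
    | succ u ih =>
      rw [pow_succ', mul_inv_rev, show n * n ^ u * ap g z * ((n ^ u)⁻¹ * n⁻¹) =
        n * (n ^ u * ap g z * (n ^ u)⁻¹) * n⁻¹ by simp [mul_assoc], ih, ← conj_mul, ← _root_.conj_pow,
        hc w hwD, mul_inv_cancel_right, conj_eq_comm_mul n (ap g z), ← hw, ← mul_assoc, ← pow_succ]
  obtain ⟨a₀, haX₀, -, hae₀⟩ := O.mov.ind n ⟨O.amb.le hn.1, hn.2⟩
  set b := g * a₀ * g⁻¹ with hb
  have hbX : b ∈ X := X.mul_mem (X.mul_mem O.gX haX₀) (X.inv_mem O.gX)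
  have hbimg : ∀ y ∈ img g (E ⊓ Q), ap b y = y := fun y hy => by
    obtain ⟨d, hd, hdE, rfl⟩ := exists_of_mem_img hy
    rw [hb, ap_comp _ _ (ap_mem g hdE), ap_inv_ap g hdE, ap_comp _ _ hdE, hae₀ d hdE, hc d hd,
      mul_inv_cancel_right]
  obtain ⟨d₀, hd₀, r, hr⟩ := O.decompE (ap_mem g⁻¹ O.zE)
  set p₁ := ap g (w ^ r) with hp₁
  have hp₁i : p₁ ∈ img g (E ⊓ Q) := ap_mem_img g (E.zpow_mem hwD.1 r) (zpow_mem hwD r)
  have hbz : ap b z = z * p₁ := by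
    have e : n * ap g⁻¹ z * n⁻¹ = ap g⁻¹ z * w ^ r := by
      rw [hr, ← conj_mul, hc d₀ hd₀, mul_inv_cancel_right, ← _root_.conj_zpow, conj_eq_comm_mul n (ap g z), ← hw,
        (O.cmt hwD.1 O.xE).mul_zpow, (O.cmt (E.zpow_mem hwD.1 r) (E.zpow_mem O.xE r)).eq, mul_assoc]
    rw [hb, ap_comp _ _ O.zE, ap_comp _ _ (ap_mem _ O.zE), hae₀ _ (ap_mem _ O.zE), e,
      ap_mul g (ap_mem _ O.zE) (E.zpow_mem hwD.1 r), ap_ap_inv g O.zE]
  have hp₁E := img_le g _ hp₁i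
  have hp₁p : p₁ ^ p = 1 := by
    rw [hp₁, ← ap_pow g (E.zpow_mem hwD.1 r), ← zpow_natCast, ← zpow_mul, mul_comm, zpow_mul, zpow_natCast, hw,
      O.w_pow hn.1, one_zpow, ap_one_mem]
  obtain ⟨i₁, hi₁, k, hk⟩ := O.decompE hp₁E
  have hi₁i : i₁ ∈ img g (E ⊓ Q) := by
    have := (img g (E ⊓ Q)).mul_mem hp₁i ((img g (E ⊓ Q)).inv_mem ((img g (E ⊓ Q)).zpow_mem O.x_img k))
    rwa [hk, mul_inv_cancel_right] at this
  -- `b` moves `z` outside `Q`
  have hk0 : (k : ZMod p) ≠ 0 := fun e => by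
    obtain ⟨m, rfl⟩ := (ZMod.intCast_zmod_eq_zero_iff_dvd k p).mp e
    rw [zpow_mul, zpow_natCast, O.xp, one_zpow, mul_one] at hk
    have hq : ap b z ∈ Q := by rw [hbz, hk]; exact Q.mul_mem O.amb.zQ hi₁.2
    have hz' := O.image_dichotomy hbX hq
    rw [hbz] at hz'
    have h1 : p₁ ∈ zpowers z := by
      have := mul_mem (inv_mem (mem_zpowers z)) hz'
      rwa [inv_mul_cancel_left] at this
    have hp1 := O.img_inter_Z h1 hp₁i
    rw [hp1, mul_one] at hbz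
    have hall : ∀ y ∈ E, ap b y = y := fun y hy => by
      obtain ⟨l, hl⟩ := O.exists_co hy
      have e' : y = y * z ^ (-l) * z ^ l := by rw [zpow_neg, inv_mul_cancel_right]
      rw [e', ap_mul b (img_le g _ hl) (E.zpow_mem O.zE l), hbimg _ hl, ap_zpow b O.zE, hbz]
    refine hnE (O.mov.cent n (O.amb.le hn.1) fun y hy => ?_)
    have h2 := hall (ap g y) (ap_mem g hy)
    rw [hb, ap_comp _ _ (ap_mem g hy), ap_inv_ap g hy, ap_comp _ _ hy, hae₀ y hy] at h2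
    exact mul_inv_eq_iff_eq_mul.mp (ap_inj g (conj_mem_of_mem_normalizer hn.2 hy) hy h2)
  set u : ℕ := ((-2 : ZMod p) / ((γ : ZMod p) * k)).val with hu
  obtain ⟨a, haX, -, hae⟩ := O.mov.ind (n ^ u) ⟨O.amb.le (Q.pow_mem hn.1 u),
    Subgroup.pow_mem _ hn.2 u⟩
  set c : ℤ := 1 + γ * u * k with hc'
  set e := j ^ ((u : ℤ) * k) * p₁ with he
  have hei : e ∈ img g (E ⊓ Q) := (img g (E ⊓ Q)).mul_mem ((img g (E ⊓ Q)).zpow_mem hj _) hp₁i
  have hc1 : (p : ℤ) ∣ c + 1 := by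
    rw [← ZMod.intCast_zmod_eq_zero_iff_dvd, hc']
    push_cast
    rw [hu, ZMod.natCast_zmod_val]
    field_simp
    ring
  have hT1 : ap a (ap b z) = z ^ c * e := by
    have hcd : ∀ d ∈ E ⊓ Q, n ^ u * d * (n ^ u)⁻¹ = d := fun d hd => by
      rw [((show Commute n d from hc d hd).pow_left u).eq, mul_inv_cancel_right]
    rw [hbz, hk, hae _ (E.mul_mem O.zE (E.mul_mem hi₁.1 (E.zpow_mem O.xE k))), ← conj_mul, ← conj_mul,
      hcd z ⟨O.zE, O.amb.zQ⟩, hcd i₁ hi₁, ← _root_.conj_zpow, hnpow, he, hk, hc', zpow_add, zpow_one,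
      (O.cmt (E.pow_mem hwD.1 u) O.xE).mul_zpow, ← zpow_natCast w u, ← zpow_mul, hwj,
      (O.cmt (E.zpow_mem O.zE γ) hjD.1).mul_zpow, ← zpow_mul, mul_assoc γ]
    have c1 := O.cmt hi₁.1 (E.zpow_mem O.zE (γ * ((u : ℤ) * k)))
    have c2 := O.cmt hi₁.1 (E.zpow_mem hjD.1 ((u : ℤ) * k))
    simp only [mul_assoc]
    rw [c1.left_comm, c2.left_comm]
  have hp1c : p₁ ^ (c + 1) = 1 := by
    obtain ⟨m, hm⟩ := hc1
    rw [hm, zpow_mul, zpow_natCast, hp₁p, one_zpow]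
  have hT : ap (b * a * b) z = z ^ c * j ^ ((u : ℤ) * k) := by
    rw [ap_comp _ _ O.zE, ap_comp _ _ (ap_mem b O.zE), hT1, ap_mul b (E.zpow_mem O.zE c) (img_le g _ hei),
      hbimg e hei, ap_zpow b O.zE, hbz, (O.cmt O.zE hp₁E).mul_zpow, he, mul_assoc,
      ← mul_assoc (p₁ ^ c), (O.cmt (E.zpow_mem hp₁E c) (E.zpow_mem hjD.1 _)).eq, mul_assoc,
      ← zpow_add_one, hp1c, mul_one]
  have hTZ := O.image_dichotomy (X.mul_mem (X.mul_mem hbX haX) hbX) (by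
    rw [hT]; exact Q.mul_mem (Q.zpow_mem O.amb.zQ c) (Q.zpow_mem hjD.2 _))
  rw [hT] at hTZ
  have hj1 : j ^ ((u : ℤ) * k) = 1 := O.img_inter_Z (by
    have := mul_mem (inv_mem (zpow_mem (mem_zpowers z) c)) hTZ
    rwa [inv_mul_cancel_left] at this) ((img g (E ⊓ Q)).zpow_mem hj _)
  have hjp : j ^ p = 1 := by
    rw [hjdef, (O.cmt hwD.1 (E.zpow_mem O.zE _)).mul_pow, hw, O.w_pow hn.1,
      O.amb.pow_of_mem (zpow_mem (mem_zpowers z) _), one_mul]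
  have hj0 : j = 1 := by
    by_contra hne
    have h1 := (ZMod.intCast_zmod_eq_zero_iff_dvd _ p).mpr (O.amb.dvd_of_zpow hjp hne hj1)
    push_cast at h1
    rw [hu, ZMod.natCast_zmod_val] at h1
    have h2 := two_ne_zero_zmod (p := p) O.amb.odd
    simp [hk0, hγ, h2] at h1
  rw [hwj, hj0, mul_one]
  exact zpow_mem (mem_zpowers z) γ

theorem mem_N_of_comm {q : Ω} (hq : q ∈ Q) (hx : ⁅q, ap g z⁆ ∈ E) : q ∈ outN Q E := by
  have := finite_sub O.mov.le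
  refine ⟨hq, CfsgLib.Fusion.mem_normalizer_of_forall fun y hy => ?_⟩
  obtain ⟨d, hd, k, rfl⟩ := O.decompE hy
  rw [← conj_mul, ← _root_.conj_zpow, conj_eq_comm_mul q (ap g z), conj_eq_comm_mul q d]
  exact E.mul_mem (E.mul_mem (O.zE' (O.amb.comm q hq d hd.2)) hd.1) (E.zpow_mem (E.mul_mem hx O.xE) k)

theorem exists_central_outer (hne : outN Q E ≠ Q) :
    ∃ u ∈ outN Q E, u ∉ E ∧ ∀ q ∈ Q, ⁅ap g z, q⁆ ∈ zpowers z → u * q = q * u := by
  have hNQ : outN Q E ≤ Q := inf_le_left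
  have := finite_sub (hNQ.trans O.amb.le)
  have hzN : z ∈ outN Q E := ⟨O.amb.zQ, Subgroup.le_normalizer O.zE⟩
  have hS : S ≤ normalizer ((outN Q E : Subgroup Ω) : Set Ω) := by
    rw [← O.amb.sup_out O.xS O.xQ]
    refine sup_le (fun q hq => O.amb.le_normalizer_of_zle hzN hNQ hq) (zpowers_le.mpr ?_)
    have h0 : ap g z ∈ normalizer (E : Set Ω) := Subgroup.le_normalizer O.xE
    exact CfsgLib.Fusion.mem_normalizer_of_forall fun m hm => ⟨conj_mem_of_mem_normalizer (O.amb.norm O.xS) hm.1,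
      Subgroup.mul_mem _ (Subgroup.mul_mem _ h0 hm.2) (Subgroup.inv_mem _ h0)⟩
  obtain ⟨v, hvQ, hvN, hv⟩ := exists_central_step O.amb.isP hNQ O.amb.le hne hS O.amb.norm
  refine ⟨⁅ap g z, v⁆, hv _ O.xS, fun hE => hvN (O.mem_N_of_comm hvQ ?_), fun q hq hxq =>
    commutatorElement_eq_one_iff_mul_comm.mp (O.amb.comm_comm_eq_one' O.xS hvQ hq hxq)⟩
  rw [← commutatorElement_inv]
  exact E.inv_mem hE

theorem outer_exists : ∃ n ∈ outN Q E, n ∉ E := by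
  obtain ⟨n, hn, hnN, hnE⟩ := O.mov.exists_outer O.amb
  exact ⟨n, ⟨hn, hnN⟩, hnE⟩

theorem lin_add {n m : Ω} (hn : n ∈ outN Q E) (hm : m ∈ outN Q E) :
    2 * co p Q g z ⁅n * m, ap g z⁆ - co p Q g z ⁅n * m, ⁅n * m, ap g z⁆⁆ =
      (2 * co p Q g z ⁅n, ap g z⁆ - co p Q g z ⁅n, ⁅n, ap g z⁆⁆) +
        (2 * co p Q g z ⁅m, ap g z⁆ - co p Q g z ⁅m, ⁅m, ap g z⁆⁆) := by
  rw [O.q_mul hn hm, O.B_add_left hn hm ((outN Q E).mul_mem hn hm), O.B_add_right hn hn hm,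
    O.B_add_right hm hn hm, O.B_symm hm hn]
  ring

theorem lin_pow {n : Ω} (hn : n ∈ outN Q E) (t : ℕ) :
    2 * co p Q g z ⁅n ^ t, ap g z⁆ - co p Q g z ⁅n ^ t, ⁅n ^ t, ap g z⁆⁆ =
      t * (2 * co p Q g z ⁅n, ap g z⁆ - co p Q g z ⁅n, ⁅n, ap g z⁆⁆) := by
  rw [O.q_pow hn, O.B_pow_left hn ((outN Q E).pow_mem hn t), O.B_pow_right hn hn]
  ring

theorem lin_of_mem {n : Ω} (hn : n ∈ E) (hnQ : n ∈ Q) :
    2 * co p Q g z ⁅n, ap g z⁆ - co p Q g z ⁅n, ⁅n, ap g z⁆⁆ = 0 := by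
  rw [O.q_of_mem hn, O.B_of_mem ⟨hn, hnQ⟩ (O.D_le_N ⟨hn, hnQ⟩)]; ring

/-- An outer element has either a nonzero linear part or a nonzero quadratic one, not both. -/
theorem lin_or {y : Ω} (hy : y ∈ outN Q E) (hyE : y ∉ E)
    (hl : 2 * co p Q g z ⁅y, ap g z⁆ - co p Q g z ⁅y, ⁅y, ap g z⁆⁆ ≠ 0) :
    co p Q g z ⁅y, ⁅y, ap g z⁆⁆ = 0 := by
  by_contra hB
  set l := 2 * co p Q g z ⁅y, ap g z⁆ - co p Q g z ⁅y, ⁅y, ap g z⁆⁆ with hldef
  set B := co p Q g z ⁅y, ⁅y, ap g z⁆⁆ with hBdef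
  set t : ℕ := (-l / B).val with ht
  have h2 := two_ne_zero_zmod (p := p) O.amb.odd
  have htne : (t : ZMod p) ≠ 0 := by
    rw [ht, ZMod.natCast_zmod_val]; exact div_ne_zero (neg_ne_zero.mpr hl) hB
  refine hyE (O.mem_of_pow_mem hy.1 htne (O.mem_of_co_zero (Q.pow_mem hy.1 t)
    (Subgroup.pow_mem _ hy.2 t) ?_))
  have h := O.q_pow hy t
  have e : (t : ZMod p) * B = -l := by rw [ht, ZMod.natCast_zmod_val, div_mul_cancel₀ _ hB]
  have h' : 2 * co p Q g z ⁅y ^ t, ap g z⁆ = 0 := by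
    rw [h, ← hBdef]
    linear_combination (-(t : ZMod p)) * hldef + (t : ZMod p) * e
  exact (mul_eq_zero.mp h').resolve_left h2

/-- With two independent outer elements the linear part vanishes. -/
theorem lin_zero {n m : Ω} (hn : n ∈ outN Q E) (hnE : n ∉ E) (hm : m ∈ outN Q E) (hnm : ∀ k : ℕ, m * n ^ k ∉ E)
    {y : Ω} (hy : y ∈ outN Q E) : 2 * co p Q g z ⁅y, ap g z⁆ = co p Q g z ⁅y, ⁅y, ap g z⁆⁆ := by
  rw [← sub_eq_zero]
  by_contra hly
  have h2 := two_ne_zero_zmod (p := p) O.amb.odd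
  obtain ⟨w, hw, hwE, hlw⟩ : ∃ w ∈ outN Q E, w ∉ E ∧
      2 * co p Q g z ⁅w, ap g z⁆ - co p Q g z ⁅w, ⁅w, ap g z⁆⁆ = 0 := by
    by_cases hln : 2 * co p Q g z ⁅n, ap g z⁆ - co p Q g z ⁅n, ⁅n, ap g z⁆⁆ = 0
    · exact ⟨n, hn, hnE, hln⟩
    · set k : ℕ := (-(2 * co p Q g z ⁅m, ap g z⁆ - co p Q g z ⁅m, ⁅m, ap g z⁆⁆) /
        (2 * co p Q g z ⁅n, ap g z⁆ - co p Q g z ⁅n, ⁅n, ap g z⁆⁆)).val with hk
      refine ⟨m * n ^ k, (outN Q E).mul_mem hm ((outN Q E).pow_mem hn k), hnm k, ?_⟩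
      rw [O.lin_add hm ((outN Q E).pow_mem hn k), O.lin_pow hn, hk, ZMod.natCast_zmod_val, div_mul_cancel₀ _ hln,
        add_neg_cancel]
  have hwB : co p Q g z ⁅w, ⁅w, ap g z⁆⁆ ≠ 0 := fun hB => hwE (O.mem_of_co_zero hw.1 hw.2 (by
    rw [hB, sub_zero] at hlw
    exact (mul_eq_zero.mp hlw).resolve_left h2))
  have hB : ∀ t : ℕ, co p Q g z ⁅y, ⁅y, ap g z⁆⁆ + 2 * t * co p Q g z ⁅y, ⁅w, ap g z⁆⁆ +
      (t : ZMod p) * t * co p Q g z ⁅w, ⁅w, ap g z⁆⁆ = 0 := fun t => by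
    have hwt := (outN Q E).pow_mem hw t
    have hyt := (outN Q E).mul_mem hy hwt
    have hl : 2 * co p Q g z ⁅y * w ^ t, ap g z⁆ - co p Q g z ⁅y * w ^ t, ⁅y * w ^ t, ap g z⁆⁆ ≠ 0 := by
      rw [O.lin_add hy hwt, O.lin_pow hw, hlw, mul_zero, add_zero]; exact hly
    have h := O.lin_or hyt (fun hE => hl (O.lin_of_mem hE hyt.1)) hl
    rw [O.B_add_left hy hwt hyt, O.B_add_right hy hy hwt, O.B_add_right hwt hy hwt, O.B_pow_right hy hw,
      O.B_symm hwt hy, O.B_pow_right hy hw, O.B_pow_left hw hwt, O.B_pow_right hw hw] at h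
    linear_combination h
  have h0 := hB 0
  have h1 := hB 1
  have h2' := hB 2
  push_cast at h0 h1 h2'
  refine hwB ((mul_eq_zero.mp ?_).resolve_left h2)
  linear_combination h2' - 2 * h1 + h0

/-- An outer element has nonzero quadratic value, given two independent ones. -/
theorem quad_ne {n m : Ω} (hn : n ∈ outN Q E) (hnE : n ∉ E) (hm : m ∈ outN Q E) (hnm : ∀ k : ℕ, m * n ^ k ∉ E)
    {y : Ω} (hy : y ∈ outN Q E) (hyE : y ∉ E) : co p Q g z ⁅y, ⁅y, ap g z⁆⁆ ≠ 0 := fun hB => hyE (by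
  have h := O.lin_zero hn hnE hm hnm hy
  rw [hB] at h
  exact O.mem_of_co_zero hy.1 hy.2 ((mul_eq_zero.mp h).resolve_left (two_ne_zero_zmod O.amb.odd)))

/-- An orthogonal pair. -/
theorem exists_orth {n m : Ω} (hn : n ∈ outN Q E) (hnE : n ∉ E) (hm : m ∈ outN Q E)
    (hnm : ∀ k : ℕ, m * n ^ k ∉ E) :
    ∃ m' ∈ outN Q E, (∀ k : ℕ, m' * n ^ k ∉ E) ∧ co p Q g z ⁅n, ⁅m', ap g z⁆⁆ = 0 := by
  set k : ℕ := (-co p Q g z ⁅n, ⁅m, ap g z⁆⁆ / co p Q g z ⁅n, ⁅n, ap g z⁆⁆).val with hk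
  refine ⟨m * n ^ k, (outN Q E).mul_mem hm ((outN Q E).pow_mem hn k), fun l => ?_, ?_⟩
  · rw [mul_assoc, ← pow_add]; exact hnm _
  · rw [O.B_add_right hn hm ((outN Q E).pow_mem hn k), O.B_pow_right hn hn, hk, ZMod.natCast_zmod_val,
      div_mul_cancel₀ _ (O.quad_ne hn hnE hm hnm hn hnE), add_neg_cancel]

/-- An orthogonal pair spans everything outside `E`. -/
theorem orth_span {n m : Ω} (hn : n ∈ outN Q E) (hnE : n ∉ E) (hm : m ∈ outN Q E) (hnm : ∀ k : ℕ, m * n ^ k ∉ E)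
    (ho : co p Q g z ⁅n, ⁅m, ap g z⁆⁆ = 0) {q : Ω} (hq : q ∈ outN Q E) : ∃ i j : ℕ, q * n ^ i * m ^ j ∈ E := by
  have hmE : m ∉ E := by simpa using hnm 0
  have ha := O.quad_ne hn hnE hm hnm hn hnE
  have hb := O.quad_ne hn hnE hm hnm hm hmE
  set a := co p Q g z ⁅n, ⁅n, ap g z⁆⁆ with hadef
  set b := co p Q g z ⁅m, ⁅m, ap g z⁆⁆ with hbdef
  set i : ℕ := (-co p Q g z ⁅n, ⁅q, ap g z⁆⁆ / a).val with hi
  set j : ℕ := (-co p Q g z ⁅m, ⁅q, ap g z⁆⁆ / b).val with hj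
  refine ⟨i, j, ?_⟩
  by_contra hqE
  have hni := (outN Q E).pow_mem hn i
  have hmj := (outN Q E).pow_mem hm j
  have hq' := (outN Q E).mul_mem ((outN Q E).mul_mem hq hni) hmj
  set q' := q * n ^ i * m ^ j with hq'def
  have hnq : co p Q g z ⁅n, ⁅q', ap g z⁆⁆ = 0 := by
    rw [hq'def, O.B_add_right hn ((outN Q E).mul_mem hq hni) hmj, O.B_add_right hn hq hni, O.B_pow_right hn hn,
      O.B_pow_right hn hm, ho, ← hadef, hi, ZMod.natCast_zmod_val, div_mul_cancel₀ _ ha]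
    ring
  have hmq : co p Q g z ⁅m, ⁅q', ap g z⁆⁆ = 0 := by
    rw [hq'def, O.B_add_right hm ((outN Q E).mul_mem hq hni) hmj, O.B_add_right hm hq hni, O.B_pow_right hm hn,
      O.B_pow_right hm hm, O.B_symm hm hn, ho, mul_zero, add_zero, ← hbdef, hj, ZMod.natCast_zmod_val, div_mul_cancel₀ _ hb]
    ring
  obtain ⟨x, y, hxy⟩ := exists_diag_root (c := -co p Q g z ⁅q', ⁅q', ap g z⁆⁆) O.amb.odd ha hb
  set y' := n ^ x.val * m ^ y.val * q' with hy'def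
  have h1 := (outN Q E).pow_mem hn x.val
  have h2 := (outN Q E).pow_mem hm y.val
  have h12 := (outN Q E).mul_mem h1 h2
  have hy' := (outN Q E).mul_mem h12 hq'
  have hB : co p Q g z ⁅y', ⁅y', ap g z⁆⁆ = 0 := by
    have hqn : co p Q g z ⁅q', ⁅n, ap g z⁆⁆ = 0 := (O.B_symm hq' hn).trans hnq
    have hqm : co p Q g z ⁅q', ⁅m, ap g z⁆⁆ = 0 := (O.B_symm hq' hm).trans hmq
    have hmn : co p Q g z ⁅m, ⁅n, ap g z⁆⁆ = 0 := (O.B_symm hm hn).trans ho
    rw [hy'def, O.B_add_left h12 hq' hy', O.B_add_left h1 h2 hy', O.B_pow_left hn hy', O.B_pow_left hm hy',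
      O.B_add_right hn h12 hq', O.B_add_right hn h1 h2, O.B_add_right hm h12 hq', O.B_add_right hm h1 h2,
      O.B_add_right hq' h12 hq', O.B_add_right hq' h1 h2, O.B_pow_right hn hn, O.B_pow_right hn hm,
      O.B_pow_right hm hn, O.B_pow_right hm hm, O.B_pow_right hq' hn, O.B_pow_right hq' hm, hnq, hmq, hqn, hqm,
      hmn, ho, ← hadef, ← hbdef, ZMod.natCast_zmod_val, ZMod.natCast_zmod_val]
    linear_combination hxy
  have hyE : y' ∈ E := by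
    by_contra hyE
    exact O.quad_ne hn hnE hm hnm hy' hyE hB
  have hBn := O.B_of_mem ⟨hyE, hy'.1⟩ hn
  have hBm := O.B_of_mem ⟨hyE, hy'.1⟩ hm
  rw [hy'def, O.B_add_left h12 hq' hn, O.B_add_left h1 h2 hn, O.B_pow_left hn hn, O.B_pow_left hm hn,
    O.B_symm hq' hn, hnq, O.B_symm hm hn, ho, ← hadef, ZMod.natCast_zmod_val, mul_zero, add_zero,
    add_zero] at hBn
  rw [hy'def, O.B_add_left h12 hq' hm, O.B_add_left h1 h2 hm, O.B_pow_left hn hm, O.B_pow_left hm hm,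
    O.B_symm hq' hm, hmq, ho, ← hbdef, ZMod.natCast_zmod_val, ZMod.natCast_zmod_val, mul_zero, zero_add,
    add_zero] at hBm
  refine O.quad_ne hn hnE hm hnm hq' hqE ?_
  have hx0 := (mul_eq_zero.mp hBn).resolve_right ha
  have hy0 := (mul_eq_zero.mp hBm).resolve_right hb
  rw [hx0, hy0] at hxy
  linear_combination hxy

theorem card_le_sup_pow {K : Subgroup Ω} (hKD : z ∈ K) (hK : K ≤ Q) {n : Ω} (hn : n ∈ Q) :
    Nat.card (K ⊔ zpowers n : Subgroup Ω) ≤ p * Nat.card K := by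
  have := finite_sub (hK.trans O.amb.le)
  exact card_sup_le hp.out.pos (O.amb.le_normalizer_of_zle hKD hK hn) (Amb.zle O.amb hKD (O.amb.pw n hn))

/-- Either `E` is as small as possible, or `Q` normalises `E` and is spanned over it by an orthogonal pair. -/
theorem dichotomy : E ⊓ Q = zpowers z ∨
    (Q ≤ normalizer (E : Set Ω) ∧ ∃ n ∈ outN Q E, n ∉ E ∧ ∃ m ∈ outN Q E, (∀ k : ℕ, m * n ^ k ∉ E) ∧
      co p Q g z ⁅n, ⁅m, ap g z⁆⁆ = 0) := by
  by_cases htwo : ∃ n ∈ outN Q E, n ∉ E ∧ ∃ m ∈ outN Q E, ∀ k : ℕ, m * n ^ k ∉ E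
  · obtain ⟨n, hn, hnE, m, hm, hnm⟩ := htwo
    refine Or.inr ⟨?_, n, hn, hnE, ?_⟩
    · by_contra hQn
      obtain ⟨u, hu, huE, huc⟩ := O.exists_central_outer fun e => hQn (inf_eq_left.mp e)
      have hd : ∀ d ∈ E ⊓ Q, u * d = d * u := fun d hd => huc d hd.2 (by
        rw [commutatorElement_eq_one_iff_mul_comm.mpr (O.abelian O.xE hd.1)]; exact one_mem _)
      have hwu := O.commD_mem hu hd
      refine O.quad_ne hn hnE hm hnm hu huE ?_
      rw [O.amb.comm_z_right (O.amb.le hu.1) hwu, O.co_one]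
    · obtain ⟨m', hm', hnm', ho⟩ := O.exists_orth hn hnE hm hnm
      exact ⟨m', hm', hnm', ho⟩
  · push Not at htwo
    left
    obtain ⟨n₀, hn₀, hn₀E⟩ := O.outer_exists
    have hDQ : E ⊓ Q ≤ Q := inf_le_right
    have hzD : z ∈ E ⊓ Q := ⟨O.zE, O.amb.zQ⟩
    have hne : outN Q E ≠ Q := fun hN => by
      have hle : Q ≤ (E ⊓ Q) ⊔ zpowers n₀ := fun q hq => by
        obtain ⟨k, hk⟩ := htwo n₀ hn₀ hn₀E q (hN.ge hq)
        have h1 : q * n₀ ^ k ∈ (E ⊓ Q) ⊔ zpowers n₀ :=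
          mem_sup_left ⟨hk, Q.mul_mem hq (Q.pow_mem hn₀.1 k)⟩
        have h2 := Subgroup.mul_mem _ h1 (Subgroup.inv_mem _ (mem_sup_right (npow_mem_zpowers n₀ k)))
        rwa [mul_inv_cancel_right] at h2
      have := finite_sub (sup_le (hDQ.trans O.amb.le) (zpowers_le.mpr (O.amb.le hn₀.1)) :
        (E ⊓ Q) ⊔ zpowers n₀ ≤ S)
      have h1 := (Subgroup.card_le_of_le hle).trans (O.card_le_sup_pow hzD hDQ hn₀.1)
      have h2 := O.amb.abel (E ⊓ Q) hDQ fun a ha b hb => O.abelian ha.1 hb.1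
      obtain ⟨k, hk, -, h5⟩ := O.amb.card_S
      obtain ⟨d, hd⟩ := exists_card (p := p) O.amb.isP (hDQ.trans O.amb.le)
      rw [hk, hd, ← pow_succ', Nat.pow_le_pow_iff_right hp.out.one_lt] at h1
      rw [hk, hd, ← pow_add, ← pow_succ', Nat.pow_le_pow_iff_right hp.out.one_lt] at h2
      omega
    obtain ⟨u, hu, huE, huc⟩ := O.exists_central_outer hne
    have hdc : ∀ d ∈ E ⊓ Q, u * d = d * u := fun d hd => huc d hd.2 (by
      rw [commutatorElement_eq_one_iff_mul_comm.mpr (O.abelian O.xE hd.1)]; exact one_mem _)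
    have hwu := O.commD_mem hu hdc
    have hNK : ∀ q ∈ outN Q E, ⁅ap g z, q⁆ ∈ zpowers z := fun q hq => by
      obtain ⟨k, hk⟩ := htwo u hu huE q hq
      have hu' := Q.pow_mem hu.1 k
      have hkE : ⁅ap g z, u ^ k⁆ ∈ zpowers z := by
        rw [← zpow_natCast, O.amb.comm_zpow_right O.xS (O.amb.le hu.1) (O.amb.comm_symm hwu)]
        exact zpow_mem (O.amb.comm_symm hwu) k
      have h1 : ⁅ap g z, q * u ^ k⁆ = 1 := by
        rw [← commutatorElement_inv, O.w_of_mem hk, inv_one]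
      rw [O.amb.comm_mul_right (O.amb.le hq.1) hkE] at h1
      rw [eq_inv_of_mul_eq_one_left h1]
      exact inv_mem hkE
    have hKN : ∀ q ∈ Q, ⁅ap g z, q⁆ ∈ zpowers z → q ∈ outN Q E := fun q hq hxq =>
      O.mem_N_of_comm hq (O.zE' (O.amb.comm_symm hxq))
    -- the subgroup of commutators with `x`
    let W : Subgroup Ω :=
      { carrier := {w | ∃ q ∈ Q, ∃ v ∈ zpowers z, w = ⁅ap g z, q⁆ * v}
        one_mem' := ⟨1, Q.one_mem, 1, one_mem _, by simp⟩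
        mul_mem' := fun {a b} ⟨q, hq, v, hv, ha⟩ ⟨q', hq', v', hv', hb⟩ => by
          have hc := O.amb.comm_mem_Q O.xS (O.amb.le hq')
          refine ⟨q * q', Q.mul_mem hq hq', ⁅q, ⁅ap g z, q'⁆⁆⁻¹ * (v * v'),
            mul_mem (inv_mem (O.amb.comm q hq _ hc)) (mul_mem hv hv'), ?_⟩
          rw [ha, hb, comm_mul_right_id, conj_eq_comm_mul]
          have e1 : Commute v ⁅ap g z, q'⁆ := (O.amb.fix (O.amb.le hc) hv).symm
          have e2 : Commute ⁅q, ⁅ap g z, q'⁆⁆⁻¹ ⁅ap g z, q'⁆ :=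
            (O.amb.fix (O.amb.le hc) (inv_mem (O.amb.comm q hq _ hc))).symm
          simp only [mul_assoc]
          rw [e1.left_comm, e2.symm.left_comm, mul_inv_cancel_left]
        inv_mem' := fun {a} ⟨q, hq, v, hv, ha⟩ => by
          have hc := O.amb.comm_mem_Q O.xS (O.amb.le hq)
          refine ⟨q⁻¹, Q.inv_mem hq, ⁅q⁻¹, ⁅ap g z, q⁆⁻¹⁆⁻¹ * v⁻¹,
            mul_mem (inv_mem (O.amb.comm _ (Q.inv_mem hq) _ (Q.inv_mem hc))) (inv_mem hv), ?_⟩
          have e : ⁅ap g z, q⁻¹⁆ = ⁅q⁻¹, ⁅ap g z, q⁆⁻¹⁆ * ⁅ap g z, q⁆⁻¹ := by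
            rw [← conj_eq_comm_mul]; simp [commutatorElement_def, mul_assoc]
          have e2 := O.amb.fix (O.amb.le (Q.inv_mem hc))
            (inv_mem (O.amb.comm _ (Q.inv_mem hq) _ (Q.inv_mem hc)))
          have e3 := O.amb.fix (O.amb.le (Q.inv_mem hc)) (inv_mem hv)
          rw [ha, mul_inv_rev, e, mul_assoc ⁅q⁻¹, ⁅ap g z, q⁆⁻¹⁆, ← mul_assoc ⁅ap g z, q⁆⁻¹, e2, mul_assoc,
            mul_inv_cancel_left, ← e3] }
    have hWQ : W ≤ Q := by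
      rintro _ ⟨q, hq, v, hv, rfl⟩
      exact Q.mul_mem (O.amb.comm_mem_Q O.xS (O.amb.le hq)) (O.amb.zmem hv)
    set C := Q ⊓ centralizer ((outN Q E : Subgroup Ω) : Set Ω) with hC
    have hWC : W ≤ C := fun w hw => ⟨hWQ hw, mem_centralizer_iff.mpr fun r hr => by
      obtain ⟨q, hq, v, hv, rfl⟩ := hw
      have h1 : Commute r ⁅ap g z, q⁆ := (commutatorElement_eq_one_iff_mul_comm.mp
        (O.amb.comm_comm_eq_one' O.xS hq hr.1 (hNK r hr))).symm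
      exact (h1.mul_right (O.amb.fix (O.amb.le hr.1) hv)).eq⟩
    have hNC : outN Q E ≤ C := fun r hr => ⟨hr.1, mem_centralizer_iff.mpr fun s hs => by
      have hnc : ∀ q ∈ outN Q E, u * q = q * u := fun q hq => huc q hq.1 (hNK q hq)
      obtain ⟨k, hk⟩ := htwo u hu huE r hr
      obtain ⟨l, hl⟩ := htwo u hu huE s hs
      have c1 : Commute (r * u ^ k) (s * u ^ l) := O.cmt hk hl
      have hur : Commute u r := hnc r hr
      have hus : Commute u s := hnc s hs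
      have c2 : Commute (r * u ^ k) s := by
        have := c1.mul_right (((hur.pow_left l).symm.mul_left ((Commute.refl u).pow_pow k l)).inv_right)
        rwa [mul_inv_cancel_right] at this
      have c3 := c2.mul_left ((hus.pow_left k).inv_left)
      rw [mul_inv_cancel_right] at c3
      exact c3.symm.eq⟩
    have hWN : p * Nat.card Q ≤ Nat.card W * Nat.card (outN Q E) := by
      have := finite_sub (hWQ.trans O.amb.le)
      have : Finite (outN Q E) := finite_sub ((inf_le_left : outN Q E ≤ Q).trans O.amb.le)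
      have := finite_sub O.amb.le
      have := finite_sub (zpowers_le.mpr (O.amb.le O.amb.zQ) : zpowers z ≤ S)
      have hsec : ∀ w : W, ∃ q : Q, ∃ v ∈ zpowers z, (w : Ω) = ⁅ap g z, (q : Ω)⁆ * v := fun w => by
        obtain ⟨q, hq, r⟩ := w.2
        exact ⟨⟨q, hq⟩, r⟩
      choose sq hsq using hsec
      have hin : ∀ w : W, ∀ r : outN Q E,
          ⁅ap g z, (sq w : Ω) * r⁆⁻¹ * (w : Ω) ∈ zpowers z := fun w r => by
        obtain ⟨v, hv, hw⟩ := hsq w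
        have hr := hNK r r.2
        rw [O.amb.comm_mul_right (O.amb.le (sq w).2) hr, hw, mul_inv_rev, mul_assoc, inv_mul_cancel_left]
        exact mul_mem (inv_mem hr) hv
      let f : W × outN Q E → Q × zpowers z := fun t =>
        (⟨(sq t.1 : Ω) * t.2, Q.mul_mem (sq t.1).2 t.2.2.1⟩, ⟨_, hin t.1 t.2⟩)
      have hf : Function.Surjective f := by
        rintro ⟨⟨q, hq⟩, v, hv⟩
        set w : W := ⟨⁅ap g z, q⁆ * v, q, hq, v, hv, rfl⟩ with hwdef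
        obtain ⟨v', hv', hw⟩ := hsq w
        have hs : (sq w : Ω)⁻¹ * q ∈ Q := Q.mul_mem (Q.inv_mem (sq w).2) hq
        have hd : ⁅ap g z, (sq w : Ω)⁻¹ * q⁆ ∈ zpowers z := by
          have e : ⁅ap g z, (sq w : Ω) * ((sq w : Ω)⁻¹ * q)⁆ = ⁅ap g z, q⁆ := by rw [mul_inv_cancel_left]
          rw [comm_mul_right_id, show ⁅ap g z, q⁆ = ⁅ap g z, (sq w : Ω)⁆ * v' * v⁻¹ by
            rw [← hw]; simp [hwdef], mul_assoc ⁅ap g z, (sq w : Ω)⁆] at e
          have e' := mul_left_cancel e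
          rw [show ⁅ap g z, (sq w : Ω)⁻¹ * q⁆ = (sq w : Ω)⁻¹ * (v' * v⁻¹) * (sq w : Ω)⁻¹⁻¹ by rw [← e']; group,
            O.amb.conj_fix (O.amb.le (Q.inv_mem (sq w).2)) (mul_mem hv' (inv_mem hv))]
          exact mul_mem hv' (inv_mem hv)
        refine ⟨(w, ⟨_, hKN _ hs hd⟩), ?_⟩
        refine Prod.ext (Subtype.ext ?_) (Subtype.ext ?_)
        · exact mul_inv_cancel_left _ _
        · show ⁅ap g z, (sq w : Ω) * ((sq w : Ω)⁻¹ * q)⁆⁻¹ * (⁅ap g z, q⁆ * v) = v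
          rw [mul_inv_cancel_left, inv_mul_cancel_left]
      have h1 := Nat.card_le_card_of_surjective f hf
      rwa [Nat.card_prod, Nat.card_prod, O.amb.card_Z, mul_comm (Nat.card Q)] at h1
    have hWC' : W = C := by
      have h1 := O.amb.card_centralizer_mul_le C (outN Q E) inf_le_left inf_le_left fun c hc r hr =>
        (mem_centralizer_iff.mp hc.2 r hr).symm
      have : Finite (outN Q E) := finite_sub ((inf_le_left : outN Q E ≤ Q).trans O.amb.le)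
      have := finite_sub ((inf_le_left : C ≤ Q).trans O.amb.le)
      exact CfsgLib.Fusion.eq_of_le_of_card_le hWC (Nat.le_of_mul_le_mul_right (h1.trans hWN) Nat.card_pos)
    refine le_antisymm (fun d hd => ?_) (zpowers_le.mpr hzD)
    obtain ⟨q, hq, v, hv, hdq⟩ := (hWC'.ge (hNC (O.D_le_N hd)) : d ∈ W)
    have hqN : q ∈ outN Q E := O.mem_N_of_comm hq (by
      rw [← commutatorElement_inv, eq_mul_inv_of_mul_eq hdq.symm]
      exact E.inv_mem (E.mul_mem hd.1 (E.inv_mem (O.zE' hv))))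
    rw [hdq]
    exact mul_mem (hNK q hqN) hv

end Out

end CfsgLib.IndexExtra
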