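import Cfsg.Agent.Lib.Fusion.IndexExtra.OuterWeyl
import Cfsg.Agent.Lib.Fusion.IndexExtra.Pre

/-!
# `Q` normalises `E`: exponent `p` and the frame of Lagrangian type
-/

set_option autoImplicit false

namespace CfsgLib.IndexExtra

open Subgroup
open scoped commutatorElement

variable {Ω : Type*} [Group Ω] {S Q E : Subgroup Ω} {p : ℕ} {z : Ω} [Finite S] [hp : Fact p.Prime]

/-- An element conjugating `Aut_S(E)` into `K ⊇ Aut_S(E)` can be corrected to normalise it. -/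
theorem Mov.exists_normalising {X : Subgroup (MulAut E)} (M : Mov p S Q E z X) (h : Amb p S Q z)
    {K : Subgroup (MulAut E)} (hK : K ≤ X) (hTK : Cfsg.autInducedBy S E ≤ K) {t : MulAut E}
    (ht : ∀ a ∈ Cfsg.autInducedBy S E, t * a * t⁻¹ ∈ K) :
    ∃ k ∈ K, ∀ a ∈ Cfsg.autInducedBy S E, k * t * a * (k * t)⁻¹ ∈ Cfsg.autInducedBy S E := by
  have hle : (Cfsg.autInducedBy S E).map (MulAut.conj t).toMonoidHom ≤ K := by
    rintro _ ⟨a, ha, rfl⟩; exact ht a ha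
  obtain ⟨k, hk, hkT⟩ := M.conjT K hK hTK _ hle ((CfsgLib.Fusion.isPGroup_autInducedBy h.isP E).map _)
  refine ⟨k, hk, fun a ha => ?_⟩
  have h1 := hkT ⟨t * a * t⁻¹, ⟨a, ha, rfl⟩, rfl⟩
  rw [show k * t * a * (k * t)⁻¹ = k * (t * a * t⁻¹) * k⁻¹ by group]
  exact h1

/-- A submonoid of `MulAut E` as a subgroup. -/
def subOfMonoid {G : Type*} [Group G] [Finite G] (P : Submonoid G) : Subgroup G :=
  { P with
    inv_mem' := fun {k} hk => by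
      obtain ⟨j, hj⟩ := (IsOfFinOrder.mem_powers_iff_mem_zpowers (isOfFinOrder_of_finite k)).mpr
        (Subgroup.inv_mem _ (Subgroup.mem_zpowers k))
      show k⁻¹ ∈ P
      rw [show k⁻¹ = k ^ j from hj.symm]
      exact P.pow_mem hk j }

namespace Two

variable {X : Subgroup (MulAut E)} {g : MulAut E} {n m : Ω} (T : Two p S Q E z X g n m)

include T

theorem swap : Two p S Q E z X g m n where
  out := T.out
  norm := T.norm
  nQ := T.mQ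
  mQ := T.nQ
  nE := T.mE
  orth := T.B_mn
  ind k hk := by
    have O := T.out
    have h := O.B_of_mem ⟨hk, Q.mul_mem T.nQ (Q.pow_mem T.mQ k)⟩ (T.memN T.nQ)
    rw [O.B_add_left (T.memN T.nQ) ((outN Q E).pow_mem (T.memN T.mQ) k) (T.memN T.nQ),
      O.B_pow_left (T.memN T.mQ) (T.memN T.nQ), T.B_mn, mul_zero, add_zero] at h
    exact T.B_ne T.nQ T.nE h

/-- An automorphism of `S` inverting `D` modulo the centre. -/
theorem exists_tau : ∃ τ : MulAut S, ∃ l : ℕ, ∃ lam : ℤ, (lam : ZMod p) * l = 1 ∧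
    ap τ z = z ^ lam ∧ (∃ d₀ ∈ E ⊓ Q, ap τ (ap g z) = (d₀ * ap g z) ^ l) ∧
    (∃ v ∈ zpowers z, ap τ ⁅n, ap g z⁆ = v * ⁅n, ap g z⁆⁻¹) ∧
    ∃ v ∈ zpowers z, ap τ ⁅m, ap g z⁆ = v * ⁅m, ap g z⁆⁻¹ := by
  have O := T.out
  have hzD : z ∈ E ⊓ Q := ⟨O.zE, O.amb.zQ⟩
  obtain ⟨A, hA⟩ := O.exists_co (T.wD T.nQ).1
  obtain ⟨A', hA'⟩ := O.exists_co (T.wD T.mQ).1
  have hA0 : (A : ZMod p) ≠ 0 := O.co_eq hA ▸ T.q_ne T.nQ T.nE
  have hA0' : (A' : ZMod p) ≠ 0 := O.co_eq hA' ▸ T.q_ne T.mQ T.mE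
  obtain ⟨ν, hν⟩ : ∃ ν : ℤ, (ν : ZMod p) * A = 1 := ⟨((A : ZMod p)⁻¹).val, by
    rw [Int.cast_natCast, ZMod.natCast_zmod_val, inv_mul_cancel₀ hA0]⟩
  obtain ⟨ν', hν'⟩ : ∃ ν' : ℤ, (ν' : ZMod p) * A' = 1 := ⟨((A' : ZMod p)⁻¹).val, by
    rw [Int.cast_natCast, ZMod.natCast_zmod_val, inv_mul_cancel₀ hA0']⟩
  obtain ⟨w₁, hw₁, w1z, w1x, w1j, w1j'⟩ := T.exists_weyl T.nQ T.nE T.mQ T.mE T.orth hA hA' hν
  obtain ⟨w₂, hw₂, w2z, w2x, w2j', w2j⟩ := T.exists_weyl T.mQ T.mE T.nQ T.nE T.B_mn hA' hA hν'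
  set j := ⁅n, ap g z⁆ * z ^ (-A) with hjdef
  set j' := ⁅m, ap g z⁆ * z ^ (-A') with hj'def
  have hj : j ∈ E ⊓ Q := mul_mem (T.wD T.nQ) (zpow_mem hzD _)
  have hj' : j' ∈ E ⊓ Q := mul_mem (T.wD T.mQ) (zpow_mem hzD _)
  set h := w₁ * w₂ with hh
  have hhX : h ∈ X := X.mul_mem hw₁ hw₂
  set lam : ℤ := A * ν' with hlam
  set l : ℕ := ((ν : ZMod p) * A').val with hl
  have hll : (lam : ZMod p) * l = 1 := by
    rw [hlam, hl, ZMod.natCast_zmod_val]; push_cast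
    linear_combination (ν' : ZMod p) * A' * hν + hν'
  have hz : ap h z = z ^ lam := by
    rw [hh, ap_comp _ _ O.zE, w2z, ap_zpow w₁ O.xE, w1x, ← zpow_mul]
  have hx : ap h (ap g z) = ap g z ^ l := by
    rw [hh, ap_comp _ _ O.xE, w2x, ap_zpow w₁ O.zE, w1z, ← zpow_mul, ← zpow_natCast (ap g z) l]
    exact O.xpow_eq (by rw [hl]; push_cast; rw [ZMod.natCast_zmod_val])
  have hhj : ap h j = j⁻¹ := by rw [hh, ap_comp _ _ hj.1, w2j, w1j]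
  have hhj' : ap h j' = j'⁻¹ := by rw [hh, ap_comp _ _ hj'.1, w2j', ap_inv w₁ hj'.1, w1j']
  have hwn : ⁅n, ap g z⁆ = j * z ^ A := by rw [hjdef, zpow_neg, inv_mul_cancel_right]
  have hwm : ⁅m, ap g z⁆ = j' * z ^ A' := by rw [hj'def, zpow_neg, inv_mul_cancel_right]
  -- `h` preserves `D`
  let R : Subgroup Ω :=
    { carrier := {d | d ∈ E ⊓ Q ∧ ap h d ∈ E ⊓ Q}
      one_mem' := ⟨one_mem _, by rw [ap_one_mem]; exact one_mem _⟩
      mul_mem' := fun {a b} ha hb => ⟨mul_mem ha.1 hb.1, by rw [ap_mul h ha.1.1 hb.1.1]; exact mul_mem ha.2 hb.2⟩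
      inv_mem' := fun {a} ha => ⟨inv_mem ha.1, by rw [ap_inv h ha.1.1]; exact inv_mem ha.2⟩ }
  let R' : Subgroup Ω :=
    { carrier := {d | ∃ d' ∈ E ⊓ Q, ap h d' = d}
      one_mem' := ⟨1, one_mem _, ap_one_mem h⟩
      mul_mem' := fun {a b} ⟨a', ha', ha⟩ ⟨b', hb', hb⟩ => ⟨a' * b', mul_mem ha' hb', by
        rw [ap_mul h ha'.1 hb'.1, ha, hb]⟩
      inv_mem' := fun {a} ⟨a', ha', ha⟩ => ⟨a'⁻¹, inv_mem ha', by rw [ap_inv h ha'.1, ha]⟩ }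
  have hgen : ∀ U : Subgroup Ω, z ∈ U → j ∈ U → j' ∈ U → E ⊓ Q ≤ U := fun U hzU hjU hj'U => by
    rw [← T.cards.2.2]
    exact sup_le (sup_le (zpowers_le.mpr hzU) (zpowers_le.mpr (hwn ▸ mul_mem hjU (zpow_mem hzU _))))
      (zpowers_le.mpr (hwm ▸ mul_mem hj'U (zpow_mem hzU _)))
  have hDR : E ⊓ Q ≤ R := hgen R ⟨hzD, by rw [hz]; exact zpow_mem hzD _⟩ ⟨hj, by rw [hhj]; exact inv_mem hj⟩
    ⟨hj', by rw [hhj']; exact inv_mem hj'⟩
  have hDR' : E ⊓ Q ≤ R' := hgen R'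
    ⟨z ^ l, pow_mem hzD l, by
      rw [ap_pow h O.zE, hz, ← zpow_natCast, ← zpow_mul]
      exact (O.zpow_eq (k := 1) (by push_cast; exact hll)).trans (zpow_one z)⟩
    ⟨j⁻¹, inv_mem hj, by rw [ap_inv h hj.1, hhj, inv_inv]⟩
    ⟨j'⁻¹, inv_mem hj', by rw [ap_inv h hj'.1, hhj', inv_inv]⟩
  -- the stabiliser of the series
  have := CfsgLib.Fusion.finite_mulAut O.mov.le
  let K' : Submonoid (MulAut E) :=
    { carrier := {k | k ∈ X ∧ ap k z = z ∧ (∀ d ∈ E ⊓ Q, ap k d * d⁻¹ ∈ zpowers z) ∧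
        ap k (ap g z) * (ap g z)⁻¹ ∈ E ⊓ Q}
      one_mem' := ⟨X.one_mem, ap_id, fun d _ => by rw [ap_id, mul_inv_cancel]; exact one_mem _,
        by rw [ap_id, mul_inv_cancel]; exact one_mem _⟩
      mul_mem' := fun {a b} ha hb => by
        have hfix : ∀ v ∈ zpowers z, ap a v = v := fun v ⟨i, hi⟩ => by
          rw [← hi]; show ap a (z ^ i) = z ^ i; rw [ap_zpow a O.zE, ha.2.1]
        refine ⟨X.mul_mem ha.1 hb.1, by rw [ap_comp a b O.zE, hb.2.1, ha.2.1], fun d hd => ?_, ?_⟩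
        · rw [ap_comp a b hd.1]
          have hv := hb.2.2.1 d hd
          have e : ap a (ap b d) = ap b d * d⁻¹ * ap a d := by
            rw [← hfix _ hv, ← ap_mul a (O.zE' hv) hd.1, inv_mul_cancel_right]
          rw [e, mul_assoc]
          exact mul_mem hv (ha.2.2.1 d hd)
        · rw [ap_comp a b O.xE]
          have hd := hb.2.2.2
          have e : ap a (ap b (ap g z)) = ap a (ap b (ap g z) * (ap g z)⁻¹) * ap a (ap g z) := by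
            rw [← ap_mul a hd.1 O.xE, inv_mul_cancel_right]
          rw [e, mul_assoc]
          refine mul_mem ?_ ha.2.2.2
          have := mul_mem (Amb.zle O.amb (K := E ⊓ Q) hzD (ha.2.2.1 _ hd)) hd
          rwa [inv_mul_cancel_right] at this }
  have hT : ∀ a ∈ Cfsg.autInducedBy S E, ap a z = z ∧ (∀ d ∈ E ⊓ Q, ap a d * d⁻¹ ∈ zpowers z) ∧
      ap a (ap g z) * (ap g z)⁻¹ ∈ E ⊓ Q := fun a ha => by
    obtain ⟨s, hs, hse⟩ := CfsgLib.Fusion.mem_autInducedBy.mp ha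
    have hae : ∀ y ∈ E, ap a y = s * y * s⁻¹ := fun y hy => by rw [ap_of_mem a hy]; exact hse ⟨y, hy⟩
    obtain ⟨q, hq, r, rfl⟩ := O.amb.decomp O.xS O.xQ hs
    have e : ∀ y ∈ E, ap a y = q * y * q⁻¹ := fun y hy => by
      rw [hae y hy, mul_inv_rev, mul_assoc q, (O.cmt (E.zpow_mem O.xE r) hy).eq, ← mul_assoc q,
        ← mul_assoc, mul_inv_cancel_right]
    refine ⟨by rw [e z O.zE, O.amb.conj_fix (O.amb.le hq) (mem_zpowers z)], fun d hd => ?_, ?_⟩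
    · rw [e d hd.1, conj_eq_comm_mul, mul_inv_cancel_right]; exact O.amb.comm q hq d hd.2
    · rw [e _ O.xE, conj_eq_comm_mul, mul_inv_cancel_right]; exact T.wD hq
  obtain ⟨k, hk, hkT⟩ := O.mov.exists_normalising O.amb (K := subOfMonoid K') (t := h) (fun k hk => hk.1)
    (fun a ha => ⟨O.mov.subT ha, hT a ha⟩) fun a ha => by
      obtain ⟨haz, had, hax⟩ := hT a ha
      have hi1 : ap h⁻¹ z = z ^ l := ap_inj h (ap_mem _ O.zE) (E.pow_mem O.zE l) (by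
        rw [ap_ap_inv h O.zE, ap_pow h O.zE, hz, ← zpow_natCast, ← zpow_mul,
          O.zpow_eq (k := 1) (by push_cast; exact hll), zpow_one])
      have hi2 : ap h⁻¹ (ap g z) = ap g z ^ lam := ap_inj h (ap_mem _ O.xE) (E.zpow_mem O.xE lam) (by
        rw [ap_ap_inv h O.xE, ap_zpow h O.xE, hx, ← zpow_natCast, ← zpow_mul,
          O.xpow_eq (k := 1) (by push_cast; linear_combination hll), zpow_one])
      refine ⟨X.mul_mem (X.mul_mem hhX (O.mov.subT ha)) (X.inv_mem hhX), ?_, fun d hd => ?_, ?_⟩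
      · rw [ap_comp _ _ O.zE, hi1, ap_comp _ _ (E.pow_mem O.zE l), ap_pow a O.zE, haz, ← hi1, ap_ap_inv h O.zE]
      · obtain ⟨d', hd', hd'e⟩ := hDR' hd
        obtain ⟨i, hi⟩ := had d' hd'
        rw [ap_comp _ _ hd.1, show ap h⁻¹ d = d' by rw [← hd'e, ap_inv_ap h hd'.1], ap_comp _ _ hd'.1,
          show ap a d' = z ^ i * d' by rw [show z ^ i = ap a d' * d'⁻¹ from hi, inv_mul_cancel_right],
          ap_mul h (E.zpow_mem O.zE i) hd'.1, hd'e, mul_inv_cancel_right, ap_zpow h O.zE, hz, ← zpow_mul]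
        exact zpow_mem (mem_zpowers z) _
      · have hd := hax
        set d := ap a (ap g z) * (ap g z)⁻¹
        rw [ap_comp _ _ O.xE, hi2, ap_comp _ _ (E.zpow_mem O.xE lam), ap_zpow a O.xE,
          show ap a (ap g z) = d * ap g z from (inv_mul_cancel_right _ _).symm, (O.cmt hd.1 O.xE).mul_zpow,
          ap_mul h (E.zpow_mem hd.1 _) (E.zpow_mem O.xE _), ← hi2, ap_ap_inv h O.xE, mul_inv_cancel_right]
        exact (hDR (zpow_mem hd lam)).2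
  obtain ⟨τ, hτ⟩ := O.mov.extend (k * h) (X.mul_mem hk.1 hhX) hkT T.normalizerIn_eq
  have hkv : ∀ d ∈ E ⊓ Q, ∃ v ∈ zpowers z, ap k d = v * d := fun d hd =>
    ⟨_, hk.2.2.1 d hd, (inv_mul_cancel_right _ _).symm⟩
  have hτw : ∀ {i w : Ω} {a : ℤ}, i ∈ E ⊓ Q → w = i * z ^ a → ap h i = i⁻¹ →
      ∃ v ∈ zpowers z, ap τ w = v * w⁻¹ := fun {i w a} hi hw hhi => by
    obtain ⟨v, hv, hkv'⟩ := hkv i⁻¹ (inv_mem hi)
    refine ⟨v * z ^ (lam * a + a), mul_mem hv (zpow_mem (mem_zpowers z) _), ?_⟩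
    rw [hw, hτ _ (E.mul_mem hi.1 (E.zpow_mem O.zE a)), ap_comp _ _ (E.mul_mem hi.1 (E.zpow_mem O.zE a)),
      ap_mul h hi.1 (E.zpow_mem O.zE a), hhi, ap_zpow h O.zE, hz, ← zpow_mul,
      ap_mul k (E.inv_mem hi.1) (E.zpow_mem O.zE _), hkv', ap_zpow k O.zE, hk.2.1, mul_inv_rev, zpow_add]
    simp only [mul_assoc, mul_inv_cancel_left]
    rw [(O.cmt (E.inv_mem hi.1) (E.zpow_mem O.zE _)).eq]
  refine ⟨τ, l, lam, hll, ?_, ⟨_, hk.2.2.2, ?_⟩, hτw hj hwn hhj, hτw hj' hwm hhj'⟩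
  · rw [hτ z O.zE, ap_comp _ _ O.zE, hz, ap_zpow k O.zE, hk.2.1]
  · rw [hτ _ O.xE, ap_comp _ _ O.xE, hx, ap_pow k O.xE, inv_mul_cancel_right]

theorem pow_n : n ^ p = 1 := by
  have O := T.out
  obtain ⟨τ, l, lam, hll, hτz, ⟨d₀, hd₀, hτx⟩, ⟨v₁, hv₁, hτn⟩, ⟨v₂, hv₂, hτm⟩⟩ := T.exists_tau
  have hadd : ∀ r ∈ Q, ∀ a ∈ E ⊓ Q, ∀ c ∈ E ⊓ Q,
      co p Q g z ⁅r, a * c⁆ = co p Q g z ⁅r, a⁆ + co p Q g z ⁅r, c⁆ := fun r hr a ha c hc => by
    rw [O.amb.comm_mul_right (O.amb.le ha.2) (O.amb.comm r hr c hc.2),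
      O.co_mul (O.zE' (O.amb.comm r hr a ha.2)) (O.zE' (O.amb.comm r hr c hc.2))]
  have hzero : ∀ r ∈ Q, ∀ v ∈ zpowers z, co p Q g z ⁅r, v⁆ = 0 := fun r hr v hv => by
    rw [O.amb.comm_z_right (O.amb.le hr) hv, O.co_one]
  have hzD : z ∈ E ⊓ Q := ⟨O.zE, O.amb.zQ⟩
  have hconj : ∀ r ∈ Q, ∀ s ∈ Q, ∀ a ∈ E ⊓ Q, co p Q g z ⁅r, s * a * s⁻¹⁆ = co p Q g z ⁅r, a⁆ :=
    fun r hr s hs a ha => by
      have hv := O.amb.comm s hs a ha.2
      rw [conj_eq_comm_mul, hadd r hr _ (Amb.zle O.amb (K := E ⊓ Q) hzD hv) _ ha, hzero r hr _ hv, zero_add]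
  have hpw : ∀ r ∈ Q, ∀ a ∈ E ⊓ Q, ∀ c : ℤ, co p Q g z ⁅r, a ^ c⁆ = c * co p Q g z ⁅r, a⁆ := fun r hr a ha c => by
    rw [O.amb.comm_zpow_right (O.amb.le hr) (O.amb.le ha.2) (O.amb.comm r hr a ha.2),
      O.co_zpow (O.zE' (O.amb.comm r hr a ha.2))]
  have he : (d₀ * ap g z) ^ l ∈ E := E.pow_mem (E.mul_mem hd₀.1 O.xE) l
  -- the value at an outer element
  have key : ∀ {u v : Ω}, u ∈ Q → v ∈ zpowers z → ap τ ⁅u, ap g z⁆ = v * ⁅u, ap g z⁆⁻¹ →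
      ∃ q ∈ Q, ∃ s : ℤ, ap τ u = q * ap g z ^ s ∧ ∀ r ∈ Q,
        (l : ZMod p) * co p Q g z ⁅r, ⁅q, ap g z⁆⁆ = -co p Q g z ⁅r, ⁅u, ap g z⁆⁆ := fun {u v} hu hv hτu => by
    obtain ⟨q, hq, s, hqs⟩ := O.amb.decomp O.xS O.xQ (ap_mem τ (O.amb.le hu))
    refine ⟨q, hq, s, hqs, fun r hr => ?_⟩
    have h1 := ap_comm τ (O.amb.le hu) O.xS
    rw [hτu, hqs, hτx, comm_mul_left_id,
      commutatorElement_eq_one_iff_mul_comm.mpr (O.abelian (E.zpow_mem O.xE s) he), mul_one, mul_inv_cancel,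
      one_mul] at h1
    have hqd := O.amb.comm q hq d₀ hd₀.2
    have h2 : ⁅q, (d₀ * ap g z) ^ l⁆ = (⁅q, d₀⁆ * ⁅q, ap g z⁆) ^ l := by
      rw [commutatorElement_def q ((d₀ * ap g z) ^ l), ← _root_.conj_pow, ← conj_mul, conj_eq_comm_mul q d₀,
        conj_eq_comm_mul q (ap g z),
        (O.cmt hd₀.1 (T.wD hq).1).mul_mul_mul_comm,
        (O.cmt (E.mul_mem (O.zE' hqd) (T.wD hq).1) (E.mul_mem hd₀.1 O.xE)).mul_pow, mul_inv_cancel_right]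
    have h3 := congrArg (fun y => co p Q g z ⁅r, y⁆) (h1.trans h2)
    rw [hadd r hr _ (Amb.zle O.amb (K := E ⊓ Q) hzD hv) _ (inv_mem (T.wD hu)), hzero r hr v hv, zero_add,
      ← zpow_neg_one, hpw r hr _ (T.wD hu), ← zpow_natCast,
      hpw r hr _ (mul_mem (Amb.zle O.amb (K := E ⊓ Q) hzD hqd) (T.wD hq)),
      hadd r hr _ (Amb.zle O.amb (K := E ⊓ Q) hzD hqd) _ (T.wD hq), hzero r hr _ hqd, zero_add] at h3
    push_cast at h3
    linear_combination -h3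
  obtain ⟨q, hq, s, hqs, hQn⟩ := key T.nQ hv₁ hτn
  obtain ⟨q', hq', s', hqs', hQm⟩ := key T.mQ hv₂ hτm
  have hcx : ∀ {a : Ω}, a ∈ Q → ∀ i : ℤ, ⁅a, ap g z ^ i⁆ = ⁅a, ap g z⁆ ^ i := fun {a} ha i => by
    rw [commutatorElement_def a (ap g z ^ i), ← _root_.conj_zpow, conj_eq_comm_mul a (ap g z),
      (O.cmt (T.wD ha).1 O.xE).mul_zpow, mul_inv_cancel_right]
  have hcomm : ⁅ap τ n, ap τ m⁆ ∈ zpowers z := by
    rw [← ap_comm τ (O.amb.le T.nQ) (O.amb.le T.mQ)]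
    obtain ⟨i, hi⟩ := O.amb.comm n T.nQ m T.mQ
    rw [← hi]
    show ap τ (z ^ i) ∈ _
    rw [ap_zpow τ (O.mov.le O.zE), hτz]
    exact zpow_mem (zpow_mem (mem_zpowers z) _) i
  have e0 : ⁅ap g z ^ s, q' * ap g z ^ s'⁆ = (⁅q', ap g z⁆ ^ s)⁻¹ := by
    rw [comm_mul_right_id, commutatorElement_eq_one_iff_mul_comm.mpr
      ((Commute.refl (ap g z)).zpow_zpow s s').eq, mul_one, mul_inv_cancel, mul_one, ← commutatorElement_inv,
      hcx hq']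
  rw [hqs, hqs', comm_mul_left_id, e0, comm_mul_right_id q q', hcx hq] at hcomm
  have hB : ∀ r ∈ Q, (s' : ZMod p) * co p Q g z ⁅r, ⁅q, ap g z⁆⁆ = s * co p Q g z ⁅r, ⁅q', ap g z⁆⁆ := fun r hr => by
    have hv := O.amb.comm q hq q' hq'
    have i1 : q * (⁅q', ap g z⁆ ^ s)⁻¹ * q⁻¹ ∈ E ⊓ Q :=
      ⟨conj_mem_of_mem_normalizer (T.norm hq) (E.inv_mem (E.zpow_mem (T.wD hq').1 s)),
        Q.mul_mem (Q.mul_mem hq (Q.inv_mem (Q.zpow_mem (T.wD hq').2 s))) (Q.inv_mem hq)⟩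
    have i2 : q' * ⁅q, ap g z⁆ ^ s' * q'⁻¹ ∈ E ⊓ Q :=
      ⟨conj_mem_of_mem_normalizer (T.norm hq') (E.zpow_mem (T.wD hq).1 s'),
        Q.mul_mem (Q.mul_mem hq' (Q.zpow_mem (T.wD hq).2 s')) (Q.inv_mem hq')⟩
    have h3 := hzero r hr _ hcomm
    have hvD : ⁅q, q'⁆ ∈ E ⊓ Q := Amb.zle O.amb (K := E ⊓ Q) hzD hv
    rw [hadd r hr _ i1 _ (mul_mem hvD i2), hadd r hr _ hvD _ i2, hzero r hr _ hv, zero_add,
      hconj r hr q hq _ (inv_mem (zpow_mem (T.wD hq') s)), hconj r hr q' hq' _ (zpow_mem (T.wD hq) s'),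
      ← zpow_neg, hpw r hr _ (T.wD hq'), hpw r hr _ (T.wD hq)] at h3
    push_cast at h3
    linear_combination h3
  have hs : (s : ZMod p) = 0 := by
    have h3 := hB m T.mQ
    have h4 : (s : ZMod p) * co p Q g z ⁅m, ⁅m, ap g z⁆⁆ = 0 := by
      have e1 := hQn m T.mQ
      have e2 := hQm m T.mQ
      rw [T.B_mn] at e1
      linear_combination (l : ZMod p) * h3 - (s' : ZMod p) * e1 + (s : ZMod p) * e2
    exact (mul_eq_zero.mp h4).resolve_right (T.B_ne T.mQ T.mE)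
  have hτnq : ap τ n = q := by rw [hqs, O.xpow_eq_one hs, mul_one]
  have hy : q ^ l * n ∈ Q := Q.mul_mem (Q.pow_mem hq l) T.nQ
  have hyE : q ^ l * n ∈ E := by
    by_contra hne
    refine T.B_ne hy hne ?_
    have hNy := T.memN hy
    rw [O.B_add_right hNy ((outN Q E).pow_mem (T.memN hq) l) (T.memN T.nQ), O.B_pow_right hNy (T.memN hq),
      hQn _ hy, neg_add_cancel]
  have hp1 : (q ^ p) ^ l * n ^ p = 1 := by
    rw [← pow_mul, mul_comm, pow_mul, ← O.amb.mul_pow (Q.pow_mem hq l) T.nQ]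
    exact T.pow_D ⟨hyE, hy⟩
  obtain ⟨e, he'⟩ := O.amb.pw n T.nQ
  have he'' : z ^ e = n ^ p := he'
  have hqp : q ^ p = z ^ (lam * e) := by
    rw [← hτnq, ← ap_pow τ (O.amb.le T.nQ), ← he'', ap_zpow τ (O.mov.le O.zE), hτz, ← zpow_mul]
  rw [hqp, ← he'', ← zpow_natCast, ← zpow_mul, ← zpow_add] at hp1
  have h2 := (ZMod.intCast_zmod_eq_zero_iff_dvd _ p).mpr (O.amb.dvd_of_zpow O.amb.zpow_p O.amb.zne hp1)
  push_cast at h2
  have h3 : (2 : ZMod p) * e = 0 := by linear_combination h2 - (e : ZMod p) * hll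
  have h4 := (mul_eq_zero.mp h3).resolve_left (two_ne_zero_zmod O.amb.odd)
  rw [← he'', O.zpow_eq (k := 0) (by rw [h4, Int.cast_zero]), zpow_zero]

/-- The frame. -/
theorem exists_pre : Nat.card S = p ^ 6 ∧ ∃ n₁ n₂ x, Pre p S z n₁ n₂ x := by
  have O := T.out
  refine ⟨T.cards.2.1, ?_⟩
  have hwn := T.wD T.nQ
  have hwm := T.wD T.mQ
  have hgen := O.amb.gen (O.amb.comm n T.nQ _ hwn.2) fun e => T.B_ne T.nQ T.nE (by rw [e, O.co_one])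
  obtain ⟨s, hs⟩ := exists_zpow_of_gen (inv_mem (O.amb.comm n T.nQ m T.mQ)) hgen
  set m' := m * ⁅n, ap g z⁆ ^ s with hm'
  have hwsQ : ⁅n, ap g z⁆ ^ s ∈ Q := Q.zpow_mem hwn.2 s
  have hwsE : ⁅n, ap g z⁆ ^ s ∈ E := E.zpow_mem hwn.1 s
  have hm'Q : m' ∈ Q := Q.mul_mem T.mQ hwsQ
  have hwm' : ⁅m', ap g z⁆ = ⁅m, ap g z⁆ := by
    rw [hm', comm_mul_left_id, O.w_of_mem hwsE, mul_one, mul_inv_cancel, one_mul]
  have hcw : ∀ d ∈ E ⊓ Q, ⁅m', d⁆ = ⁅m, d⁆ := fun d hd => by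
    rw [hm', comm_mul_left_id, commutatorElement_eq_one_iff_mul_comm.mpr (O.abelian hwsE hd.1), mul_one,
      mul_inv_cancel, one_mul]
  refine ⟨n, m', ap g z, O.mov.le O.zE, O.amb.le T.nQ, O.amb.le hm'Q, O.xS, O.amb.zS, O.amb.zpow_p,
    T.pow_n, ?_, O.xp, O.w_pow T.nQ, O.w_pow hm'Q, ?_, O.abelian O.xE hwn.1, ?_, ?_, ?_, ?_⟩
  · rw [hm', O.amb.mul_pow T.mQ hwsQ, T.swap.pow_n, one_mul]
    exact T.pow_D (zpow_mem hwn s)
  · refine commutatorElement_eq_one_iff_mul_comm.mp ?_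
    rw [hm', O.amb.comm_mul_right (O.amb.le T.mQ) (O.amb.comm n T.nQ _ hwsQ),
      O.amb.comm_zpow_right (O.amb.le T.nQ) (O.amb.le hwn.2) (O.amb.comm n T.nQ _ hwn.2), hs, mul_inv_cancel]
  · rw [hwm']; exact O.abelian O.xE hwm.1
  · rw [hwm']; exact O.abelian hwn.1 hwm.1
  · obtain ⟨a, ha⟩ := O.amb.comm n T.nQ _ hwn.2
    obtain ⟨c, hc⟩ := O.amb.comm m T.mQ _ hwm.2
    have ha' : z ^ a = ⁅n, ⁅n, ap g z⁆⁆ := ha
    have hc' : z ^ c = ⁅m, ⁅m, ap g z⁆⁆ := hc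
    refine ⟨a, 0, c, ha'.symm, ?_, ?_, by rw [hwm', hcw _ hwm]; exact hc'.symm, fun hd => ?_⟩
    · rw [zpow_zero, hwm']
      exact O.co_Z_zero (O.amb.comm n T.nQ _ hwm.2) T.orth
    · rw [zpow_zero, hcw _ hwn]
      exact O.co_Z_zero (O.amb.comm m T.mQ _ hwn.2) T.B_mn
    · rw [mul_zero, sub_zero] at hd
      have hna := T.B_ne T.nQ T.nE
      have hnc := T.B_ne T.mQ T.mE
      rw [← ha', O.co_z] at hna
      rw [← hc', O.co_z] at hnc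
      have h0 := (ZMod.intCast_zmod_eq_zero_iff_dvd _ p).mpr hd
      push_cast at h0
      exact mul_ne_zero hna hnc h0
  · rw [hwm']
    set K := closure ({z, ⁅n, ap g z⁆, ⁅m, ap g z⁆, ap g z, n, m'} : Set Ω)
    have hD : E ⊓ Q ≤ K := by
      rw [← T.cards.2.2]
      exact sup_le (sup_le (zpowers_le.mpr (subset_closure (by simp)))
        (zpowers_le.mpr (subset_closure (by simp)))) (zpowers_le.mpr (subset_closure (by simp)))
    have hnK : n ∈ K := subset_closure (by simp)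
    have hmK : m ∈ K := by
      have := K.mul_mem (show m' ∈ K from subset_closure (by simp))
        (K.inv_mem (hD (zpow_mem hwn s)))
      rwa [hm', mul_inv_cancel_right] at this
    rw [← O.amb.sup_out O.xS O.xQ]
    refine sup_le (fun q hq => ?_) (zpowers_le.mpr (subset_closure (by simp)))
    obtain ⟨i, j, hij⟩ := O.orth_span (T.memN T.nQ) T.nE (T.memN T.mQ) T.ind T.orth (T.memN hq)
    have h1 : q * n ^ i * m ^ j ∈ K := hD ⟨hij, Q.mul_mem (Q.mul_mem hq (Q.pow_mem T.nQ i)) (Q.pow_mem T.mQ j)⟩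
    have h2 := K.mul_mem h1 (K.inv_mem (K.pow_mem hmK j))
    rw [mul_inv_cancel_right] at h2
    have h3 := K.mul_mem h2 (K.inv_mem (K.pow_mem hnK i))
    rwa [mul_inv_cancel_right] at h3

end Two

/-- The outer case: either `E ⊓ Q` is the centre or the frame of Lagrangian type exists. -/
theorem Out.frame {X : Subgroup (MulAut E)} {g : MulAut E} (O : Out p S Q E z X g) :
    E ⊓ Q = zpowers z ∨ (Nat.card S = p ^ 6 ∧ ∃ n₁ n₂ x, Pre p S z n₁ n₂ x) := by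
  rcases O.dichotomy with h | ⟨hN, n, hn, hnE, m, hm, hnm, ho⟩
  · exact Or.inl h
  · exact Or.inr (Two.exists_pre ⟨O, hN, hn.1, hm.1, hnE, hnm, ho⟩)

end CfsgLib.IndexExtra
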