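import Cfsg.Agent.Lib.Fusion.IndexExtra.OuterDim

/-!
# `Q` normalises `E`: orders, and the images of the centre are the conjugates of `x`
-/

set_option autoImplicit false

namespace CfsgLib.IndexExtra

open Subgroup
open scoped commutatorElement

variable {Ω : Type*} [Group Ω] {S Q E : Subgroup Ω} {p : ℕ} {z : Ω} [Finite S] [hp : Fact p.Prime]

/-- `Q` normalises `E` and an orthogonal pair is outside it. -/
structure Two (p : ℕ) (S Q E : Subgroup Ω) (z : Ω) (X : Subgroup (MulAut E)) (g : MulAut E) (n m : Ω) :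
    Prop where
  out : Out p S Q E z X g
  norm : Q ≤ normalizer (E : Set Ω)
  nQ : n ∈ Q
  mQ : m ∈ Q
  nE : n ∉ E
  ind : ∀ k : ℕ, m * n ^ k ∉ E
  orth : co p Q g z ⁅n, ⁅m, ap g z⁆⁆ = 0

namespace Out

variable {X : Subgroup (MulAut E)} {g : MulAut E} (O : Out p S Q E z X g)

include O

/-- An element of `⟨x⟩` in `Q` is trivial. -/
theorem xpow_Q {k : ℤ} (hk : ap g z ^ k ∈ Q) : (p : ℤ) ∣ k := by
  by_contra hd'
  obtain ⟨r, s, hrs⟩ : IsCoprime (p : ℤ) k :=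
    (Nat.prime_iff_prime_int.mp hp.out).coprime_iff_not_dvd.mpr hd'
  refine O.xQ ?_
  rw [← zpow_one (ap g z), ← hrs, zpow_add, mul_comm r, zpow_mul, zpow_natCast, O.xp, one_zpow, one_mul,
    mul_comm s, zpow_mul]
  exact Q.zpow_mem hk s

theorem xpow_eq_one {k : ℤ} (hk : (k : ZMod p) = 0) : ap g z ^ k = 1 := by
  obtain ⟨m, rfl⟩ := (ZMod.intCast_zmod_eq_zero_iff_dvd k p).mp hk
  rw [zpow_mul, zpow_natCast, O.xp, one_zpow]

theorem zpow_eq {j k : ℤ} (h : (j : ZMod p) = k) : z ^ j = z ^ k := by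
  obtain ⟨m, hm⟩ := (ZMod.intCast_zmod_eq_zero_iff_dvd (j - k) p).mp (by push_cast; rw [h, sub_self])
  rw [show j = k + (p : ℤ) * m by omega, zpow_add, zpow_mul, zpow_natCast, O.amb.zpow_p, one_zpow, mul_one]

theorem xpow_eq {j k : ℤ} (h : (j : ZMod p) = k) : ap g z ^ j = ap g z ^ k := by
  rw [show j = k + (j - k) by omega, zpow_add, O.xpow_eq_one (k := j - k) (by push_cast; rw [h, sub_self]), mul_one]

/-- A central element with given coordinate. -/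
theorem eq_zpow_of_co {w : Ω} (hw : w ∈ zpowers z) {k : ℤ} (h : co p Q g z w = k) : w = z ^ k := by
  obtain ⟨i, rfl⟩ := hw
  exact O.zpow_eq ((O.co_z i).symm.trans h)

theorem co_x : co p Q g z (ap g z) = 0 := (O.co_zero_iff O.xE).mpr O.x_img

theorem co_zpow {a : Ω} (ha : a ∈ E) (k : ℤ) : co p Q g z (a ^ k) = k * co p Q g z a := by
  induction k with
  | zero => simp [O.co_one]
  | succ i ih => rw [zpow_add_one, O.co_mul (E.zpow_mem ha _) ha, ih]; push_cast; ring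
  | pred i ih =>
    rw [zpow_sub_one, O.co_mul (E.zpow_mem ha _) (E.inv_mem ha), O.co_inv ha, ih]; push_cast; ring

/-- Uniqueness of the decomposition `E = D × ⟨x⟩`. -/
theorem dec_eq {d d' : Ω} (hd : d ∈ E ⊓ Q) (hd' : d' ∈ E ⊓ Q) {a b : ℤ}
    (h : d * ap g z ^ a = d' * ap g z ^ b) : d = d' ∧ (a : ZMod p) = b := by
  have h1 : ap g z ^ (a - b) = d⁻¹ * d' := by
    rw [zpow_sub, eq_inv_mul_iff_mul_eq, ← mul_assoc, h, mul_inv_cancel_right]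
  have h2 : (p : ℤ) ∣ a - b := O.xpow_Q (h1 ▸ Q.mul_mem (Q.inv_mem hd.2) hd'.2)
  have h3 := (ZMod.intCast_zmod_eq_zero_iff_dvd _ p).mpr h2
  push_cast at h3
  have hab : (a : ZMod p) = b := sub_eq_zero.mp h3
  rw [O.xpow_eq hab] at h
  exact ⟨mul_right_cancel h, hab⟩

theorem B_inv_left {u v : Ω} (hu : u ∈ outN Q E) (hv : v ∈ outN Q E) :
    co p Q g z ⁅u⁻¹, ⁅v, ap g z⁆⁆ = -co p Q g z ⁅u, ⁅v, ap g z⁆⁆ := by
  have := O.B_add_left ((outN Q E).inv_mem hu) hu hv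
  rw [inv_mul_cancel, O.B_one_left hv] at this
  linear_combination -this

theorem w_mul {u v : Ω} (hu : u ∈ outN Q E) (hv : v ∈ outN Q E) :
    ⁅u * v, ap g z⁆ = ⁅u, ⁅v, ap g z⁆⁆ * (⁅u, ap g z⁆ * ⁅v, ap g z⁆) := by
  rw [comm_mul_left_id, conj_eq_comm_mul, mul_assoc, (O.cmt (O.w_mem hv.1 hv.2).1 (O.w_mem hu.1 hu.2).1).eq]

theorem w_inv {u : Ω} (hu : u ∈ outN Q E) :
    ⁅u⁻¹, ap g z⁆ = ⁅u, ⁅u⁻¹, ap g z⁆⁆⁻¹ * ⁅u, ap g z⁆⁻¹ := by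
  have h := O.w_mul hu ((outN Q E).inv_mem hu)
  rw [mul_inv_cancel, O.w_of_mem E.one_mem] at h
  have hc : Commute ⁅u, ap g z⁆ ⁅u⁻¹, ap g z⁆ :=
    O.cmt (O.w_mem hu.1 hu.2).1 (O.w_mem (Q.inv_mem hu.1) ((outN Q E).inv_mem hu).2).1
  rw [hc.eq, ← mul_assoc] at h
  have h' : ⁅u, ⁅u⁻¹, ap g z⁆⁆ * ⁅u⁻¹, ap g z⁆ = ⁅u, ap g z⁆⁻¹ := eq_inv_of_mul_eq_one_left h.symm
  rw [← h', inv_mul_cancel_left]

end Out

namespace Two

variable {X : Subgroup (MulAut E)} {g : MulAut E} {n m : Ω} (T : Two p S Q E z X g n m)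

include T

omit [Finite S] hp in
theorem memN {q : Ω} (hq : q ∈ Q) : q ∈ outN Q E := ⟨hq, T.norm hq⟩

omit [Finite S] hp in
theorem mE : m ∉ E := by simpa using T.ind 0

theorem normalizerIn_eq : Cfsg.FusionSystem.normalizerIn S E = S := by
  refine le_antisymm (fun s hs => hs.1) fun s hs => ⟨hs, ?_⟩
  have hS : S ≤ normalizer (E : Set Ω) := by
    rw [← T.out.amb.sup_out T.out.xS T.out.xQ]
    exact sup_le T.norm (zpowers_le.mpr (Subgroup.le_normalizer T.out.xE))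
  exact hS hs

theorem two_q {q : Ω} (hq : q ∈ Q) :
    2 * co p Q g z ⁅q, ap g z⁆ = co p Q g z ⁅q, ⁅q, ap g z⁆⁆ :=
  T.out.lin_zero (T.memN T.nQ) T.nE (T.memN T.mQ) T.ind (T.memN hq)

theorem B_ne {q : Ω} (hq : q ∈ Q) (hqE : q ∉ E) : co p Q g z ⁅q, ⁅q, ap g z⁆⁆ ≠ 0 :=
  T.out.quad_ne (T.memN T.nQ) T.nE (T.memN T.mQ) T.ind (T.memN hq) hqE

theorem q_ne {q : Ω} (hq : q ∈ Q) (hqE : q ∉ E) : co p Q g z ⁅q, ap g z⁆ ≠ 0 := fun h =>
  T.B_ne hq hqE (by rw [← T.two_q hq, h, mul_zero])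

theorem mem_of_wZ {q : Ω} (hq : q ∈ Q) (hw : ⁅q, ap g z⁆ ∈ zpowers z) : q ∈ E := by
  by_contra hqE
  refine T.B_ne hq hqE ?_
  rw [T.out.amb.comm_z_right (T.out.amb.le hq) hw, T.out.co_one]

theorem B_mn : co p Q g z ⁅m, ⁅n, ap g z⁆⁆ = 0 := (T.out.B_symm (T.memN T.mQ) (T.memN T.nQ)).trans T.orth

theorem wD {q : Ω} (hq : q ∈ Q) : ⁅q, ap g z⁆ ∈ E ⊓ Q := T.out.w_mem hq (T.norm hq)

theorem cards : Nat.card (E ⊓ Q : Subgroup Ω) = p ^ 3 ∧ Nat.card S = p ^ 6 ∧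
    zpowers z ⊔ zpowers ⁅n, ap g z⁆ ⊔ zpowers ⁅m, ap g z⁆ = E ⊓ Q := by
  have O := T.out
  have hDQ : E ⊓ Q ≤ Q := inf_le_right
  have hzD : z ∈ E ⊓ Q := ⟨O.zE, O.amb.zQ⟩
  have hDf := finite_sub (hDQ.trans O.amb.le)
  -- the upper bound
  have hle : Q ≤ (E ⊓ Q) ⊔ zpowers n ⊔ zpowers m := fun q hq => by
    obtain ⟨i, j, hij⟩ := O.orth_span (T.memN T.nQ) T.nE (T.memN T.mQ) T.ind T.orth (T.memN hq)
    have h1 : q * n ^ i * m ^ j ∈ (E ⊓ Q) ⊔ zpowers n ⊔ zpowers m :=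
      mem_sup_left (mem_sup_left ⟨hij, Q.mul_mem (Q.mul_mem hq (Q.pow_mem T.nQ i)) (Q.pow_mem T.mQ j)⟩)
    have h2 := Subgroup.mul_mem _ h1 (Subgroup.inv_mem _ (mem_sup_right (npow_mem_zpowers m j)))
    rw [mul_inv_cancel_right] at h2
    have h3 := Subgroup.mul_mem _ h2 (Subgroup.inv_mem _ (mem_sup_left (mem_sup_right (npow_mem_zpowers n i))))
    rwa [mul_inv_cancel_right] at h3
  have hsup1 : (E ⊓ Q) ⊔ zpowers n ≤ Q := sup_le hDQ (zpowers_le.mpr T.nQ)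
  have := finite_sub ((sup_le hsup1 (zpowers_le.mpr T.mQ)).trans O.amb.le)
  have hQ2 : Nat.card Q ≤ p * (p * Nat.card (E ⊓ Q : Subgroup Ω)) :=
    (Subgroup.card_le_of_le hle).trans ((O.card_le_sup_pow (mem_sup_left hzD) hsup1 T.mQ).trans
      (Nat.mul_le_mul_left _ (O.card_le_sup_pow hzD hDQ T.nQ)))
  have hA := O.amb.abel (E ⊓ Q) hDQ fun a ha b hb => O.abelian ha.1 hb.1
  -- the span of the two commutators
  set W := zpowers z ⊔ zpowers ⁅n, ap g z⁆ ⊔ zpowers ⁅m, ap g z⁆ with hW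
  have hWD : W ≤ E ⊓ Q :=
    sup_le (sup_le (zpowers_le.mpr hzD) (zpowers_le.mpr (T.wD T.nQ))) (zpowers_le.mpr (T.wD T.mQ))
  have hn1 : ⁅n, ap g z⁆ ∉ zpowers z := fun h => T.nE (T.mem_of_wZ T.nQ h)
  have hm1 : ⁅m, ap g z⁆ ∉ zpowers z ⊔ zpowers ⁅n, ap g z⁆ := fun h => by
    have := finite_sub (zpowers_le.mpr (O.mov.le O.zE) : zpowers z ≤ S)
    obtain ⟨v, hv, i, hi⟩ := exists_mul_zpow (CfsgLib.Fusion.mem_normalizer_of_forall (P := zpowers z)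
      (fun v hv => by rw [O.amb.conj_fix (O.amb.le (T.wD T.nQ).2) hv]; exact hv)) h
    refine T.mE (T.mem_of_wZ T.mQ ?_)
    have hnw := O.zE' (O.amb.comm n T.nQ _ (T.wD T.nQ).2)
    have e := T.orth
    rw [hi, O.amb.comm_mul_right (O.amb.le (O.amb.zmem hv)) (O.amb.comm n T.nQ _ (Q.zpow_mem (T.wD T.nQ).2 i)),
      O.amb.comm_z_right (O.amb.le T.nQ) hv, one_mul,
      O.amb.comm_zpow_right (O.amb.le T.nQ) (O.amb.le (T.wD T.nQ).2) (O.amb.comm n T.nQ _ (T.wD T.nQ).2),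
      O.co_zpow hnw] at e
    obtain ⟨k, hk⟩ := (ZMod.intCast_zmod_eq_zero_iff_dvd i p).mp ((mul_eq_zero.mp e).resolve_right (T.B_ne T.nQ T.nE))
    rw [hi, hk, zpow_mul, zpow_natCast, O.w_pow T.nQ, one_zpow, mul_one]
    exact hv
  have h1 : p * Nat.card (zpowers z) ≤ Nat.card (zpowers z ⊔ zpowers ⁅n, ap g z⁆ : Subgroup Ω) :=
    mul_card_le O.amb.isP le_sup_left ((le_sup_left.trans hWD).trans (hDQ.trans O.amb.le))
      fun e => hn1 (e ▸ mem_sup_right (mem_zpowers _))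
  have h2 : p * Nat.card (zpowers z ⊔ zpowers ⁅n, ap g z⁆ : Subgroup Ω) ≤ Nat.card W :=
    mul_card_le O.amb.isP le_sup_left (hWD.trans (hDQ.trans O.amb.le))
      fun e => hm1 (e ▸ mem_sup_right (mem_zpowers _))
  have hWf := finite_sub (hWD.trans (hDQ.trans O.amb.le))
  have h3 : p ^ 3 ≤ Nat.card W := by
    refine le_trans (le_of_eq ?_) ((Nat.mul_le_mul_left p h1).trans h2)
    rw [O.amb.card_Z]; ring
  obtain ⟨k, hk, hkS, h5⟩ := O.amb.card_S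
  obtain ⟨d, hd⟩ := exists_card (p := p) O.amb.isP (hDQ.trans O.amb.le)
  rw [hk, hd, ← pow_succ', ← pow_succ', Nat.pow_le_pow_iff_right hp.out.one_lt] at hQ2
  rw [hk, hd, ← pow_add, ← pow_succ', Nat.pow_le_pow_iff_right hp.out.one_lt] at hA
  have hd3 : d = 3 := by omega
  have hk5 : k = 5 := by omega
  subst hd3 hk5
  exact ⟨hd, hkS, CfsgLib.Fusion.eq_of_le_of_card_le hWD (hd ▸ h3)⟩

/-- Every element of `D` is a commutator with `x` up to the centre. -/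
theorem exists_rep {d : Ω} (hd : d ∈ E ⊓ Q) : ∃ q ∈ Q, ∃ v ∈ zpowers z, d = v * ⁅q, ap g z⁆ := by
  have O := T.out
  rw [← T.cards.2.2] at hd
  let R : Subgroup Ω :=
    { carrier := {d | ∃ q ∈ Q, ∃ v ∈ zpowers z, d = v * ⁅q, ap g z⁆}
      one_mem' := ⟨1, Q.one_mem, 1, one_mem _, by simp⟩
      mul_mem' := fun {a b} ⟨q, hq, v, hv, ha⟩ ⟨q', hq', v', hv', hb⟩ => by
        have hB := O.amb.comm q hq _ (T.wD hq').2
        refine ⟨q * q', Q.mul_mem hq hq', v * v' * ⁅q, ⁅q', ap g z⁆⁆⁻¹, mul_mem (mul_mem hv hv') (inv_mem hB), ?_⟩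
        rw [O.w_mul (T.memN hq) (T.memN hq'), ha, hb, ← mul_assoc (v * v' * _), inv_mul_cancel_right, mul_assoc,
          mul_assoc v v', ← mul_assoc ⁅q, ap g z⁆ v', (O.cmt (T.wD hq).1 (O.zE' hv')).eq, mul_assoc v']
      inv_mem' := fun {a} ⟨q, hq, v, hv, ha⟩ => by
        have hB := O.amb.comm q hq _ (T.wD (Q.inv_mem hq)).2
        refine ⟨q⁻¹, Q.inv_mem hq, v⁻¹ * ⁅q, ⁅q⁻¹, ap g z⁆⁆, mul_mem (inv_mem hv) hB, ?_⟩
        have e := O.w_inv (T.memN hq)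
        generalize ⁅q, ⁅q⁻¹, ap g z⁆⁆ = B at e ⊢
        rw [e, ha, mul_inv_rev, mul_assoc, mul_inv_cancel_left,
          (O.cmt (E.inv_mem (T.wD hq).1) (O.zE' (inv_mem hv))).eq] }
  have hle : zpowers z ⊔ zpowers ⁅n, ap g z⁆ ⊔ zpowers ⁅m, ap g z⁆ ≤ R :=
    sup_le (sup_le (zpowers_le.mpr ⟨1, Q.one_mem, z, mem_zpowers z, by simp⟩)
      (zpowers_le.mpr ⟨n, T.nQ, 1, one_mem _, by simp⟩)) (zpowers_le.mpr ⟨m, T.mQ, 1, one_mem _, by simp⟩)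
  exact hle hd

theorem pow_D {d : Ω} (hd : d ∈ E ⊓ Q) : d ^ p = 1 := by
  obtain ⟨q, hq, v, hv, rfl⟩ := T.exists_rep hd
  rw [T.out.amb.mul_pow (T.out.amb.zmem hv) (T.wD hq).2, T.out.amb.pow_of_mem hv, T.out.w_pow hq, one_mul]

/-- Every value is taken by the form. -/
theorem exists_value (c : ZMod p) : ∃ q ∈ Q, co p Q g z ⁅q, ap g z⁆ = c := by
  have O := T.out
  obtain ⟨a, b, hab⟩ := exists_diag_root (c := 2 * c) O.amb.odd (T.B_ne T.nQ T.nE) (T.B_ne T.mQ T.mE)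
  have h1 := (outN Q E).pow_mem (T.memN T.nQ) a.val
  have h2 := (outN Q E).pow_mem (T.memN T.mQ) b.val
  have h12 := (outN Q E).mul_mem h1 h2
  refine ⟨n ^ a.val * m ^ b.val, h12.1, mul_left_cancel₀ (two_ne_zero_zmod O.amb.odd) ?_⟩
  rw [T.two_q h12.1, ← hab, O.B_add_left h1 h2 h12, O.B_pow_left (T.memN T.nQ) h12, O.B_pow_left (T.memN T.mQ) h12,
    O.B_add_right (T.memN T.nQ) h1 h2, O.B_add_right (T.memN T.mQ) h1 h2,
    O.B_pow_right (T.memN T.nQ) (T.memN T.nQ), O.B_pow_right (T.memN T.nQ) (T.memN T.mQ),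
    O.B_pow_right (T.memN T.mQ) (T.memN T.nQ), O.B_pow_right (T.memN T.mQ) (T.memN T.mQ), T.orth, T.B_mn,
    ZMod.natCast_zmod_val, ZMod.natCast_zmod_val]
  ring

theorem exists_conjAut {q : Ω} (hq : q ∈ Q) : ∃ a ∈ X, ∀ y ∈ E, ap a y = q * y * q⁻¹ := by
  obtain ⟨a, haX, -, hae⟩ := T.out.mov.ind q ⟨T.out.amb.le hq, T.norm hq⟩
  exact ⟨a, haX, hae⟩

/-- A moved image of the centre spans a conjugate of `⟨x⟩`. -/
theorem exists_line {g' : MulAut E} (hg' : g' ∈ X) (hm' : ap g' z ∉ zpowers z) :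
    ∃ q ∈ Q, ∃ k : ℤ, (k : ZMod p) ≠ 0 ∧ ap g' z = (q * ap g z * q⁻¹) ^ k := by
  have O := T.out
  set y := ap g' z with hy
  have hyE : y ∈ E := ap_mem g' O.zE
  have hyp : y ^ p = 1 := O.mov.image_pow O.amb g'
  obtain ⟨d, hd, k, hdk⟩ := O.decompE hyE
  have hk : (k : ZMod p) ≠ 0 := fun e => O.none g' hg' hm' (by
    rw [← hy, hdk, O.xpow_eq_one e, mul_one]; exact hd.2)
  set l : ℕ := ((k : ZMod p)⁻¹).val with hl
  have hlk : ((l : ℤ) : ZMod p) * k = 1 := by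
    rw [Int.cast_natCast, hl, ZMod.natCast_zmod_val, inv_mul_cancel₀ hk]
  obtain ⟨q, hq, v, ⟨c, rfl⟩, hdl⟩ := T.exists_rep (Subgroup.pow_mem _ hd l)
  have hqx : q * ap g z * q⁻¹ ∈ E := conj_mem_of_mem_normalizer (T.norm hq) O.xE
  have hyl : y ^ l = z ^ c * (q * ap g z * q⁻¹) := by
    rw [hdk, (O.cmt hd.1 (E.zpow_mem O.xE k)).mul_pow, hdl, ← zpow_natCast (ap g z ^ k), ← zpow_mul,
      O.xpow_eq (k := 1) (by push_cast at hlk ⊢; linear_combination hlk), zpow_one, conj_eq_comm_mul q (ap g z),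
      mul_assoc]
  obtain ⟨m', hm'Q, hm'c⟩ := T.exists_value (-(c : ZMod p))
  obtain ⟨a₁, ha₁, hae₁⟩ := T.exists_conjAut (Q.inv_mem hq)
  obtain ⟨a₂, ha₂, hae₂⟩ := T.exists_conjAut hm'Q
  set y₁ := q⁻¹ * y * q⁻¹⁻¹ with hy₁
  have hy₁E : y₁ ∈ E := conj_mem_of_mem_normalizer (T.norm (Q.inv_mem hq)) hyE
  have hy₁l : y₁ ^ l = z ^ c * ap g z := by
    rw [hy₁, _root_.conj_pow, hyl, ← conj_mul, O.amb.conj_fix (O.amb.le (Q.inv_mem hq)) (zpow_mem (mem_zpowers z) c)]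
    group
  have hy₂E : m' * y₁ * m'⁻¹ ∈ E := conj_mem_of_mem_normalizer (T.norm hm'Q) hy₁E
  have hy₂l : (m' * y₁ * m'⁻¹) ^ l = z ^ c * ⁅m', ap g z⁆ * ap g z := by
    rw [_root_.conj_pow, hy₁l, ← conj_mul, O.amb.conj_fix (O.amb.le hm'Q) (zpow_mem (mem_zpowers z) c),
      conj_eq_comm_mul m' (ap g z), mul_assoc]
  have hw := T.wD hm'Q
  have himg : z ^ c * ⁅m', ap g z⁆ * ap g z ∈ img g (E ⊓ Q) := by
    refine (O.co_zero_iff (E.mul_mem (E.mul_mem (E.zpow_mem O.zE c) hw.1) O.xE)).mp ?_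
    rw [O.co_mul (E.mul_mem (E.zpow_mem O.zE c) hw.1) O.xE, O.co_mul (E.zpow_mem O.zE c) hw.1, O.co_x, O.co_z,
      hm'c]
    ring
  have hkl : ((l : ℤ) * k : ZMod p) = 1 := hlk
  have hback : ∀ a : Ω, a ^ p = 1 → (a ^ l) ^ k = a := fun a ha => by
    rw [← zpow_natCast a l, ← zpow_mul, show (l : ℤ) * k = 1 + ((l : ℤ) * k - 1) by ring, zpow_add, zpow_one]
    obtain ⟨r, hr⟩ := (ZMod.intCast_zmod_eq_zero_iff_dvd ((l : ℤ) * k - 1) p).mp (by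
      push_cast at hkl ⊢; rw [hkl, sub_self])
    rw [hr, zpow_mul, zpow_natCast, ha, one_zpow, mul_one]
  have hy1p : y₁ ^ p = 1 := by rw [hy₁, _root_.conj_pow, hyp, mul_one, mul_inv_cancel]
  have hy2p : (m' * y₁ * m'⁻¹) ^ p = 1 := by rw [_root_.conj_pow, hy1p, mul_one, mul_inv_cancel]
  have hy₂i : m' * y₁ * m'⁻¹ ∈ img g (E ⊓ Q) := by
    rw [← hback _ hy2p, hy₂l]
    exact (img g (E ⊓ Q)).zpow_mem himg k
  have hX : g⁻¹ * a₂ * a₁ * g' ∈ X := X.mul_mem (X.mul_mem (X.mul_mem (X.inv_mem O.gX) ha₂) ha₁) hg'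
  have hval : ap (g⁻¹ * a₂ * a₁ * g') z = ap g⁻¹ (m' * y₁ * m'⁻¹) := by
    rw [ap_comp _ _ O.zE, ← hy, ap_comp _ _ hyE, hae₁ y hyE, ← hy₁, ap_comp _ _ hy₁E, hae₂ y₁ hy₁E]
  obtain ⟨e, he⟩ := O.image_dichotomy hX (hval ▸ hy₂i.2.2)
  have he' : z ^ e = ap g⁻¹ (m' * y₁ * m'⁻¹) := he.trans hval
  have hx2 : m' * y₁ * m'⁻¹ = ap g z ^ e := by
    rw [← ap_ap_inv g hy₂E, ← he', ap_zpow g O.zE]
  rw [hx2, ← zpow_natCast, ← zpow_mul] at hy₂l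
  obtain ⟨hd1, -⟩ := O.dec_eq (a := e * l) (b := 1) (one_mem _)
    ⟨E.mul_mem (E.zpow_mem O.zE c) hw.1, Q.mul_mem (Q.zpow_mem O.amb.zQ c) hw.2⟩
    (by rw [one_mul, zpow_one]; exact hy₂l)
  have hwZ : ⁅m', ap g z⁆ ∈ zpowers z := by
    rw [eq_inv_of_mul_eq_one_right hd1.symm]
    exact inv_mem (zpow_mem (mem_zpowers z) c)
  have hm'E := T.mem_of_wZ hm'Q hwZ
  rw [O.w_of_mem hm'E, mul_one] at hd1
  refine ⟨q, hq, k, hk, ?_⟩
  rw [← hback y hyp, hyl, ← hd1, one_mul]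

end Two

end CfsgLib.IndexExtra
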