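import Cfsg.Agent.Lib.Fusion.IndexExtra.OuterLines

/-!
# `Q` normalises `E`: elements exchanging `⟨z⟩` and `⟨x⟩`
-/

set_option autoImplicit false

namespace CfsgLib.IndexExtra

open Subgroup
open scoped commutatorElement

variable {Ω : Type*} [Group Ω] {S Q E : Subgroup Ω} {p : ℕ} {z : Ω} [Finite S] [hp : Fact p.Prime]

namespace Two

variable {X : Subgroup (MulAut E)} {g : MulAut E} {n m : Ω} (T : Two p S Q E z X g n m)

include T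

theorem line_ne {q : Ω} (hq : q ∈ Q) (hqE : q ∉ E) : q * ap g z * q⁻¹ ∉ zpowers (ap g z) := fun ⟨k, hk⟩ => by
  refine hqE (T.mem_of_wZ hq ?_)
  obtain ⟨hd, -⟩ := T.out.dec_eq (T.wD hq) (one_mem _) (a := 1) (b := k) (by
    rw [one_mul, zpow_one, ← conj_eq_comm_mul]; exact hk.symm)
  rw [hd]; exact one_mem _

/-- An element fixing `x` and moving `z` onto a given conjugate of `x`. -/
theorem exists_move {q : Ω} (hq : q ∈ Q) (hqE : q ∉ E) :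
    ∃ b ∈ X, ap b (ap g z) = ap g z ∧ (∀ d ∈ img g (E ⊓ Q), ap b d * d⁻¹ ∈ zpowers (ap g z)) ∧
      ∃ ν : ℤ, (ν : ZMod p) * co p Q g z ⁅q, ap g z⁆ = 1 ∧ ap b z = (q * ap g z * q⁻¹) ^ ν := by
  have O := T.out
  have hqx : q * ap g z * q⁻¹ ∈ E := conj_mem_of_mem_normalizer (T.norm hq) O.xE
  obtain ⟨aq, haq, haqe⟩ := T.exists_conjAut hq
  obtain ⟨q₀, hq₀, k₀, -, h₀⟩ := T.exists_line (X.inv_mem O.gX) (O.mov.inv_moved O.amb O.gmoved)
  have hv1 : ap (g⁻¹ * aq * g) z = ap g⁻¹ (q * ap g z * q⁻¹) := by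
    rw [ap_comp _ _ O.zE, ap_comp _ _ O.xE, haqe _ O.xE]
  have hmoved : ap (g⁻¹ * aq * g) z ∉ zpowers z := fun ⟨e, he⟩ => T.line_ne hq hqE ⟨e, by
    have he' : z ^ e = ap g⁻¹ (q * ap g z * q⁻¹) := he.trans hv1
    show ap g z ^ e = _
    rw [← ap_zpow g O.zE, he', ap_ap_inv g hqx]⟩
  obtain ⟨q₁, hq₁, k₁, hk₁, h₁⟩ := T.exists_line (X.mul_mem (X.mul_mem (X.inv_mem O.gX) haq) O.gX) hmoved
  rw [hv1] at h₁
  have hr : q₁ * q₀⁻¹ ∈ Q := Q.mul_mem hq₁ (Q.inv_mem hq₀)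
  obtain ⟨ar, har, hare⟩ := T.exists_conjAut hr
  set b := g * ar * g⁻¹ with hb
  obtain ⟨l, hl⟩ : ∃ l : ℤ, (l : ZMod p) * k₁ = 1 := ⟨((k₁ : ZMod p)⁻¹).val, by
    rw [Int.cast_natCast, ZMod.natCast_zmod_val, inv_mul_cancel₀ hk₁]⟩
  have hq1x : q₁ * ap g z * q₁⁻¹ ∈ E := conj_mem_of_mem_normalizer (T.norm hq₁) O.xE
  have hbz : ap b z = (q * ap g z * q⁻¹) ^ (l * k₀) := by
    have e1 : q₁ * q₀⁻¹ * ap g⁻¹ z * (q₁ * q₀⁻¹)⁻¹ = (q₁ * ap g z * q₁⁻¹) ^ k₀ := by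
      rw [h₀, ← _root_.conj_zpow]
      congr 1
      group
    have e2 : (q₁ * ap g z * q₁⁻¹) ^ k₀ = ap g⁻¹ ((q * ap g z * q⁻¹) ^ (l * k₀)) := by
      rw [ap_zpow g⁻¹ hqx, h₁, ← zpow_mul, _root_.conj_zpow, _root_.conj_zpow]
      congr 2
      exact O.xpow_eq (by push_cast; linear_combination (-(k₀ : ZMod p)) * hl)
    rw [hb, ap_comp _ _ O.zE, ap_comp _ _ (ap_mem _ O.zE), hare _ (ap_mem _ O.zE), e1, e2,
      ap_ap_inv g (E.zpow_mem hqx _)]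
  have hbd : ∀ d ∈ img g (E ⊓ Q), ap b d * d⁻¹ ∈ zpowers (ap g z) := fun d hd => by
    obtain ⟨d', hd', hdE, rfl⟩ := exists_of_mem_img hd
    obtain ⟨v, hv⟩ := O.amb.comm _ hr d' hd'.2
    rw [hb, ap_comp _ _ (ap_mem g hdE), ap_inv_ap g hdE, ap_comp _ _ hdE, hare d' hdE, conj_eq_comm_mul,
      show ⁅q₁ * q₀⁻¹, d'⁆ = z ^ v from hv.symm, ap_mul g (E.zpow_mem O.zE v) hdE, mul_inv_cancel_right,
      ap_zpow g O.zE]
    exact zpow_mem (mem_zpowers _) v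
  have hbx : ap b (ap g z) = ap g z := by
    rw [hb, ap_comp _ _ O.xE, ap_inv_ap g O.zE, ap_comp _ _ O.zE, hare z O.zE,
      O.amb.conj_fix (O.amb.le hr) (mem_zpowers z)]
  refine ⟨b, X.mul_mem (X.mul_mem O.gX har) (X.inv_mem O.gX), hbx, hbd, l * k₀, ?_, hbz⟩
  -- the coordinate along `z` does not change
  have he0 : ap g⁻¹ z ∈ E := ap_mem _ O.zE
  have hcE : ⁅q₁ * q₀⁻¹, ap g⁻¹ z⁆ ∈ E := by
    rw [commutatorElement_def]; exact E.mul_mem (conj_mem_of_mem_normalizer (T.norm hr) he0) (E.inv_mem he0)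
  have hbz' : ap b z = ap g ⁅q₁ * q₀⁻¹, ap g⁻¹ z⁆ * z := by
    rw [hb, ap_comp _ _ O.zE, ap_comp _ _ he0, hare _ he0, conj_eq_comm_mul, ap_mul g hcE he0, ap_ap_inv g O.zE]
  have hco := congrArg (co p Q g z) (hbz'.symm.trans hbz)
  rw [O.co_mul (ap_mem g hcE) O.zE, (O.co_zero_iff (ap_mem g hcE)).mpr
    (ap_mem_img g hcE ⟨hcE, O.amb.comm_mem_Q (O.amb.le hr) (O.mov.le he0)⟩), zero_add,
    O.co_zpow hqx, conj_eq_comm_mul, O.co_mul (T.wD hq).1 O.xE, O.co_x, add_zero] at hco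
  have h1 := O.co_z 1
  rw [zpow_one, Int.cast_one] at h1
  rw [← hco, h1]

/-- The action of such an element on `D ⊓ g(D)`. -/
theorem move_mu {b : MulAut E} (hbX : b ∈ X) (hbx : ap b (ap g z) = ap g z)
    (hbd : ∀ d ∈ img g (E ⊓ Q), ap b d * d⁻¹ ∈ zpowers (ap g z)) {u : Ω} (hu : u ∈ Q) {A ν : ℤ}
    (hA : ⁅u, ap g z⁆ * z ^ (-A) ∈ img g (E ⊓ Q)) (hν : (ν : ZMod p) * A = 1)
    (hbz : ap b z = (u * ap g z * u⁻¹) ^ ν) {q : Ω} (hq : q ∈ Q) (hqE : q ∉ E) {Aq : ℤ}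
    (hAq : ⁅q, ap g z⁆ * z ^ (-Aq) ∈ img g (E ⊓ Q)) :
    ∃ μ : ℤ, ap b (⁅q, ap g z⁆ * z ^ (-Aq)) = ap g z ^ μ * (⁅q, ap g z⁆ * z ^ (-Aq)) ∧
      (μ : ZMod p) = ν * co p Q g z ⁅u, ⁅q, ap g z⁆⁆ := by
  have O := T.out
  have hzD : z ∈ E ⊓ Q := ⟨O.zE, O.amb.zQ⟩
  set i := ⁅q, ap g z⁆ * z ^ (-Aq) with hidef
  set j := ⁅u, ap g z⁆ * z ^ (-A) with hjdef
  have hi : i ∈ E ⊓ Q := mul_mem (T.wD hq) (zpow_mem hzD _)
  have hj : j ∈ E ⊓ Q := mul_mem (T.wD hu) (zpow_mem hzD _)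
  obtain ⟨μ, hμ⟩ := hbd i hAq
  have hbi : ap b i = ap g z ^ μ * i := by
    rw [show ap g z ^ μ = ap b i * i⁻¹ from hμ, inv_mul_cancel_right]
  refine ⟨μ, hbi, ?_⟩
  set k := ν * Aq with hk
  have hbz' : ap b z = z * (j * ap g z) ^ ν := by
    rw [hbz, conj_eq_comm_mul, show ⁅u, ap g z⁆ = z ^ A * j by
      rw [hjdef, (O.cmt (T.wD hu).1 (E.zpow_mem O.zE _)).eq, ← mul_assoc, ← zpow_add, add_neg_cancel, zpow_zero,
        one_mul], mul_assoc,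
      (O.cmt (E.zpow_mem O.zE A) (E.mul_mem hj.1 O.xE)).mul_zpow, ← zpow_mul,
      O.zpow_eq (k := 1) (by push_cast; linear_combination hν), zpow_one]
  obtain ⟨aq, haq, haqe⟩ := T.exists_conjAut hq
  set d := z ^ Aq * j ^ k * i with hd
  have hdD : d ∈ E ⊓ Q := mul_mem (mul_mem (zpow_mem hzD _) (zpow_mem hj _)) hi
  have hy : ap (b * aq * g) z = d * ap g z ^ (k + μ + 1) := by
    have hw : ⁅q, ap g z⁆ = z ^ Aq * i := by
      rw [hidef, (O.cmt (T.wD hq).1 (E.zpow_mem O.zE _)).eq, ← mul_assoc, ← zpow_add, add_neg_cancel, zpow_zero,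
        one_mul]
    rw [ap_comp _ _ O.zE, ap_comp _ _ O.xE, haqe _ O.xE, conj_eq_comm_mul, hw,
      ap_mul b (E.mul_mem (E.zpow_mem O.zE _) hi.1) O.xE, hbx, ap_mul b (E.zpow_mem O.zE _) hi.1, hbi,
      ap_zpow b O.zE, hbz', (O.cmt O.zE (E.zpow_mem (E.mul_mem hj.1 O.xE) ν)).mul_zpow, ← zpow_mul,
      (O.cmt hj.1 O.xE).mul_zpow, ← hk, hd, zpow_add_one, zpow_add]
    have c1 := O.cmt (E.zpow_mem O.xE k) hi.1
    have c2 := O.cmt (E.zpow_mem O.xE μ) hi.1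
    simp only [mul_assoc]
    rw [c2.left_comm, c1.left_comm]
  -- the functionals `d ↦ co ⁅r, d⁆`
  have hadd : ∀ r ∈ Q, ∀ a ∈ E ⊓ Q, ∀ c ∈ E ⊓ Q,
      co p Q g z ⁅r, a * c⁆ = co p Q g z ⁅r, a⁆ + co p Q g z ⁅r, c⁆ := fun r hr a ha c hc => by
    rw [O.amb.comm_mul_right (O.amb.le ha.2) (O.amb.comm r hr c hc.2),
      O.co_mul (O.zE' (O.amb.comm r hr a ha.2)) (O.zE' (O.amb.comm r hr c hc.2))]
  have hzero : ∀ r ∈ Q, ∀ v ∈ zpowers z, co p Q g z ⁅r, v⁆ = 0 := fun r hr v hv => by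
    rw [O.amb.comm_z_right (O.amb.le hr) hv, O.co_one]
  have hpw : ∀ r ∈ Q, ∀ a ∈ E ⊓ Q, ∀ c : ℤ, co p Q g z ⁅r, a ^ c⁆ = c * co p Q g z ⁅r, a⁆ := fun r hr a ha c => by
    rw [O.amb.comm_zpow_right (O.amb.le hr) (O.amb.le ha.2) (O.amb.comm r hr a ha.2),
      O.co_zpow (O.zE' (O.amb.comm r hr a ha.2))]
  have hFd : ∀ r ∈ Q, co p Q g z ⁅r, d⁆ =
      (k : ZMod p) * co p Q g z ⁅r, ⁅u, ap g z⁆⁆ + co p Q g z ⁅r, ⁅q, ap g z⁆⁆ := fun r hr => by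
    rw [hd, hadd r hr _ (mul_mem (zpow_mem hzD _) (zpow_mem hj _)) _ hi, hadd r hr _ (zpow_mem hzD _) _ (zpow_mem hj _),
      hzero r hr _ (zpow_mem (mem_zpowers z) _), hpw r hr _ hj, hidef, hjdef, hadd r hr _ (T.wD hu) _ (zpow_mem hzD _),
      hadd r hr _ (T.wD hq) _ (zpow_mem hzD _), hzero r hr _ (zpow_mem (mem_zpowers z) _),
      hzero r hr _ (zpow_mem (mem_zpowers z) _)]
    ring
  have hcod : co p Q g z d = Aq := by
    rw [hd, O.co_mul (E.mul_mem (E.zpow_mem O.zE _) (E.zpow_mem hj.1 _)) hi.1,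
      O.co_mul (E.zpow_mem O.zE _) (E.zpow_mem hj.1 _), O.co_z, O.co_zpow hj.1, (O.co_zero_iff hj.1).mpr hA,
      (O.co_zero_iff hi.1).mpr hAq]
    ring
  have hqq : co p Q g z ⁅q, ap g z⁆ = Aq := O.co_eq hAq
  have hqu : co p Q g z ⁅u, ap g z⁆ = A := O.co_eq hA
  have h2q := T.two_q hq
  have h2u := T.two_q hu
  rw [hqq] at h2q
  rw [hqu] at h2u
  have hsym := O.B_symm (T.memN hq) (T.memN hu)
  have key : ((k + μ + 1 : ℤ) : ZMod p) * (2 * Aq) =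
      2 * Aq + 2 * (k : ZMod p) * co p Q g z ⁅u, ⁅q, ap g z⁆⁆ + (k : ZMod p) * k * (2 * A) := by
    by_cases hZ : ap (b * aq * g) z ∈ zpowers z
    · obtain ⟨l, hl⟩ := hZ
      obtain ⟨hdl, he⟩ := O.dec_eq (a := k + μ + 1) (b := 0) hdD (zpow_mem hzD l) (by
        rw [← hy, zpow_zero, mul_one]; exact hl.symm)
      rw [he]
      have f1 := hFd q hq
      have f2 := hFd u hu
      rw [hdl, hzero q hq _ (zpow_mem (mem_zpowers z) l)] at f1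
      rw [hdl, hzero u hu _ (zpow_mem (mem_zpowers z) l)] at f2
      push_cast
      linear_combination f1 + (k : ZMod p) * f2 + (k : ZMod p) * hsym - h2q - (k : ZMod p) * k * h2u
    · obtain ⟨q', hq', e, -, he⟩ := T.exists_line (X.mul_mem (X.mul_mem hbX haq) O.gX) hZ
      rw [hy, conj_eq_comm_mul, (O.cmt (T.wD hq').1 O.xE).mul_zpow] at he
      obtain ⟨hde, hee⟩ := O.dec_eq hdD (zpow_mem (T.wD hq') e) he
      rw [hee]
      have f1 := hFd q hq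
      have f2 := hFd u hu
      have f3 := hFd q' hq'
      have f4 := hcod
      rw [hde, hpw q hq _ (T.wD hq') e] at f1
      rw [hde, hpw u hu _ (T.wD hq') e] at f2
      rw [hde, hpw q' hq' _ (T.wD hq') e, ← T.two_q hq'] at f3
      rw [hde, O.co_zpow (T.wD hq').1] at f4
      have s1 := O.B_symm (T.memN hq') (T.memN hq)
      have s2 := O.B_symm (T.memN hq') (T.memN hu)
      push_cast
      linear_combination (-2 * (e : ZMod p)) * f4 + (e : ZMod p) * f3 + f1 + (k : ZMod p) * f2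
        + (e : ZMod p) * s1 + (e : ZMod p) * (k : ZMod p) * s2 + (k : ZMod p) * hsym - h2q - (k : ZMod p) * k * h2u
  have hAq0 : (Aq : ZMod p) ≠ 0 := hqq ▸ T.q_ne hq hqE
  have h2 := two_ne_zero_zmod (p := p) O.amb.odd
  rw [hk] at key
  push_cast at key
  refine mul_left_cancel₀ (mul_ne_zero h2 hAq0) ?_
  linear_combination key + 2 * (ν : ZMod p) * (Aq : ZMod p) * (Aq : ZMod p) * hν

/-- The element exchanging `⟨z⟩` and `⟨x⟩` along an outer element. -/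
theorem exists_weyl {u v : Ω} (hu : u ∈ Q) (huE : u ∉ E) (hv : v ∈ Q) (hvE : v ∉ E)
    (ho : co p Q g z ⁅u, ⁅v, ap g z⁆⁆ = 0) {A A' ν : ℤ}
    (hA : ⁅u, ap g z⁆ * z ^ (-A) ∈ img g (E ⊓ Q)) (hA' : ⁅v, ap g z⁆ * z ^ (-A') ∈ img g (E ⊓ Q))
    (hν : (ν : ZMod p) * A = 1) :
    ∃ w ∈ X, ap w z = ap g z ^ ν ∧ ap w (ap g z) = z ^ A ∧
      ap w (⁅u, ap g z⁆ * z ^ (-A)) = (⁅u, ap g z⁆ * z ^ (-A))⁻¹ ∧
      ap w (⁅v, ap g z⁆ * z ^ (-A')) = ⁅v, ap g z⁆ * z ^ (-A') := by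
  have O := T.out
  have hzD : z ∈ E ⊓ Q := ⟨O.zE, O.amb.zQ⟩
  obtain ⟨b, hbX, hbx, hbd, ν', hν', hbz₀⟩ := T.exists_move hu huE
  rw [O.co_eq hA] at hν'
  have hνν : (ν' : ZMod p) = ν := by
    have hA0 : (A : ZMod p) ≠ 0 := fun e => by simp [e] at hν
    exact mul_right_cancel₀ hA0 (hν'.trans hν.symm)
  obtain ⟨μ₁, hb1, hμ₁⟩ := T.move_mu hbX hbx hbd hu hA hν' hbz₀ hu huE hA
  obtain ⟨μ₂, hb2, hμ₂⟩ := T.move_mu hbX hbx hbd hu hA hν' hbz₀ hv hvE hA'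
  rw [ho, mul_zero] at hμ₂
  have h2u := T.two_q hu
  rw [O.co_eq hA] at h2u
  rw [← h2u] at hμ₁
  have hμ1' : (μ₁ : ZMod p) = (2 : ℤ) := by rw [hμ₁]; push_cast; linear_combination 2 * hν'
  set j := ⁅u, ap g z⁆ * z ^ (-A) with hjdef
  set j' := ⁅v, ap g z⁆ * z ^ (-A') with hj'def
  have hj : j ∈ E ⊓ Q := mul_mem (T.wD hu) (zpow_mem hzD _)
  have hj' : j' ∈ E ⊓ Q := mul_mem (T.wD hv) (zpow_mem hzD _)
  have hw : ⁅u, ap g z⁆ = z ^ A * j := by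
    rw [hjdef, (O.cmt (T.wD hu).1 (E.zpow_mem O.zE _)).eq, ← mul_assoc, ← zpow_add, add_neg_cancel, zpow_zero,
      one_mul]
  have hbz : ap b z = z * (j * ap g z) ^ ν := by
    rw [hbz₀, conj_eq_comm_mul, hw, mul_assoc,
      (O.cmt (E.zpow_mem O.zE A) (E.mul_mem hj.1 O.xE)).mul_zpow, ← zpow_mul,
      O.zpow_eq (k := 1) (by push_cast; linear_combination hν'), zpow_one]
    congr 1
    rw [(O.cmt hj.1 O.xE).mul_zpow, (O.cmt hj.1 O.xE).mul_zpow]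
    congr 1
    · obtain ⟨r, hr⟩ := (ZMod.intCast_zmod_eq_zero_iff_dvd (ν' - ν) p).mp (by push_cast; rw [hνν, sub_self])
      rw [show ν' = ν + (p : ℤ) * r by omega, zpow_add, zpow_mul, zpow_natCast, T.pow_D hj, one_zpow, mul_one]
    · exact O.xpow_eq hνν
  have hbj : ap b j = ap g z ^ (2 : ℤ) * j := by rw [hb1, O.xpow_eq hμ1']
  have hbj' : ap b j' = j' := by rw [hb2, O.xpow_eq_one hμ₂, one_mul]
  -- conjugation by `u⁻¹`
  obtain ⟨a, haX, hae⟩ := T.exists_conjAut (Q.inv_mem hu)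
  have hinv : ∀ y ∈ E, ∀ y' ∈ E, u * y' * u⁻¹ = y → ap a y = y' := fun y hy y' _ e => by
    rw [hae y hy, ← e]; group
  have huj : u * j * u⁻¹ = z ^ (2 * A) * j := by
    rw [conj_eq_comm_mul, O.eq_zpow_of_co (k := 2 * A) (O.amb.comm u hu j hj.2) ?_]
    rw [hjdef, O.amb.comm_mul_right (O.amb.le (T.wD hu).2) (O.amb.comm u hu _ (zpow_mem hzD _ : z ^ (-A) ∈ E ⊓ Q).2),
      O.amb.comm_z_right (O.amb.le hu) (zpow_mem (mem_zpowers z) _), mul_one, ← h2u]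
    push_cast; ring
  have huj' : u * j' * u⁻¹ = j' := by
    rw [conj_eq_comm_mul, O.co_Z_zero (O.amb.comm u hu j' hj'.2) ?_, one_mul]
    rw [hj'def, O.amb.comm_mul_right (O.amb.le (T.wD hv).2) (O.amb.comm u hu _ (zpow_mem hzD _ : z ^ (-A') ∈ E ⊓ Q).2),
      O.amb.comm_z_right (O.amb.le hu) (zpow_mem (mem_zpowers z) _), mul_one, ho]
  have haz : ap a z = z := hinv z O.zE z O.zE (O.amb.conj_fix (O.amb.le hu) (mem_zpowers z))
  have haj' : ap a j' = j' := hinv j' hj'.1 j' hj'.1 huj'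
  have haj : ap a j = z ^ (-(2 * A)) * j :=
    hinv j hj.1 _ (E.mul_mem (E.zpow_mem O.zE _) hj.1) (by
      rw [← conj_mul, O.amb.conj_fix (O.amb.le hu) (zpow_mem (mem_zpowers z) _), huj, ← mul_assoc, ← zpow_add,
        neg_add_cancel, zpow_zero, one_mul])
  have hax : ap a (ap g z) = z ^ A * j⁻¹ * ap g z :=
    hinv _ O.xE _ (E.mul_mem (E.mul_mem (E.zpow_mem O.zE _) (E.inv_mem hj.1)) O.xE) (by
      rw [← conj_mul, ← conj_mul, O.amb.conj_fix (O.amb.le hu) (zpow_mem (mem_zpowers z) _), ← conj_inv, huj,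
        conj_eq_comm_mul, hw, mul_inv_rev, (O.cmt (E.inv_mem hj.1) (E.inv_mem (E.zpow_mem O.zE _))).eq]
      simp only [mul_assoc]
      rw [(O.cmt (E.inv_mem hj.1) (E.zpow_mem O.zE A)).left_comm, inv_mul_cancel_left, ← zpow_neg, ← mul_assoc,
        ← mul_assoc, ← zpow_add, ← zpow_add, show A + -(2 * A) + A = 0 by ring, zpow_zero, one_mul])
  have hajx : ap a (j * ap g z) = z ^ (-A) * ap g z := by
    rw [ap_mul a hj.1 O.xE, haj, hax]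
    simp only [mul_assoc]
    rw [(O.cmt hj.1 (E.zpow_mem O.zE A)).left_comm, mul_inv_cancel_left, ← mul_assoc, ← zpow_add,
      show -(2 * A) + A = -A by ring]
  have hjxE := E.mul_mem hj.1 O.xE
  refine ⟨a * b * a, X.mul_mem (X.mul_mem haX hbX) haX, ?_, ?_, ?_, ?_⟩
  · rw [ap_comp _ _ O.zE, haz, ap_comp _ _ O.zE, hbz, ap_mul a O.zE (E.zpow_mem hjxE ν), haz, ap_zpow a hjxE,
      hajx, (O.cmt (E.zpow_mem O.zE (-A)) O.xE).mul_zpow, ← zpow_mul, ← mul_assoc, ← zpow_one_add,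
      O.zpow_eq (j := 1 + -A * ν) (k := 0) (by push_cast; linear_combination -hν), zpow_zero, one_mul]
  · clear_value j
    have e1 : ap b (ap a (ap g z)) = z ^ A := by
      rw [hax, ap_mul b (E.mul_mem (E.zpow_mem O.zE _) (E.inv_mem hj.1)) O.xE,
        ap_mul b (E.zpow_mem O.zE _) (E.inv_mem hj.1), hbx, ap_zpow b O.zE, hbz, ap_inv b hj.1, hbj,
        (O.cmt O.zE (E.zpow_mem hjxE ν)).mul_zpow, ← zpow_mul, (O.cmt hj.1 O.xE).mul_zpow,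
        O.xpow_eq (j := ν * A) (k := 1) (by push_cast; exact hν)]
      obtain ⟨r, hr⟩ := (ZMod.intCast_zmod_eq_zero_iff_dvd (ν * A - 1) p).mp (by push_cast; rw [hν, sub_self])
      rw [show ν * A = 1 + (p : ℤ) * r by omega, zpow_add, zpow_mul, zpow_natCast, T.pow_D hj, one_zpow, mul_one,
        zpow_one, zpow_one, mul_inv_rev, zpow_two, mul_inv_rev]
      simp only [mul_assoc]
      rw [(O.cmt O.xE (E.inv_mem hj.1)).left_comm, mul_inv_cancel_left, mul_inv_cancel_left, inv_mul_cancel,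
        mul_one]
    rw [ap_comp _ _ O.xE, ap_comp _ _ (ap_mem a O.xE), e1, ap_zpow a O.zE, haz]
  · have e1 : ap b (ap a j) = z ^ (-(2 * A)) * j⁻¹ := by
      rw [haj, ap_mul b (E.zpow_mem O.zE _) hj.1, ap_zpow b O.zE, hbz, hbj,
        (O.cmt O.zE (E.zpow_mem hjxE ν)).mul_zpow, ← zpow_mul, (O.cmt hj.1 O.xE).mul_zpow,
        O.xpow_eq (j := ν * -(2 * A)) (k := -2) (by push_cast; linear_combination -2 * hν)]
      obtain ⟨r, hr⟩ := (ZMod.intCast_zmod_eq_zero_iff_dvd (ν * -(2 * A) - -2) p).mp (by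
        push_cast; linear_combination -2 * hν)
      rw [show ν * -(2 * A) = -2 + (p : ℤ) * r by omega, zpow_add, zpow_mul j (p : ℤ), zpow_natCast, T.pow_D hj,
        one_zpow, mul_one, zpow_neg (ap g z)]
      simp only [mul_assoc]
      rw [inv_mul_cancel_left, ← zpow_add_one, show (-2 : ℤ) + 1 = -1 by norm_num, zpow_neg_one]
    rw [ap_comp _ _ hj.1, ap_comp _ _ (ap_mem a hj.1), e1, ap_mul a (E.zpow_mem O.zE _) (E.inv_mem hj.1),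
      ap_inv a hj.1, ap_zpow a O.zE, haz, haj, mul_inv_rev, (O.cmt (E.inv_mem hj.1) (E.inv_mem (E.zpow_mem O.zE _))).eq,
      mul_inv_cancel_left]
  · rw [ap_comp _ _ hj'.1, ap_comp _ _ (ap_mem a hj'.1), haj', hbj', haj']

end Two

end CfsgLib.IndexExtra
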