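import Cfsg.Agent.Lib.Fusion.IndexExtra.Index

/-!
# An element centralised in `Q` only by the centre: the chain of iterated commutators
-/

set_option autoImplicit false

namespace CfsgLib.IndexExtra

open Subgroup
open scoped commutatorElement

variable {Ω : Type*} [Group Ω] {S Q : Subgroup Ω} {p : ℕ} {z y : Ω}

/-- `y` lies outside `Q`, has order `p` and is centralised in `Q` by `⟨z⟩` only. -/
structure Spike (p : ℕ) (S Q : Subgroup Ω) (z y : Ω) : Prop where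
  amb : Amb p S Q z
  yS : y ∈ S
  yQ : y ∉ Q
  yp : y ^ p = 1
  cent : ∀ q ∈ Q, q * y = y * q → q ∈ zpowers z

/-- The chain: the next term is the set of elements of `Q` moved by `y` into the present one. -/
noncomputable def Qc (Q : Subgroup Ω) (z y : Ω) : ℕ → Subgroup Ω
  | 0 => zpowers z
  | i + 1 => closure {q | q ∈ Q ∧ ⁅y, q⁆ ∈ Qc Q z y i}

/-- The chain joined with `⟨y⟩`. -/
noncomputable def Pc (Q : Subgroup Ω) (z y : Ω) (i : ℕ) : Subgroup Ω := Qc Q z y i ⊔ zpowers y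

variable [Finite S] [hp : Fact p.Prime]

namespace Spike

variable (Sp : Spike p S Q z y)

include Sp

theorem comm_inj {a b : Ω} (ha : a ∈ Q) (hb : b ∈ Q) (h : ⁅y, a⁆ = ⁅y, b⁆) : a⁻¹ * b ∈ zpowers z := by
  refine Sp.cent _ (Q.mul_mem (Q.inv_mem ha) hb) ?_
  have e1 : a * y⁻¹ * a⁻¹ = b * y⁻¹ * b⁻¹ := by
    simpa [commutatorElement_def, mul_assoc] using h
  have e2 : (a * y * a⁻¹)⁻¹ = (b * y * b⁻¹)⁻¹ := by rw [conj_inv, conj_inv]; exact e1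
  have e3 := inv_inj.mp e2
  calc a⁻¹ * b * y = a⁻¹ * (b * y * b⁻¹) * b := by simp [mul_assoc]
    _ = a⁻¹ * (a * y * a⁻¹) * b := by rw [e3]
    _ = y * (a⁻¹ * b) := by simp [mul_assoc]

/-- A subgroup of `Q` has at most `p` times as many elements as commutators with `y`. -/
theorem card_le_comm {N : Subgroup Ω} (hN : N ≤ Q) :
    Nat.card N ≤ p * Nat.card {u : Ω // ∃ n ∈ N, ⁅y, n⁆ = u} := by
  have := finite_sub (hN.trans Sp.amb.le)
  have : Finite {u : Ω // ∃ n ∈ N, ⁅y, n⁆ = u} :=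
    Finite.of_surjective (fun n : N => (⟨⁅y, (n : Ω)⁆, n, n.2, rfl⟩ : {u : Ω // ∃ n ∈ N, ⁅y, n⁆ = u}))
      fun u => by obtain ⟨u, n, hn, rfl⟩ := u; exact ⟨⟨n, hn⟩, rfl⟩
  have := finite_sub (zpowers_le.mpr (Sp.amb.le Sp.amb.zQ) : zpowers z ≤ S)
  have hsec : ∀ u : {u : Ω // ∃ n ∈ N, ⁅y, n⁆ = u}, ∃ n : N, ⁅y, (n : Ω)⁆ = u.1 := fun u => by
    obtain ⟨n, hn, h⟩ := u.2
    exact ⟨⟨n, hn⟩, h⟩
  choose s hs using hsec
  let f : N → zpowers z × {u : Ω // ∃ n ∈ N, ⁅y, n⁆ = u} := fun n =>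
    (⟨(s ⟨_, n, n.2, rfl⟩ : Ω)⁻¹ * n, Sp.comm_inj (hN (s _).2) (hN n.2) (hs _)⟩, ⟨_, n, n.2, rfl⟩)
  have hf : Function.Injective f := fun a b hab => by
    obtain ⟨h1, h2⟩ := Prod.ext_iff.mp hab
    have h2' : (⟨⁅y, (a : Ω)⁆, a, a.2, rfl⟩ : {u : Ω // ∃ n ∈ N, ⁅y, n⁆ = u}) = ⟨_, b, b.2, rfl⟩ := h2
    have h1' := congrArg Subtype.val h1
    simp only [f] at h1'
    rw [h2'] at h1'
    exact Subtype.ext (mul_left_cancel h1')
  refine (Nat.card_le_card_of_injective f hf).trans (le_of_eq ?_)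
  rw [Nat.card_prod, Sp.amb.card_Z]

theorem card_le_of_comm {N R : Subgroup Ω} (hN : N ≤ Q) (hR : R ≤ S) (h : ∀ n ∈ N, ⁅y, n⁆ ∈ R) :
    Nat.card N ≤ p * Nat.card R := by
  have := finite_sub hR
  refine (Sp.card_le_comm hN).trans (Nat.mul_le_mul_left _ ?_)
  refine Nat.card_le_card_of_injective (fun u => (⟨u.1, ?_⟩ : R)) fun a b e => Subtype.ext (congrArg Subtype.val e :)
  obtain ⟨n, hn, e⟩ := u.2
  exact e ▸ h n hn

/-- With equality every element is a commutator. -/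
theorem exists_comm_of_card {N R : Subgroup Ω} (hN : N ≤ Q) (hR : R ≤ S) (h : ∀ n ∈ N, ⁅y, n⁆ ∈ R)
    (hc : p * Nat.card R ≤ Nat.card N) {u : Ω} (hu : u ∈ R) : ∃ n ∈ N, ⁅y, n⁆ = u := by
  have := finite_sub hR
  let f : {u : Ω // ∃ n ∈ N, ⁅y, n⁆ = u} → R := fun u => ⟨u.1, by obtain ⟨n, hn, e⟩ := u.2; exact e ▸ h n hn⟩
  have hf : Function.Injective f := fun a b e => Subtype.ext (congrArg Subtype.val e :)
  have hb := hf.bijective_of_nat_card_le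
    (Nat.le_of_mul_le_mul_left (hc.trans (Sp.card_le_comm hN)) hp.out.pos)
  obtain ⟨⟨u', hu'⟩, e⟩ := hb.2 ⟨u, hu⟩
  have e' : u' = u := congrArg Subtype.val e
  exact e' ▸ hu'

omit hp in
theorem z_mem_le : ∀ i, z ∈ Qc Q z y i ∧ Qc Q z y i ≤ Q := by
  intro i
  induction i with
  | zero => exact ⟨mem_zpowers z, zpowers_le.mpr Sp.amb.zQ⟩
  | succ i ih =>
    refine ⟨subset_closure ⟨Sp.amb.zQ, ?_⟩, (closure_le Q).mpr fun q hq => hq.1⟩
    rw [Sp.amb.comm_z_right Sp.yS (mem_zpowers z)]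
    exact one_mem _

omit hp in
theorem Qc_le (i : ℕ) : Qc Q z y i ≤ Q := (Sp.z_mem_le i).2

omit hp in
theorem Qc_S (i : ℕ) : Qc Q z y i ≤ S := (Sp.Qc_le i).trans Sp.amb.le

omit hp in
theorem zQc {i : ℕ} {w : Ω} (hw : w ∈ zpowers z) : w ∈ Qc Q z y i := zpowers_le.mpr (Sp.z_mem_le i).1 hw

omit hp in
theorem norm_Q (i : ℕ) {q : Ω} (hq : q ∈ Q) : q ∈ normalizer ((Qc Q z y i : Subgroup Ω) : Set Ω) :=
  have := finite_sub (Sp.Qc_S i)
  Sp.amb.le_normalizer_of_zle (Sp.z_mem_le i).1 (Sp.Qc_le i) hq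

omit hp in
theorem mem_succ {i : ℕ} {q : Ω} : q ∈ Qc Q z y (i + 1) ↔ q ∈ Q ∧ ⁅y, q⁆ ∈ Qc Q z y i := by
  refine ⟨fun hq => ⟨Sp.Qc_le (i + 1) hq, ?_⟩, fun hq => subset_closure hq⟩
  exact comm_mem_closure (fun a ha => Sp.norm_Q i (Sp.Qc_le (i + 1) ha)) (fun t ht => ht.2) hq

omit hp in
theorem le_succ : ∀ i, Qc Q z y i ≤ Qc Q z y (i + 1) := by
  intro i
  induction i with
  | zero => exact zpowers_le.mpr (Sp.z_mem_le 1).1
  | succ i ih => exact fun q hq => Sp.mem_succ.mpr ⟨(Sp.mem_succ.mp hq).1, ih (Sp.mem_succ.mp hq).2⟩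

omit hp in
theorem mono {i j : ℕ} (h : i ≤ j) : Qc Q z y i ≤ Qc Q z y j := monotone_nat_of_le_succ Sp.le_succ h

omit hp in
theorem comm_y {i : ℕ} {q : Ω} (hq : q ∈ Qc Q z y i) : ⁅y, q⁆ ∈ Qc Q z y i :=
  (Sp.mem_succ.mp (Sp.le_succ i hq)).2

omit hp in
theorem norm_y (i : ℕ) : y ∈ normalizer ((Qc Q z y i : Subgroup Ω) : Set Ω) := by
  have := finite_sub (Sp.Qc_S i)
  refine CfsgLib.Fusion.mem_normalizer_of_forall fun q hq => ?_
  rw [conj_eq_comm_mul]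
  exact (Qc Q z y i).mul_mem (Sp.comm_y hq) hq

theorem norm_S (i : ℕ) : S ≤ normalizer ((Qc Q z y i : Subgroup Ω) : Set Ω) := by
  rw [← Sp.amb.sup_out Sp.yS Sp.yQ]
  exact sup_le (fun q hq => Sp.norm_Q i hq) (zpowers_le.mpr (Sp.norm_y i))

theorem card_succ_le (i : ℕ) : Nat.card (Qc Q z y (i + 1)) ≤ p * Nat.card (Qc Q z y i) :=
  Sp.card_le_of_comm (Sp.Qc_le _) (Sp.Qc_S i) fun _ hn => (Sp.mem_succ.mp hn).2

/-- The terms have orders `p ^ (i + 1)` up to `Q`. -/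
theorem cards {k : ℕ} (hk : Nat.card Q = p ^ k) : ∀ i, i < k → Nat.card (Qc Q z y i) = p ^ (i + 1) := by
  intro i
  induction i with
  | zero => intro _; simp [Qc, Sp.amb.card_Z]
  | succ i ih =>
    intro hi
    have hci := ih (by omega)
    have hne : Qc Q z y i ≠ Q := fun e => by
      rw [e, hk] at hci
      have := Nat.pow_right_injective hp.out.two_le hci
      omega
    obtain ⟨v, hvQ, hvN, hv⟩ := exists_central_step Sp.amb.isP (Sp.Qc_le i) Sp.amb.le hne (Sp.norm_S i) Sp.amb.norm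
    have hv' : v ∈ Qc Q z y (i + 1) := Sp.mem_succ.mpr ⟨hvQ, hv y Sp.yS⟩
    rw [pow_succ']
    refine le_antisymm (hci ▸ Sp.card_succ_le i) (hci ▸ mul_card_le Sp.amb.isP (Sp.le_succ i) (Sp.Qc_S _) ?_)
    exact fun e => hvN (e.symm ▸ hv')

theorem top_eq {k : ℕ} (hk : Nat.card Q = p ^ k) (hk1 : 1 ≤ k) : Qc Q z y (k - 1) = Q := by
  have := finite_sub Sp.amb.le
  refine CfsgLib.Fusion.eq_of_le_of_card_le (Sp.Qc_le _) ?_
  rw [Sp.cards hk (k - 1) (by omega), hk, Nat.sub_add_cancel hk1]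

/-- Below the top every element is a commutator with `y`. -/
theorem exists_comm {k : ℕ} (hk : Nat.card Q = p ^ k) {i : ℕ} (hi : i + 1 < k) {u : Ω} (hu : u ∈ Qc Q z y i) :
    ∃ n ∈ Qc Q z y (i + 1), ⁅y, n⁆ = u :=
  Sp.exists_comm_of_card (Sp.Qc_le _) (Sp.Qc_S i) (fun _ hn => (Sp.mem_succ.mp hn).2)
    (by rw [Sp.cards hk _ hi, Sp.cards hk i (by omega), ← pow_succ']) hu

/-- Below the top the chain centralises its second term. -/
theorem comm_one {k : ℕ} (hk : Nat.card Q = p ^ k) {i : ℕ} (hi : i + 1 < k) {u r : Ω} (hu : u ∈ Qc Q z y i)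
    (hr : r ∈ Qc Q z y 1) : ⁅u, r⁆ = 1 := by
  obtain ⟨n, hn, rfl⟩ := Sp.exists_comm hk hi hu
  have hr' := Sp.mem_succ.mp hr
  have h1 := hr'.2
  have hd : ⁅y, n⁆ ∈ Q := Sp.amb.comm_mem_Q Sp.yS (Sp.amb.le (Sp.Qc_le _ hn))
  have hw := Sp.amb.comm n (Sp.Qc_le _ hn) r hr'.1
  have h2 : ⁅⁅y, n⁆ * n, ⁅y, r⁆ * r⁆ = ⁅n, r⁆ := by
    rw [← conj_eq_comm_mul, ← conj_eq_comm_mul, ← conj_comm, Sp.amb.conj_fix Sp.yS hw]
  have hz1 : ⁅y, r⁆ ∈ zpowers z := h1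
  rw [Sp.amb.comm_mul_right (Sp.amb.le (Sp.amb.zmem hz1))
      (Sp.amb.comm _ (Q.mul_mem hd (Sp.Qc_le _ hn)) r hr'.1),
    Sp.amb.comm_z_right (Sp.amb.le (Q.mul_mem hd (Sp.Qc_le _ hn))) hz1, one_mul,
    Sp.amb.comm_mul_left (Sp.amb.le hd) hw] at h2
  exact mul_eq_left.mp h2

theorem mem_Pc {i : ℕ} {s : Ω} : s ∈ Pc Q z y i ↔ ∃ q ∈ Qc Q z y i, ∃ r : ℤ, s = q * y ^ r := by
  refine ⟨fun hs => exists_mul_zpow (Sp.norm_y i) hs, ?_⟩
  rintro ⟨q, hq, r, rfl⟩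
  exact Subgroup.mul_mem _ (mem_sup_left hq) (mem_sup_right (zpow_mem (mem_zpowers y) r))

theorem ypow_Q {r : ℤ} (hr : y ^ r ∈ Q) : (p : ℤ) ∣ r := by
  by_contra hd'
  obtain ⟨a, b, hab⟩ : IsCoprime (p : ℤ) r :=
    (Nat.prime_iff_prime_int.mp hp.out).coprime_iff_not_dvd.mpr hd'
  refine Sp.yQ ?_
  rw [← zpow_one y, ← hab, zpow_add, mul_comm a, zpow_mul, zpow_natCast, Sp.yp, one_zpow, one_mul,
    mul_comm b, zpow_mul]
  exact Q.zpow_mem hr b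

theorem ypow_one {r : ℤ} (hr : y ^ r ∈ Q) : y ^ r = 1 := by
  obtain ⟨m, rfl⟩ := Sp.ypow_Q hr
  rw [zpow_mul, zpow_natCast, Sp.yp, one_zpow]

theorem Pc_inf {i : ℕ} {s : Ω} (hs : s ∈ Pc Q z y i) (hsQ : s ∈ Q) : s ∈ Qc Q z y i := by
  obtain ⟨q, hq, r, rfl⟩ := Sp.mem_Pc.mp hs
  have h1 : y ^ r ∈ Q := by
    have := Q.mul_mem (Q.inv_mem (Sp.Qc_le i hq)) hsQ
    rwa [inv_mul_cancel_left] at this
  rwa [Sp.ypow_one h1, mul_one]

omit hp in
theorem Pc_le (i : ℕ) : Pc Q z y i ≤ S := sup_le (Sp.Qc_S i) (zpowers_le.mpr Sp.yS)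

theorem card_Pc (i : ℕ) : Nat.card (Pc Q z y i) = p * Nat.card (Qc Q z y i) := by
  refine card_eq_mul Sp.amb.isP le_sup_left (Sp.Pc_le i) ?_ ?_
  · exact fun e => Sp.yQ (Sp.Qc_le i (e ▸ mem_sup_right (mem_zpowers y)))
  · have := finite_sub (Sp.Qc_S i)
    exact card_sup_le hp.out.pos (Sp.norm_y i) (by rw [Sp.yp]; exact one_mem _)

theorem normalizer_Pc (i : ℕ) : Cfsg.FusionSystem.normalizerIn S (Pc Q z y i) = Pc Q z y (i + 1) := by
  have := finite_sub (Sp.Pc_le i)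
  refine le_antisymm (fun s hs => ?_) (sup_le (fun q hq => ⟨Sp.Qc_S _ hq, ?_⟩) (zpowers_le.mpr ⟨Sp.yS,
    Subgroup.le_normalizer (mem_sup_right (mem_zpowers y))⟩))
  · obtain ⟨q, hq, r, rfl⟩ := Sp.amb.decomp Sp.yS Sp.yQ hs.1
    have hy : y ∈ Pc Q z y i := mem_sup_right (mem_zpowers y)
    have hyr : y ^ r ∈ normalizer ((Pc Q z y i : Subgroup Ω) : Set Ω) := Subgroup.le_normalizer (zpow_mem hy r)
    have hqn : q ∈ normalizer ((Pc Q z y i : Subgroup Ω) : Set Ω) := by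
      have := Subgroup.mul_mem _ hs.2 (Subgroup.inv_mem _ hyr)
      rwa [mul_inv_cancel_right] at this
    have h1 : ⁅q, y⁆ ∈ Qc Q z y i := Sp.Pc_inf
      (by rw [commutatorElement_def]; exact Subgroup.mul_mem _ (conj_mem_of_mem_normalizer hqn hy) (Subgroup.inv_mem _ hy))
      (Sp.amb.comm_mem_Q (Sp.amb.le hq) Sp.yS)
    refine Subgroup.mul_mem _ (mem_sup_left (Sp.mem_succ.mpr ⟨hq, ?_⟩)) (mem_sup_right (zpow_mem (mem_zpowers y) r))
    rw [← commutatorElement_inv]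
    exact inv_mem h1
  · refine CfsgLib.Fusion.mem_normalizer_of_forall fun u hu => ?_
    obtain ⟨u', hu', r, rfl⟩ := Sp.mem_Pc.mp hu
    rw [← conj_mul, ← _root_.conj_zpow]
    refine Subgroup.mul_mem _ (mem_sup_left (conj_mem_of_mem_normalizer (Sp.norm_Q i (Sp.Qc_le _ hq)) hu'))
      (zpow_mem ?_ r)
    rw [conj_eq_comm_mul, ← commutatorElement_inv]
    exact Subgroup.mul_mem _ (mem_sup_left (inv_mem (Sp.mem_succ.mp hq).2)) (mem_sup_right (mem_zpowers y))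

/-- The normaliser of any subgroup through `y` and `z` is at most `p` times as large. -/
theorem card_normalizer_le {P : Subgroup Ω} (hP : P ≤ S) (hy : y ∈ P) :
    Nat.card (Cfsg.FusionSystem.normalizerIn S P) ≤ p * Nat.card P := by
  have hPf := finite_sub hP
  have hR : p * Nat.card (P ⊓ Q : Subgroup Ω) ≤ Nat.card P :=
    mul_card_le Sp.amb.isP inf_le_left hP fun e => Sp.yQ (inf_eq_left.mp e hy)
  set N := Q ⊓ normalizer (P : Set Ω) with hN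
  have hNR : ∀ n ∈ N, ⁅y, n⁆ ∈ P ⊓ Q := fun n hn => by
    refine ⟨?_, Sp.amb.comm_mem_Q Sp.yS (Sp.amb.le hn.1)⟩
    rw [commutatorElement_def, show y * n * y⁻¹ * n⁻¹ = y * (n * y⁻¹ * n⁻¹) by simp [mul_assoc]]
    exact P.mul_mem hy (conj_mem_of_mem_normalizer hn.2 (P.inv_mem hy))
  have h1 : Nat.card N ≤ p * Nat.card (P ⊓ Q : Subgroup Ω) :=
    Sp.card_le_of_comm inf_le_left (inf_le_left.trans hP) hNR
  have hNf := finite_sub ((inf_le_left : N ≤ Q).trans Sp.amb.le)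
  have hyN : y ∈ normalizer (N : Set Ω) := CfsgLib.Fusion.mem_normalizer_of_forall fun n hn =>
    ⟨conj_mem_of_mem_normalizer (Sp.amb.norm Sp.yS) hn.1,
      Subgroup.mul_mem _ (Subgroup.mul_mem _ (Subgroup.le_normalizer hy) hn.2)
        (Subgroup.inv_mem _ (Subgroup.le_normalizer hy))⟩
  have h2 : Nat.card (N ⊔ zpowers y : Subgroup Ω) ≤ p * Nat.card N :=
    card_sup_le hp.out.pos hyN (by rw [Sp.yp]; exact one_mem _)
  have hle : Cfsg.FusionSystem.normalizerIn S P ≤ N ⊔ zpowers y := fun s hs => by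
    obtain ⟨q, hq, r, rfl⟩ := Sp.amb.decomp Sp.yS Sp.yQ hs.1
    have hyr : y ^ r ∈ normalizer (P : Set Ω) := Subgroup.le_normalizer (zpow_mem hy r)
    refine Subgroup.mul_mem _ (mem_sup_left ⟨hq, ?_⟩) (mem_sup_right (zpow_mem (mem_zpowers y) r))
    have := Subgroup.mul_mem _ hs.2 (Subgroup.inv_mem _ hyr)
    rwa [mul_inv_cancel_right] at this
  have := finite_sub (sup_le ((inf_le_left : N ≤ Q).trans Sp.amb.le) (zpowers_le.mpr Sp.yS) : N ⊔ zpowers y ≤ S)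
  refine (Subgroup.card_le_of_le hle).trans (h2.trans (Nat.mul_le_mul_left _ ?_))
  exact h1.trans hR

end Spike

end CfsgLib.IndexExtra
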