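import Cfsg.Agent.Lib.Fusion.IndexExtra.PearlChain

/-!
# The weights of a torus on the chain, the length of the chain and the exponent
-/

set_option autoImplicit false

namespace CfsgLib.IndexExtra

open Subgroup
open scoped commutatorElement

/-- Commutators of powers, when the commutator commutes with both arguments. -/
theorem comm_zpow_zpow {G : Type*} [Group G] {a b : G} (ha : Commute ⁅a, b⁆ a) (hb : Commute ⁅a, b⁆ b)
    (m n : ℤ) : ⁅a ^ m, b ^ n⁆ = ⁅a, b⁆ ^ (m * n) := by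
  set c := ⁅a, b⁆ with hc
  have e1 : a * b * a⁻¹ = c * b := conj_eq_comm_mul a b
  have e2 : a * b ^ n * a⁻¹ = c ^ n * b ^ n := by rw [← conj_zpow', e1, hb.mul_zpow]
  have e3 : b ^ n * a * (b ^ n)⁻¹ = c ^ (-n) * a := by
    rw [zpow_neg, eq_inv_mul_iff_mul_eq, ← mul_assoc, ← mul_assoc, ← e2]
    group
  have e4 : b ^ n * a ^ m * (b ^ n)⁻¹ = c ^ (-n * m) * a ^ m := by
    rw [← conj_zpow', e3, (ha.zpow_left (-n)).mul_zpow, zpow_mul]
  rw [← commutatorElement_inv, commutatorElement_def (b ^ n), e4, mul_inv_cancel_right, ← zpow_neg]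
  congr 1
  ring

/-- Integer powers of an element of order dividing `p` only depend on the exponent modulo `p`. -/
theorem zpow_congr_mod {G : Type*} [Group G] {p : ℕ} {a : G} (ha : a ^ p = 1) {m n : ℤ}
    (h : (m : ZMod p) = n) : a ^ m = a ^ n := by
  obtain ⟨k, hk⟩ := (ZMod.intCast_zmod_eq_zero_iff_dvd (m - n) p).mp (by push_cast; rw [h, sub_self])
  rw [show m = n + (p : ℤ) * k by omega, zpow_add, zpow_mul, zpow_natCast, ha, one_zpow, mul_one]

/-- An integer of multiplicative order `p - 1` modulo `p`. -/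
theorem exists_gen_torus (p : ℕ) [Fact p.Prime] :
    ∃ t t' : ℤ, (t : ZMod p) * t' = 1 ∧ ∀ i : ℕ, (t : ZMod p) ^ i = 1 → p - 1 ∣ i := by
  obtain ⟨u, hu⟩ := IsCyclic.exists_ofOrder_eq_natCard (α := (ZMod p)ˣ)
  refine ⟨(u : ZMod p).val, ((u⁻¹ : (ZMod p)ˣ) : ZMod p).val, ?_, fun i hi => ?_⟩
  · simp only [Int.cast_natCast, ZMod.natCast_zmod_val, Units.mul_inv]
  · simp only [Int.cast_natCast, ZMod.natCast_zmod_val] at hi
    have h1 : u ^ i = 1 := Units.ext (by rw [Units.val_pow_eq_pow_val]; exact hi)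
    have h2 := orderOf_dvd_of_pow_eq_one h1
    rwa [hu, Nat.card_eq_fintype_card, ZMod.card_units] at h2

variable {Ω : Type*} [Group Ω] {S Q : Subgroup Ω} {p : ℕ} {z y : Ω}

/-- The chain admits every torus. -/
def Toral (p : ℕ) (S Q : Subgroup Ω) (z y : Ω) (k : ℕ) : Prop :=
  ∀ t t' : ℤ, (t : ZMod p) * t' = 1 → ∃ τ : MulAut S, ap τ z = z ^ t ∧ ap τ y = y ^ t' ∧
    ∀ i, i < k → ∀ q ∈ Qc Q z y i, ap τ q ∈ Qc Q z y i

/-- The predecessor in the chain. -/
noncomputable def Qp (Q : Subgroup Ω) (z y : Ω) : ℕ → Subgroup Ω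
  | 0 => ⊥
  | i + 1 => Qc Q z y i

variable [Finite S] [hp : Fact p.Prime]

namespace Spike

variable (Sp : Spike p S Q z y)

include Sp

omit hp in
theorem Qp_le (i : ℕ) : Qp Q z y i ≤ Qc Q z y i := by
  cases i with
  | zero => exact bot_le
  | succ i => exact Sp.le_succ i

theorem norm_Qp (i : ℕ) : S ≤ normalizer ((Qp Q z y i : Subgroup Ω) : Set Ω) := by
  cases i with
  | zero =>
    exact fun s _ => mem_normalizer_iff.mpr fun w => by simp [Qp]
  | succ i => exact Sp.norm_S i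

omit hp in
/-- Commutators of the `i`-th term with `y` and with `Q` lie in the predecessor. -/
theorem comm_Qp {i : ℕ} {c : Ω} (hc : c ∈ Qc Q z y i) :
    ⁅c, y⁆ ∈ Qp Q z y i ∧ ∀ q ∈ Q, ⁅c, q⁆ ∈ Qp Q z y i := by
  cases i with
  | zero =>
    have hc' : c ∈ zpowers z := hc
    simp only [Qp, mem_bot, commutatorElement_eq_one_iff_mul_comm]
    exact ⟨(Sp.amb.fix Sp.yS hc').symm, fun q hq => (Sp.amb.fix (Sp.amb.le hq) hc').symm⟩
  | succ i =>
    obtain ⟨hcQ, hcy⟩ := Sp.mem_succ.mp hc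
    refine ⟨?_, fun q hq => Sp.zQc (Sp.amb.comm c hcQ q hq)⟩
    rw [← commutatorElement_inv]
    exact inv_mem hcy

omit hp in
theorem mem_of_comm_Qp {i : ℕ} {d : Ω} (hd : d ∈ Q) (h : ⁅y, d⁆ ∈ Qp Q z y i) : d ∈ Qc Q z y i := by
  cases i with
  | zero =>
    simp only [Qp, mem_bot] at h
    exact Sp.cent d hd (commutatorElement_eq_one_iff_mul_comm.mp h).symm
  | succ i => exact Sp.mem_succ.mpr ⟨hd, h⟩

theorem pow_Qc_Qp {i : ℕ} {c : Ω} (hc : c ∈ Qc Q z y i) : c ^ p ∈ Qp Q z y i := by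
  cases i with
  | zero => exact Sp.amb.pow_of_mem (show c ∈ zpowers z from hc)
  | succ i => exact Sp.zQc (Sp.amb.pw c (Sp.Qc_le _ hc))

/-- A torus acts on the successive factors by the powers of its value on `z`. -/
theorem weight {k : ℕ} {τ : MulAut S} {t t' : ℤ} (htt : (t : ZMod p) * t' = 1)
    (hz : ap τ z = z ^ t) (hy : ap τ y = y ^ t') (hinv : ∀ i, i < k → ∀ q ∈ Qc Q z y i, ap τ q ∈ Qc Q z y i) :
    ∀ i, i < k → ∀ q ∈ Qc Q z y i, ap τ q * (q ^ (t ^ (i + 1)))⁻¹ ∈ Qp Q z y i := by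
  have hzS : z ∈ S := Sp.amb.le Sp.amb.zQ
  intro i
  induction i with
  | zero =>
    intro _ q hq
    obtain ⟨l, hl⟩ := (show q ∈ zpowers z from hq)
    simp only [Qp, mem_bot, ← hl, ap_zpow τ hzS, hz, zero_add, pow_one, ← zpow_mul, mul_comm t l,
      mul_inv_cancel]
  | succ i ih =>
    intro hi q hq
    obtain ⟨hqQ, hc⟩ := Sp.mem_succ.mp hq
    have hqS := Sp.amb.le hqQ
    have hcS := Sp.Qc_S i hc
    have hτc := ih (by omega) _ hc
    have hτq := hinv (i + 1) hi q hq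
    set e : ℤ := t ^ (i + 1 + 1) with he
    set d := ap τ q * (q ^ e)⁻¹ with hd
    have hdQ : d ∈ Q := Q.mul_mem (Sp.Qc_le _ hτq) (Q.inv_mem (Q.zpow_mem hqQ e))
    have hdS := Sp.amb.le hdQ
    refine Sp.mem_of_comm_Qp (i := i) hdQ ?_
    have hN : ((Qp Q z y i).subgroupOf S).Normal :=
      ⟨fun n hn g => mem_subgroupOf.mpr
        (conj_mem_of_mem_normalizer (Sp.norm_Qp i g.2) (mem_subgroupOf.mp hn))⟩
    let π := QuotientGroup.mk' ((Qp Q z y i).subgroupOf S)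
    have hπ : ∀ {u : S}, π u = 1 ↔ (u : Ω) ∈ Qp Q z y i := fun {u} => QuotientGroup.eq_one_iff u
    set Y := π ⟨y, Sp.yS⟩ with hY
    set P := π ⟨q, hqS⟩ with hP
    set D := π ⟨d, hdS⟩ with hD
    have hC : ⁅Y, P⁆ = π ⟨⁅y, q⁆, hcS⟩ := by
      rw [hY, hP, ← map_commutatorElement]; rfl
    have hcomm : ∀ (v : Ω) (hv : v ∈ S), ⁅⁅y, q⁆, v⁆ ∈ Qp Q z y i → Commute ⁅Y, P⁆ (π ⟨v, hv⟩) := fun v hv h => by
      rw [hC]
      refine commutatorElement_eq_one_iff_mul_comm.mp ?_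
      rw [← map_commutatorElement]
      exact hπ.mpr h
    obtain ⟨hcy, hcQ⟩ := Sp.comm_Qp hc
    have hCY : Commute ⁅Y, P⁆ Y := hcomm _ Sp.yS hcy
    have hCP : Commute ⁅Y, P⁆ P := hcomm _ hqS (hcQ q hqQ)
    have hCD : Commute ⁅Y, P⁆ D := hcomm _ hdS (hcQ d hdQ)
    have hCp : ⁅Y, P⁆ ^ p = 1 := by
      rw [hC, ← map_pow]
      exact hπ.mpr (Sp.pow_Qc_Qp hc)
    have h1 : π ⟨ap τ ⁅y, q⁆, ap_mem τ hcS⟩ = ⁅Y, P⁆ ^ (t ^ (i + 1)) := by
      rw [hC, ← map_zpow]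
      refine mul_inv_eq_one.mp ?_
      rw [← map_inv, ← map_mul]
      exact hπ.mpr hτc
    have h2 : π ⟨ap τ ⁅y, q⁆, ap_mem τ hcS⟩ = ⁅Y ^ t', D * P ^ e⁆ := by
      rw [hY, hD, hP, ← map_zpow, ← map_zpow, ← map_mul, ← map_commutatorElement]
      refine congrArg π (Subtype.ext ?_)
      show ap τ ⁅y, q⁆ = ⁅y ^ t', d * q ^ e⁆
      rw [ap_comm τ Sp.yS hqS, hy, hd, inv_mul_cancel_right]
    rw [h1, comm_mul_right_id, comm_zpow_zpow hCY hCP, (hCD.symm.zpow_right (t' * e)).eq,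
      mul_inv_cancel_right] at h2
    have hexp : ((t ^ (i + 1) : ℤ) : ZMod p) = ((t' * e : ℤ) : ZMod p) := by
      rw [he]; push_cast; linear_combination (-(t : ZMod p) ^ (i + 1)) * htt
    rw [zpow_congr_mod hCp hexp, right_eq_mul, commutatorElement_eq_one_iff_mul_comm] at h2
    have hY' : (Y ^ t') ^ t = Y := by
      have hYp : Y ^ p = 1 := by
        rw [hY, ← map_pow, show (⟨y, Sp.yS⟩ : S) ^ p = 1 from Subtype.ext Sp.yp, map_one]
      rw [← zpow_mul, zpow_congr_mod hYp (n := 1) (by push_cast; linear_combination htt), zpow_one]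
    have h3 : Commute Y D := hY' ▸ (show Commute (Y ^ t') D from h2).zpow_left t
    have h4 := commutatorElement_eq_one_iff_mul_comm.mpr h3.eq
    rw [hY, hD, ← map_commutatorElement] at h4
    exact hπ.mp h4

omit hp in
/-- An element pushed into `Z` by `n` commutations with `y` lies in the `n`-th term. -/
theorem mem_of_iterate : ∀ (n : ℕ) {q : Ω}, q ∈ Q → (fun a => ⁅y, a⁆)^[n] q ∈ zpowers z →
    (∀ a ∈ Q, ⁅y, a⁆ ∈ Q) → q ∈ Qc Q z y n := by
  intro n
  induction n with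
  | zero => exact fun _ h _ => h
  | succ n ih =>
    intro q hq h hQ
    rw [Function.iterate_succ_apply] at h
    exact Sp.mem_succ.mpr ⟨hq, ih (hQ q hq) h hQ⟩

omit [Finite S] in
/-- `p` commutations with `y` push `Q` into its centre. -/
theorem iterate_p {q : Ω} (hq : q ∈ Q) : (fun a => ⁅y, a⁆)^[p] q ∈ zpowers z := by
  have hN : ((zpowers z).subgroupOf Q).Normal :=
    ⟨fun n hn g => mem_subgroupOf.mpr (by
      simpa [Sp.amb.conj_fix (Sp.amb.le g.2) (mem_subgroupOf.mp hn)] using mem_subgroupOf.mp hn)⟩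
  let π := QuotientGroup.mk' ((zpowers z).subgroupOf Q)
  have hπ : ∀ {u : Q}, π u = 1 ↔ (u : Ω) ∈ zpowers z := fun {u} => QuotientGroup.eq_one_iff u
  have hcomm : ∀ a b : Q ⧸ (zpowers z).subgroupOf Q, a * b = b * a := fun a b => by
    obtain ⟨a, rfl⟩ := QuotientGroup.mk'_surjective _ a
    obtain ⟨b, rfl⟩ := QuotientGroup.mk'_surjective _ b
    refine commutatorElement_eq_one_iff_mul_comm.mp ?_
    rw [← map_commutatorElement]
    exact hπ.mpr (Sp.amb.comm a a.2 b b.2)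
  let iC : CommGroup (Q ⧸ (zpowers z).subgroupOf Q) := { (inferInstance : Group _) with mul_comm := hcomm }
  let c : Q →* Q :=
    MonoidHom.mk' (fun u => ⟨y * u * y⁻¹, conj_mem_of_mem_normalizer (Sp.amb.norm Sp.yS) u.2⟩)
      fun a b => Subtype.ext (by simp [mul_assoc])
  have hcN : (zpowers z).subgroupOf Q ≤ ((zpowers z).subgroupOf Q).comap c := fun u hu => by
    show y * (u : Ω) * y⁻¹ ∈ zpowers z
    rw [Sp.amb.conj_fix Sp.yS (mem_subgroupOf.mp hu)]
    exact mem_subgroupOf.mp hu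
  let σ := QuotientGroup.map ((zpowers z).subgroupOf Q) ((zpowers z).subgroupOf Q) c hcN
  let σ' : AddMonoid.End (Additive (Q ⧸ (zpowers z).subgroupOf Q)) := MonoidHom.toAdditive σ
  have hσ : ∀ u : Q, σ' (Additive.ofMul (π u)) = Additive.ofMul (π (c u)) := fun u => rfl
  have hσn : ∀ (n : ℕ) (u : Q), (σ' ^ n) (Additive.ofMul (π u)) = Additive.ofMul (π (c^[n] u)) := fun n => by
    induction n with
    | zero => intro u; rfl
    | succ n ih =>
      intro u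
      rw [pow_succ, Function.iterate_succ_apply]
      exact ih (c u)
  have hcn : ∀ (n : ℕ) (u : Q), ((c^[n] u : Q) : Ω) = y ^ n * u * (y ^ n)⁻¹ := fun n => by
    induction n with
    | zero => intro u; simp
    | succ n ih =>
      intro u
      rw [Function.iterate_succ_apply, ih]
      show y ^ n * (y * u * y⁻¹) * (y ^ n)⁻¹ = _
      simp [pow_succ, mul_assoc]
  have hσp : σ' ^ p = 1 := by
    refine AddMonoidHom.ext fun a => ?_
    obtain ⟨u, hu⟩ := QuotientGroup.mk'_surjective _ a.toMul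
    obtain rfl : a = Additive.ofMul (π u) := (congrArg Additive.ofMul hu).symm
    refine (hσn p u).trans (congrArg (fun w => Additive.ofMul (π w)) ?_)
    exact Subtype.ext (by rw [hcn, Sp.yp, one_mul, inv_one, mul_one])
  have hchar : ((p : ℕ) : AddMonoid.End (Additive (Q ⧸ (zpowers z).subgroupOf Q))) = 0 := by
    refine AddMonoidHom.ext fun a => ?_
    obtain ⟨u, hu⟩ := QuotientGroup.mk'_surjective _ a.toMul
    obtain rfl : a = Additive.ofMul (π u) := (congrArg Additive.ofMul hu).symm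
    refine (AddMonoid.End.natCast_apply p (Additive.ofMul (π u))).trans ?_
    rw [← ofMul_pow, ← map_pow, show π (u ^ p) = 1 from hπ.mpr (Sp.amb.pw u u.2)]
    rfl
  obtain ⟨r, hr⟩ := (Commute.one_right (σ' - 1)).exists_add_pow_prime_eq hp.out
  rw [sub_add_cancel, hσp, one_pow, hchar] at hr
  simp only [zero_mul, add_zero] at hr
  have hu0 : (σ' - 1) ^ p = 0 := right_eq_add.mp hr |>.trans rfl
  have hit : ∀ (n : ℕ) (u : Q), ∃ v : Q, (v : Ω) = (fun a => ⁅y, a⁆)^[n] (u : Ω) ∧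
      ((σ' - 1) ^ n) (Additive.ofMul (π u)) = Additive.ofMul (π v) := fun n => by
    induction n with
    | zero => intro u; exact ⟨u, rfl, rfl⟩
    | succ n ih =>
      intro u
      obtain ⟨v, hv, hve⟩ := ih u
      refine ⟨c v * v⁻¹, ?_, ?_⟩
      · rw [Function.iterate_succ_apply', ← hv, commutatorElement_def]; rfl
      · rw [pow_succ']
        show (σ' - 1) (((σ' - 1) ^ n) _) = _
        rw [hve, map_mul, map_inv, ofMul_mul, ofMul_inv, ← sub_eq_add_neg, ← hσ]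
        rfl
  obtain ⟨v, hv, hve⟩ := hit p ⟨q, hq⟩
  rw [hu0] at hve
  rw [← hv]
  exact hπ.mp (Additive.ofMul.injective hve.symm)

theorem le_Qc_p : Q ≤ Qc Q z y p := fun _ hq =>
  Sp.mem_of_iterate p hq (Sp.iterate_p hq) fun _ ha => Sp.amb.comm_mem_Q Sp.yS (Sp.amb.le ha)

/-- The chain has length at most `p + 1`. -/
theorem k_le {k : ℕ} (hk : Nat.card Q = p ^ k) : k ≤ p + 1 := by
  by_contra hlt
  have := finite_sub (Sp.Qc_S p)
  have h1 := Subgroup.card_le_of_le Sp.le_Qc_p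
  rw [hk, Sp.cards hk p (by omega), Nat.pow_le_pow_iff_right hp.out.one_lt] at h1
  omega

/-- Some element of the second term and some element of the last step do not commute. -/
theorem exists_pairing {k : ℕ} (hk : Nat.card Q = p ^ k) (hk5 : 5 ≤ k) :
    ∃ v ∈ Q, ∃ r ∈ Qc Q z y 1, v ∉ Qc Q z y (k - 2) ∧ r ∉ zpowers z ∧ ⁅v, r⁆ ≠ 1 := by
  obtain ⟨r, hr, hrZ⟩ : ∃ r ∈ Qc Q z y 1, r ∉ zpowers z := by
    by_contra! h
    have := finite_sub (zpowers_le.mpr (Sp.amb.le Sp.amb.zQ) : zpowers z ≤ S)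
    have h1 := Subgroup.card_le_of_le (show Qc Q z y 1 ≤ zpowers z from h)
    rw [Sp.cards hk 1 (by omega), Sp.amb.card_Z, pow_two] at h1
    have := hp.out.two_le
    nlinarith
  obtain ⟨v, hv, hvN⟩ : ∃ v ∈ Q, v ∉ Qc Q z y (k - 2) := by
    by_contra! h
    have := finite_sub (Sp.Qc_S (k - 2))
    have h1 := Subgroup.card_le_of_le (show Q ≤ Qc Q z y (k - 2) from h)
    rw [hk, Sp.cards hk _ (by omega), Nat.pow_le_pow_iff_right hp.out.one_lt] at h1
    omega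
  refine ⟨v, hv, r, hr, hvN, hrZ, fun e => hrZ (Sp.amb.cen r (Sp.Qc_le _ hr) fun b hb => ?_)⟩
  have hle : Q ≤ Qc Q z y (k - 2) ⊔ zpowers v := by
    rw [sup_eq_of_card Sp.amb.isP (Sp.Qc_le _) Sp.amb.le hv hvN
      (by rw [hk, Sp.cards hk _ (by omega), ← pow_succ']; exact Nat.pow_le_pow_right hp.out.pos (by omega))]
  exact (commute_of_sup (fun a ha => commutatorElement_eq_one_iff_mul_comm.mp (Sp.comm_one hk (by omega) ha hr))
    (fun a ha => commute_zpowers (commutatorElement_eq_one_iff_mul_comm.mp e) ha) (hle hb)).symm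

/-- The pairing of the top and the second factor ties the length to `p`. -/
theorem dvd_length {k : ℕ} (hk : Nat.card Q = p ^ k) (hk5 : 5 ≤ k) (hT : Toral p S Q z y k) :
    p - 1 ∣ k + 1 := by
  obtain ⟨t, t', htt, hgen⟩ := exists_gen_torus p
  obtain ⟨τ, hz, hy, hinv⟩ := hT t t' htt
  obtain ⟨v, hv, r, hr, -, -, hw1⟩ := Sp.exists_pairing hk hk5
  have hv' : v ∈ Qc Q z y (k - 1) := by rw [Sp.top_eq hk (by omega)]; exact hv
  have hwv := Sp.weight htt hz hy hinv (k - 1) (by omega) v hv'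
  have hwr := Sp.weight htt hz hy hinv 1 (by omega) r hr
  rw [show k - 1 + 1 = k by omega, show k - 1 = (k - 2) + 1 by omega] at hwv
  have hτr := hinv 1 (by omega) r hr
  have hd : ap τ v * (v ^ (t ^ k))⁻¹ ∈ Qc Q z y (k - 2) := hwv
  have hd' : ap τ r * (r ^ (t ^ (1 + 1)))⁻¹ ∈ zpowers z := hwr
  have hvS := Sp.amb.le hv
  have hrQ := Sp.Qc_le _ hr
  have hw := Sp.amb.comm v hv r hrQ
  have hzS : z ∈ S := Sp.amb.le Sp.amb.zQ
  have h1 : ap τ ⁅v, r⁆ = ⁅v, r⁆ ^ t := by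
    obtain ⟨l, hl⟩ := hw
    rw [← hl]
    show ap τ (z ^ l) = (z ^ l) ^ t
    rw [ap_zpow τ hzS, hz, ← zpow_mul, ← zpow_mul, mul_comm]
  rw [ap_comm τ hvS (Sp.amb.le hrQ)] at h1
  set e : ℤ := t ^ k
  set e' : ℤ := t ^ (1 + 1)
  have h2 : ⁅ap τ v, ap τ r⁆ = ⁅v, r⁆ ^ (e * e') := by
    have hdQ := Sp.Qc_le _ hd
    conv_lhs => rw [show ap τ v = ap τ v * (v ^ e)⁻¹ * v ^ e from (inv_mul_cancel_right _ _).symm]
    rw [Sp.amb.comm_mul_left (Sp.amb.le hdQ) (Sp.amb.comm _ (Q.zpow_mem hv e) _ (Sp.Qc_le _ hτr)),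
      Sp.comm_one hk (by omega) hd hτr, mul_one]
    conv_lhs => rw [show ap τ r = ap τ r * (r ^ e')⁻¹ * r ^ e' from (inv_mul_cancel_right _ _).symm]
    rw [Sp.amb.comm_mul_right (Sp.amb.le (Sp.amb.zmem hd')) (Sp.amb.comm _ (Q.zpow_mem hv e) _ (Q.zpow_mem hrQ e')),
      Sp.amb.comm_z_right (S.zpow_mem hvS e) hd', one_mul]
    exact comm_zpow_zpow (Sp.amb.fix hvS hw).symm (Sp.amb.fix (Sp.amb.le hrQ) hw).symm e e'
  rw [h1] at h2
  have h3 : ⁅v, r⁆ ^ (e * e' - t) = 1 := by rw [zpow_sub, ← h2, mul_inv_cancel]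
  have h4 := (ZMod.intCast_zmod_eq_zero_iff_dvd _ p).mpr
    (Sp.amb.dvd_of_zpow (Sp.amb.comm_pow hv hrQ) hw1 h3)
  simp only [e, e'] at h4
  push_cast at h4
  refine hgen (k + 1) ?_
  linear_combination (t' : ZMod p) * h4 - ((t : ZMod p) ^ (k + 1) - 1) * htt

/-- The order of `Q`. -/
theorem k_eq {k : ℕ} (hk : Nat.card Q = p ^ k) (hk5 : 5 ≤ k) (hT : Toral p S Q z y k) :
    7 ≤ p ∧ k + 2 = p := by
  obtain ⟨c, hc⟩ := Sp.dvd_length hk hk5 hT
  have h1 := Sp.k_le hk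
  obtain ⟨o, rfl⟩ := Sp.amb.odd
  have := hp.out.two_le
  rw [Nat.add_sub_cancel] at hc
  have hc1 : c = 1 := by
    rcases Nat.lt_or_ge c 2 with h | h
    · rcases Nat.eq_zero_or_pos c with rfl | h0
      · omega
      · omega
    · have h2 : 2 * o * 2 ≤ 2 * o * c := Nat.mul_le_mul_left _ h
      have h3 : o = 1 := by omega
      subst h3
      omega
  subst hc1
  omega

/-- `Q` has exponent `p`. -/
theorem pow_Q {k : ℕ} (hk : Nat.card Q = p ^ k) (hk5 : 5 ≤ k) (hT : Toral p S Q z y k) {q : Ω}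
    (hq : q ∈ Q) : q ^ p = 1 := by
  obtain ⟨hp7, hkp⟩ := Sp.k_eq hk hk5 hT
  obtain ⟨t, t', htt, hgen⟩ := exists_gen_torus p
  obtain ⟨τ, hz, hy, hinv⟩ := hT t t' htt
  suffices H : ∀ i, i < k → ∀ q ∈ Qc Q z y i, q ^ p = 1 from
    H (k - 1) (by omega) q (by rw [Sp.top_eq hk (by omega)]; exact hq)
  intro i
  induction i with
  | zero => exact fun _ q hq => Sp.amb.pow_of_mem hq
  | succ i ih =>
    intro hi q hq
    have hqQ := Sp.Qc_le _ hq
    have hqS := Sp.amb.le hqQ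
    have hw := Sp.amb.pw q hqQ
    have h1 : ap τ (q ^ p) = (q ^ p) ^ t := by
      obtain ⟨l, hl⟩ := hw
      rw [← hl]
      show ap τ (z ^ l) = (z ^ l) ^ t
      rw [ap_zpow τ (Sp.amb.le Sp.amb.zQ), hz, ← zpow_mul, ← zpow_mul, mul_comm]
    have hd : ap τ q * (q ^ (t ^ (i + 1 + 1)))⁻¹ ∈ Qc Q z y i := Sp.weight htt hz hy hinv (i + 1) hi q hq
    set e : ℤ := t ^ (i + 1 + 1)
    rw [ap_pow τ hqS, show ap τ q = ap τ q * (q ^ e)⁻¹ * q ^ e from (inv_mul_cancel_right _ _).symm,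
      Sp.amb.mul_pow (Sp.Qc_le _ hd) (Q.zpow_mem hqQ e), ih (by omega) _ hd, one_mul,
      ← zpow_natCast, ← zpow_mul, mul_comm e, zpow_mul, zpow_natCast] at h1
    by_contra hne
    have h2 : (q ^ p) ^ (e - t) = 1 := by rw [zpow_sub, h1, mul_inv_cancel]
    have h3 := (ZMod.intCast_zmod_eq_zero_iff_dvd _ p).mpr
      (Sp.amb.dvd_of_zpow (Sp.amb.pow_of_mem hw) hne h2)
    simp only [e] at h3
    push_cast at h3
    have h4 := hgen (i + 1) (by
      linear_combination (t' : ZMod p) * h3 - ((t : ZMod p) ^ (i + 1) - 1) * htt)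
    have := Nat.le_of_dvd (by omega) h4
    omega


end Spike

end CfsgLib.IndexExtra
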