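import Cfsg.Agent.Lib.Fusion.IndexExtra.PearlTorus
import Cfsg.Agent.Lib.Fusion.IndexExtra.PearlWeights
import Cfsg.Agent.Lib.Fusion.Pearl
import Cfsg.Agent.Lib.H82.HallPetrescu

/-!
# `E` of order `p ^ 2`: maximal class and exponent `p`, and the frame for `p = 7`
-/

set_option autoImplicit false

namespace CfsgLib.IndexExtra

open Cfsg Cfsg.FusionSystem CfsgLib.Fusion
open Subgroup
open scoped commutatorElement

variable {Ω : Type*} [Group Ω] {S Q E : Subgroup Ω} {p : ℕ} {z y : Ω} [Finite S] [hp : Fact p.Prime]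

/-- The chain of iterated commutators of an element outside `Q` centralising the second term, for `|Q| = p ^ 5`. -/
structure Five (p : ℕ) (S Q : Subgroup Ω) (z y x : Ω) : Prop where
  sp : Spike p S Q z y
  card : Nat.card Q = p ^ 5
  powQ : ∀ q ∈ Q, q ^ p = 1
  xS : x ∈ S
  xQ : x ∉ Q
  xp : x ^ p = 1
  x1 : ∀ r ∈ Qc Q z y 1, x * r = r * x
  cong : ∀ q ∈ Q, ⁅x, q⁆ * ⁅y, q⁆⁻¹ ∈ zpowers z

namespace Five

variable {x : Ω} (V : Five p S Q z y x)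

include V

omit hp in
theorem x_mem {i : ℕ} {q : Ω} (hq : q ∈ Q) : ⁅x, q⁆ ∈ Qc Q z y i ↔ q ∈ Qc Q z y (i + 1) := by
  rw [V.sp.mem_succ]
  have hw : ⁅x, q⁆ * ⁅y, q⁆⁻¹ ∈ Qc Q z y i := V.sp.zQc (V.cong q hq)
  refine ⟨fun h => ⟨hq, ?_⟩, fun h => ?_⟩
  · have := (Qc Q z y i).mul_mem ((Qc Q z y i).inv_mem hw) h
    rwa [mul_inv_rev, inv_inv, inv_mul_cancel_right] at this
  · have := (Qc Q z y i).mul_mem hw h.2
    rwa [inv_mul_cancel_right] at this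

omit hp in
theorem step {i : ℕ} {q : Ω} (hq : q ∈ Qc Q z y (i + 1)) :
    ⁅q⁻¹, x⁆ ∈ Qc Q z y i ∧ x * q * x⁻¹ = q * ⁅q⁻¹, x⁆ := by
  refine ⟨?_, by simp [commutatorElement_def, mul_assoc]⟩
  rw [← commutatorElement_inv]
  exact inv_mem ((V.x_mem (Q.inv_mem (V.sp.Qc_le _ hq))).mpr (inv_mem hq))

omit hp in
theorem step_not {i : ℕ} {q : Ω} (hq : q ∈ Q) (hn : q ∉ Qc Q z y (i + 1)) : ⁅q⁻¹, x⁆ ∉ Qc Q z y i := fun h => by
  rw [← commutatorElement_inv, inv_mem_iff, V.x_mem (Q.inv_mem hq), inv_mem_iff] at h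
  exact hn h

omit hp in
theorem step_Z {q : Ω} (hq : q ∈ Q) (hn : q ∉ Qc Q z y 1) : ⁅q⁻¹, x⁆ ∉ zpowers z :=
  V.step_not (i := 0) hq hn

theorem comm_low {i : ℕ} (hi : i ≤ 3) {u r : Ω} (hu : u ∈ Qc Q z y i) (hr : r ∈ Qc Q z y 1) : ⁅u, r⁆ = 1 :=
  V.sp.comm_one V.card (by omega) hu hr

theorem sup_step {i : ℕ} (hi : i < 4) {u : Ω} (hu : u ∈ Qc Q z y (i + 1)) (hn : u ∉ Qc Q z y i) :
    Qc Q z y i ⊔ zpowers u = Qc Q z y (i + 1) :=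
  sup_eq_of_card V.sp.amb.isP (V.sp.le_succ i) (V.sp.Qc_S _) hu hn
    (by rw [V.sp.cards V.card _ (by omega), V.sp.cards V.card i (by omega), ← pow_succ'])

theorem ne_comm {n R : Ω} (hn : n ∈ Q) (hn3 : n ∉ Qc Q z y 3) (hR : R ∈ Qc Q z y 1) (hRZ : R ∉ zpowers z) :
    ⁅n, R⁆ ≠ 1 := fun e => hRZ (V.sp.amb.cen R (V.sp.Qc_le _ hR) fun b hb => by
  have hle : Q ≤ Qc Q z y 3 ⊔ zpowers n := by
    rw [sup_eq_of_card V.sp.amb.isP (V.sp.Qc_le _) V.sp.amb.le hn hn3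
      (by rw [V.card, V.sp.cards V.card 3 (by omega), ← pow_succ'])]
  exact (commute_of_sup (fun a ha => commutatorElement_eq_one_iff_mul_comm.mp (V.comm_low le_rfl ha hR))
    (fun a ha => commute_zpowers (commutatorElement_eq_one_iff_mul_comm.mp e) ha) (hle hb)).symm)

/-- The iterated commutators of a top element and their pairings. -/
theorem data {n : Ω} (hn : n ∈ Q) (hn3 : n ∉ Qc Q z y 3) :
    ∃ Y ∈ Qc Q z y 3, ∃ c ∈ Qc Q z y 2, ∃ R ∈ Qc Q z y 1, Y ∉ Qc Q z y 2 ∧ c ∉ Qc Q z y 1 ∧ R ∉ zpowers z ∧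
      Y = ⁅n⁻¹, x⁆ ∧ x * n * x⁻¹ = n * Y ∧ x * Y * x⁻¹ = Y * c ∧ x * c * x⁻¹ = c * R ∧
      ⁅n, c⁆ = ⁅n, R⁆ ∧ ⁅Y, c⁆ = ⁅n, R⁆⁻¹ ∧ ⁅n, R⁆ ≠ 1 := by
  have h := V.sp.amb
  have hn4 : n ∈ Qc Q z y (3 + 1) := by
    have := V.sp.top_eq V.card (by omega); rw [show (5 : ℕ) - 1 = 3 + 1 from rfl] at this; rw [this]; exact hn
  obtain ⟨hY, x1⟩ := V.step hn4
  set Y := ⁅n⁻¹, x⁆ with hYdef
  have hY2 : Y ∉ Qc Q z y 2 := V.step_not (i := 2) hn hn3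
  obtain ⟨hc, x2⟩ := V.step (i := 2) hY
  set c := ⁅Y⁻¹, x⁆ with hcdef
  have hYQ := V.sp.Qc_le _ hY
  have hc1 : c ∉ Qc Q z y 1 := V.step_not (i := 1) hYQ hY2
  obtain ⟨hR, x3⟩ := V.step (i := 1) hc
  set R := ⁅c⁻¹, x⁆ with hRdef
  have hcQ := V.sp.Qc_le _ hc
  have hRZ : R ∉ zpowers z := V.step_Z hcQ hc1
  have hRQ := V.sp.Qc_le _ hR
  have hYR : ⁅Y, R⁆ = 1 := V.comm_low le_rfl hY hR
  have hYY : ⁅Y, Y⁆ = 1 := commutatorElement_eq_one_iff_mul_comm.mpr rfl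
  have hxS := V.xS
  have key : ∀ {a a' : Ω}, a ∈ Q → a' ∈ Q → x * a * x⁻¹ = a' → ⁅n * Y, a'⁆ = ⁅n, a⁆ := fun {a a'} ha ha' e => by
    rw [← x1, ← e, ← conj_comm, h.conj_fix hxS (h.comm n hn _ ha)]
  have h1 : ⁅Y, c⁆ * ⁅n, c⁆ = 1 := by
    have e := key hYQ (Q.mul_mem hYQ hcQ) x2
    rw [h.comm_mul_left (h.le hn) (h.comm Y hYQ _ (Q.mul_mem hYQ hcQ)),
      h.comm_mul_right (h.le hYQ) (h.comm Y hYQ _ hcQ), hYY, one_mul,
      h.comm_mul_right (h.le hYQ) (h.comm n hn _ hcQ)] at e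
    rw [h.fix (h.le (h.zmem (h.comm n hn _ hYQ))) (h.comm n hn _ hcQ), ← mul_assoc] at e
    exact mul_eq_right.mp e
  have h2 : ⁅Y, c⁆ * ⁅n, R⁆ = 1 := by
    have e := key hcQ (Q.mul_mem hcQ hRQ) x3
    rw [h.comm_mul_left (h.le hn) (h.comm Y hYQ _ (Q.mul_mem hcQ hRQ)),
      h.comm_mul_right (h.le hcQ) (h.comm Y hYQ _ hRQ), hYR, mul_one,
      h.comm_mul_right (h.le hcQ) (h.comm n hn _ hRQ),
      h.fix (h.le (h.zmem (h.comm n hn _ hcQ))) (h.comm n hn _ hRQ), ← mul_assoc] at e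
    exact mul_eq_right.mp e
  exact ⟨Y, hY, c, hc, R, hR, hY2, hc1, hRZ, rfl, x1, x2, x3, mul_left_cancel (h1.trans h2.symm),
    eq_inv_of_mul_eq_one_left h2, V.ne_comm hn hn3 hR hRZ⟩

theorem chain (h5 : 5 ≤ p) : ∃ w : Fin 6 → Ω, Chain p w ∧ (∀ i, w i ∈ S) ∧ S ≤ closure (Set.range w) := by
  have h := V.sp.amb
  obtain ⟨n₀, hn₀, hn₀3⟩ : ∃ v ∈ Q, v ∉ Qc Q z y 3 := by
    by_contra! hle
    have := finite_sub (V.sp.Qc_S 3)
    have h1 := Subgroup.card_le_of_le (show Q ≤ Qc Q z y 3 from hle)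
    rw [V.card, V.sp.cards V.card 3 (by omega), Nat.pow_le_pow_iff_right hp.out.one_lt] at h1
    omega
  obtain ⟨Y₀, hY₀, c₀, hc₀, R₀, hR₀, -, -, -, hY₀e, -, -, x3, hnc₀, hYc₀, hnR₀⟩ := V.data hn₀ hn₀3
  have hY₀Q := V.sp.Qc_le _ hY₀
  have hc₀Q := V.sp.Qc_le _ hc₀
  have hR₀Q := V.sp.Qc_le _ hR₀
  have hpne : ¬ (p : ℤ) ∣ 2 := fun hd => by
    have := Nat.le_of_dvd two_pos (Int.natCast_dvd_natCast.mp hd)
    omega
  have hsq : ⁅n₀, R₀⁆ ^ (2 : ℤ) ≠ 1 := fun e => hpne (h.dvd_of_zpow (h.comm_pow hn₀ hR₀Q) hnR₀ e)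
  obtain ⟨k, hk⟩ := exists_zpow_of_gen (inv_mem (h.comm n₀ hn₀ _ hY₀Q))
    (h.gen (zpow_mem (h.comm n₀ hn₀ _ hR₀Q) 2) hsq)
  set n := n₀ * c₀ ^ k with hndef
  have hck : c₀ ^ k ∈ Q := Q.zpow_mem hc₀Q k
  have hn : n ∈ Q := Q.mul_mem hn₀ hck
  have hn3 : n ∉ Qc Q z y 3 := fun he => hn₀3 (by
    have := mul_mem he (inv_mem (zpow_mem (V.sp.le_succ 2 hc₀) k))
    rwa [hndef, mul_inv_cancel_right] at this)
  obtain ⟨Y, hY, c, hc, R, hR, hY2, hc1, hRZ, hYe, u1, u2, u3, hnc, hYc, hnR⟩ := V.data hn hn3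
  have hYQ := V.sp.Qc_le _ hY
  have hcQ := V.sp.Qc_le _ hc
  have hRQ := V.sp.Qc_le _ hR
  have hnY : ⁅n, Y⁆ = 1 := by
    have hcR : Commute c₀ R₀ := commutatorElement_eq_one_iff_mul_comm.mp (V.comm_low (by omega) hc₀ hR₀)
    have hp1 : ⁅(c₀ ^ k)⁻¹, x⁆ = R₀ ^ k := by
      rw [commutatorElement_def, inv_inv, mul_assoc, mul_assoc, ← mul_assoc x, ← _root_.conj_zpow, x3,
        hcR.mul_zpow, inv_mul_cancel_left]
    have hY' : Y = (c₀ ^ k)⁻¹ * Y₀ * (c₀ ^ k)⁻¹⁻¹ * R₀ ^ k := by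
      rw [hYe, hndef, mul_inv_rev, comm_mul_left_id, ← hY₀e, hp1]
    have hRk : R₀ ^ k ∈ Q := Q.zpow_mem hR₀Q k
    have hw := h.comm _ (Q.inv_mem hck) _ hY₀Q
    rw [hY', conj_eq_comm_mul, mul_assoc, hndef,
      h.comm_mul_left (h.le hn₀) (h.comm _ hck _ (Q.mul_mem (h.zmem hw) (Q.mul_mem hY₀Q hRk))),
      h.comm_mul_right (h.le (h.zmem hw)) (h.comm n₀ hn₀ _ (Q.mul_mem hY₀Q hRk)),
      h.comm_z_right (h.le hn₀) hw, one_mul,
      h.comm_mul_right (h.le (h.zmem hw)) (h.comm _ hck _ (Q.mul_mem hY₀Q hRk)),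
      h.comm_z_right (h.le hck) hw, one_mul,
      h.comm_mul_right (h.le hY₀Q) (h.comm n₀ hn₀ _ hRk),
      h.comm_mul_right (h.le hY₀Q) (h.comm _ hck _ hRk),
      commutatorElement_eq_one_iff_mul_comm.mpr ((hcR.zpow_left k).zpow_right k).eq, mul_one,
      h.comm_zpow_left (h.le hc₀Q) (h.le hY₀Q) (h.comm _ hc₀Q _ hY₀Q),
      ← commutatorElement_inv Y₀ c₀, hYc₀, inv_inv,
      h.comm_zpow_right (h.le hn₀) (h.le hR₀Q) (h.comm n₀ hn₀ _ hR₀Q),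
      h.fix (h.le (h.zmem (h.comm n₀ hn₀ _ hY₀Q))) (zpow_mem (h.comm n₀ hn₀ _ hR₀Q) k), ← mul_assoc,
      ← zpow_add, ← two_mul, zpow_mul, hk, inv_mul_cancel]
  have hzn := h.comm n hn _ hRQ
  have hfix : ∀ {a b : Ω}, ⁅a, b⁆ = 1 → a * b * a⁻¹ = b := fun {a b} e => by rw [conj_eq_comm_mul, e, one_mul]
  refine ⟨![⁅n, R⁆, R, c, Y, n, x], ?_, ?_, ?_⟩
  · refine ⟨fun i => ?_, ?_, ?_, ?_, ?_, ?_, ?_, ?_, ?_, ?_, ?_, ?_, ?_, u3, u2, u1⟩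
    · fin_cases i
      exacts [h.pow_of_mem hzn, V.powQ R hRQ, V.powQ c hcQ, V.powQ Y hYQ, V.powQ n hn, V.xp]
    · exact h.conj_fix (h.le hRQ) hzn
    · exact h.conj_fix (h.le hcQ) hzn
    · exact hfix (V.comm_low (by omega) hc hR)
    · exact h.conj_fix (h.le hYQ) hzn
    · exact hfix (V.comm_low le_rfl hY hR)
    · show Y * c * Y⁻¹ = _
      rw [conj_eq_comm_mul, hYc]
      rfl
    · exact h.conj_fix (h.le hn) hzn
    · exact conj_eq_comm_mul n R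
    · show n * c * n⁻¹ = _
      rw [conj_eq_comm_mul n c, hnc]
      rfl
    · exact hfix hnY
    · exact h.conj_fix V.xS hzn
    · exact mul_inv_eq_iff_eq_mul.mpr (V.x1 R hR)
  · intro i
    fin_cases i
    exacts [h.le (h.zmem hzn), h.le hRQ, h.le hcQ, h.le hYQ, h.le hn, V.xS]
  · set K := closure (Set.range ![⁅n, R⁆, R, c, Y, n, x])
    have m : ∀ i, (![⁅n, R⁆, R, c, Y, n, x]) i ∈ K := fun i => subset_closure ⟨i, rfl⟩
    have l0 : Qc Q z y 0 ≤ K := by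
      show zpowers z ≤ K
      rw [← h.gen hzn hnR]; exact zpowers_le.mpr (m 0)
    have l1 : Qc Q z y 1 ≤ K := V.sup_step (i := 0) (by omega) hR hRZ ▸ sup_le l0 (zpowers_le.mpr (m 1))
    have l2 : Qc Q z y 2 ≤ K := V.sup_step (i := 1) (by omega) hc hc1 ▸ sup_le l1 (zpowers_le.mpr (m 2))
    have l3 : Qc Q z y 3 ≤ K := V.sup_step (i := 2) (by omega) hY hY2 ▸ sup_le l2 (zpowers_le.mpr (m 3))
    have l4 : Qc Q z y 4 ≤ K := V.sup_step (i := 3) (by omega)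
      (by rw [show (3 : ℕ) + 1 = 5 - 1 from rfl, V.sp.top_eq V.card (by omega)]; exact hn) hn3 ▸
      sup_le l3 (zpowers_le.mpr (m 4))
    rw [← h.sup_out V.xS V.xQ, ← V.sp.top_eq V.card (by omega)]
    exact sup_le l4 (zpowers_le.mpr (m 5))

end Five

namespace Spike

variable (Sp : Spike p S Q z y)

include Sp

/-- The whole group has exponent `p`, given its class. -/
theorem pow_S (hQ : ∀ q ∈ Q, q ^ p = 1) (hcls : (⊤ : Subgroup S).lowerCentralSeries (p - 1) = ⊥) (s : S) :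
    s ^ p = 1 := by
  obtain ⟨q, hq, r, hs⟩ := Sp.amb.decomp Sp.yS Sp.yQ s.2
  have hreg := CfsgLib.HallPetrescu82.isRegular_of_class_lt Sp.amb.isP hcls
  have e : s = (⟨q, Sp.amb.le hq⟩ : S) * (⟨y, Sp.yS⟩ : S) ^ r := Subtype.ext (by simpa using hs)
  have h1 : (⟨q, Sp.amb.le hq⟩ : S) ^ p ^ 1 = 1 := by rw [pow_one]; exact Subtype.ext (hQ q hq)
  have h2 : ((⟨y, Sp.yS⟩ : S) ^ r) ^ p ^ 1 = 1 := by
    rw [pow_one, ← zpow_natCast, ← zpow_mul, mul_comm, zpow_mul, zpow_natCast,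
      show (⟨y, Sp.yS⟩ : S) ^ p = 1 from Subtype.ext Sp.yp, one_zpow]
  have h3 := CfsgLib.Regular82.pow_mul_eq_one hreg h1 h2
  rw [pow_one] at h3
  rw [e]
  exact h3

/-- The frame for `|Q| = p ^ 5`. -/
theorem exists_chain (h5 : 5 ≤ p) (hk : Nat.card Q = p ^ 5) (hS : ∀ s : S, s ^ p = 1) :
    ∃ w : Fin 6 → Ω, Chain p w ∧ (∀ i, w i ∈ S) ∧ S ≤ closure (Set.range w) := by
  have h := Sp.amb
  obtain ⟨v, hv, r, hr, -, hrZ, hvr⟩ := Sp.exists_pairing hk le_rfl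
  have hrQ := Sp.Qc_le _ hr
  have hyr : ⁅y, r⁆ ∈ zpowers z := (Sp.mem_succ.mp hr).2
  have hwv := h.comm v hv r hrQ
  obtain ⟨a, ha⟩ := exists_zpow_of_gen (inv_mem hyr) (h.gen hwv hvr)
  set x := v ^ a * y with hx
  have hva : v ^ a ∈ Q := Q.zpow_mem hv a
  have hvaS := h.le hva
  have hxS : x ∈ S := S.mul_mem hvaS Sp.yS
  have hcong : ∀ q ∈ Q, ⁅x, q⁆ * ⁅y, q⁆⁻¹ ∈ zpowers z := fun q hq => by
    have hyq : ⁅y, q⁆ ∈ Q := h.comm_mem_Q Sp.yS (h.le hq)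
    rw [hx, comm_mul_left_id, conj_eq_comm_mul]
    have h1 := h.comm _ hva _ hq
    rw [mul_assoc, mul_assoc, ← mul_assoc ⁅y, q⁆, h.fix (h.le hyq) h1, mul_assoc, mul_inv_cancel, mul_one]
    exact mul_mem (h.comm _ hva _ hyq) h1
  have hxr : ⁅x, r⁆ = 1 := by
    rw [hx, comm_mul_left_id, h.conj_fix hvaS hyr, h.comm_zpow_left (h.le hv) (h.le hrQ) hwv, ha, mul_inv_cancel]
  refine Five.chain (x := x) ⟨Sp, hk, fun q hq => by
    simpa using congrArg Subtype.val (hS ⟨q, h.le hq⟩), hxS, fun hxQ => Sp.yQ ?_, by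
    simpa using congrArg Subtype.val (hS ⟨x, hxS⟩), ?_, hcong⟩ h5
  · have := Q.mul_mem (Q.inv_mem hva) hxQ
    rwa [hx, inv_mul_cancel_left] at this
  · intro r' hr'
    have hle : Qc Q z y 1 ≤ zpowers z ⊔ zpowers r :=
      (sup_eq_of_card h.isP (Sp.le_succ 0) (Sp.Qc_S 1) hr hrZ
        (by rw [Sp.cards hk 1 (by omega), Sp.cards hk 0 (by omega), ← pow_succ'])).ge
    exact (commute_of_sup (y := x) (fun w hw => (h.fix hxS hw).symm)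
      (fun w hw => commute_zpowers (commutatorElement_eq_one_iff_mul_comm.mp hxr).symm hw) (hle hr')).symm

end Spike

namespace Prl

variable {F : FusionSystem S} {g : MulAut E} (R : Prl p S Q E z F g)

include R

theorem toral {k : ℕ} (hk : Nat.card Q = p ^ k) (hk5 : 5 ≤ k) : Toral p S Q z (ap g z) k :=
  fun _ _ htt => R.exists_tau hk hk5 htt

/-- The conclusion for `E` of order `p ^ 2`. -/
theorem conclusion [Group.IsNilpotent S] :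
    (5 ≤ p ∧ Nat.card S = p ^ 6 ∧ ∃ w : Fin 6 → Ω, Chain p w ∧ (∀ i, w i ∈ S) ∧ S ≤ closure (Set.range w)) ∨
    (11 ≤ p ∧ Nat.card S = p ^ (p - 1) ∧ (∀ x : S, x ^ p = 1) ∧ Group.nilpotencyClass S = p - 2) := by
  have Sp := R.spike
  have O := R.out
  obtain ⟨k, hk, hSc, hk5⟩ := O.amb.card_S
  have hT := R.toral hk hk5
  obtain ⟨hp7, hkp⟩ := Sp.k_eq hk hk5 hT
  obtain ⟨n, hD, -⟩ := CfsgLib.Pearl.data_of_pearl O.amb.isP R.sat (by omega) R.ess (Or.inl ⟨R.card_E, fun e he =>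
    ⟨by
      obtain ⟨d, hd, i, rfl⟩ := O.decompE he
      rw [(O.cmt hd.1 (E.zpow_mem O.xE i)).mul_pow, O.amb.pow_of_mem (R.deq ▸ hd), one_mul, ← zpow_natCast,
        ← zpow_mul, mul_comm, zpow_mul, zpow_natCast, O.xp, one_zpow],
    ⟨⟨fun a b => Subtype.ext (O.abelian a.2 b.2)⟩⟩⟩⟩)
  obtain ⟨x, -, hset⟩ := hD.setting
  have hn : n = p - 1 := by
    have := Nat.pow_right_injective hp.out.two_le (hD.card.symm.trans hSc)
    omega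
  have hcls : Group.nilpotencyClass S = p - 2 := by
    have := hset.cls
    omega
  have hexp : ∀ s : S, s ^ p = 1 := Sp.pow_S (fun q hq => Sp.pow_Q hk hk5 hT hq)
    (Subgroup.lowerCentralSeries_eq_bot_iff_nilpotencyClass_le.mpr (by omega))
  by_cases h11 : 11 ≤ p
  · exact Or.inr ⟨h11, by rw [hSc, show k + 1 = p - 1 by omega], hexp, hcls⟩
  · have hp' : p = 7 := by
      have := hp.out
      interval_cases p <;> norm_num at this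
      rfl
    have hk' : k = 5 := by omega
    subst hk'
    exact Or.inl ⟨by omega, hSc, Sp.exists_chain (by omega) hk hexp⟩

end Prl

end CfsgLib.IndexExtra
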