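import Cfsg.Agent.Lib.Fusion.IndexExtra.OuterFrame
import Cfsg.Agent.Lib.Fusion.IndexExtra.PearlChain

/-!
# `E` of order `p ^ 2`: the torus of `E` extends to `S`
-/

set_option autoImplicit false

namespace CfsgLib.IndexExtra

open Cfsg Cfsg.FusionSystem CfsgLib.Fusion
open Subgroup
open scoped commutatorElement

variable {Ω : Type*} [Group Ω] {S Q E : Subgroup Ω} {p : ℕ} {z : Ω} [Finite S] [hp : Fact p.Prime]
  {F : FusionSystem S}

/-- The elements centralising `r` have index at most `p` in `Q`. -/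
theorem Amb.card_le_centralizer (h : Amb p S Q z) {r : Ω} (hr : r ∈ Q) :
    Nat.card Q ≤ p * Nat.card (Q ⊓ centralizer ({r} : Set Ω) : Subgroup Ω) := by
  have hQf := finite_sub h.le
  have hCQ : Q ⊓ centralizer ({r} : Set Ω) ≤ Q := inf_le_left
  have := finite_sub (hCQ.trans h.le)
  by_cases hall : ∀ n ∈ Q, ⁅n, r⁆ = 1
  · refine (Subgroup.card_le_of_le (K := Q ⊓ centralizer ({r} : Set Ω)) fun q hq =>
      ⟨hq, mem_centralizer_singleton_iff.mpr (commutatorElement_eq_one_iff_mul_comm.mp (hall q hq))⟩).trans ?_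
    exact Nat.le_mul_of_pos_left _ hp.out.pos
  · push Not at hall
    obtain ⟨n, hn, hnr⟩ := hall
    have hzC : z ∈ Q ⊓ centralizer ({r} : Set Ω) :=
      ⟨h.zQ, mem_centralizer_singleton_iff.mpr (h.zS r (h.le hr)).symm⟩
    have hle : Q ≤ (Q ⊓ centralizer ({r} : Set Ω)) ⊔ zpowers n := fun q hq => by
      obtain ⟨k, hk⟩ := h.exists_decomp hn hr hnr hq
      have h1 : q * n ^ k ∈ (Q ⊓ centralizer ({r} : Set Ω)) ⊔ zpowers n :=
        mem_sup_left ⟨Q.mul_mem hq (Q.zpow_mem hn k), mem_centralizer_singleton_iff.mpr hk⟩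
      have h2 := Subgroup.mul_mem _ h1 (Subgroup.inv_mem _ (mem_sup_right (zpow_mem (mem_zpowers n) k)))
      rwa [mul_inv_cancel_right] at h2
    have := finite_sub (sup_le (hCQ.trans h.le) (zpowers_le.mpr (h.le hn)) :
      (Q ⊓ centralizer ({r} : Set Ω)) ⊔ zpowers n ≤ S)
    exact (Subgroup.card_le_of_le hle).trans
      (card_sup_le hp.out.pos (h.le_normalizer_of_zle hzC hCQ hn) (Amb.zle h hzC (h.pw n hn)))

omit [Finite S] hp in
theorem ap_map_subgroup {P : Subgroup Ω} (β : MulAut P) {A : Subgroup Ω} (hA : A ≤ P) [Finite A]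
    (h : ∀ a ∈ A, ap β a ∈ A) {b : Ω} (hb : b ∈ A) : ∃ a ∈ A, ap β a = b := by
  let f : A → A := fun a => ⟨ap β a, h a a.2⟩
  have hf : Function.Injective f := fun a c e => Subtype.ext (ap_inj β (hA a.2) (hA c.2) (congrArg Subtype.val e))
  obtain ⟨a, ha⟩ := (Finite.injective_iff_surjective.mp hf) ⟨b, hb⟩
  exact ⟨a, a.2, congrArg Subtype.val ha⟩

/-- An essential subgroup of order `p ^ 2` moving the centre. -/
structure Prl (p : ℕ) (S Q E : Subgroup Ω) (z : Ω) (F : FusionSystem S) (g : MulAut E) : Prop where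
  sat : F.IsSaturated p
  ess : F.IsEssential p E
  out : Out p S Q E z (F.autGroup E) g
  deq : E ⊓ Q = Subgroup.zpowers z

namespace Prl

variable {g : MulAut E} (R : Prl p S Q E z F g)

include R

theorem spike : Spike p S Q z (ap g z) where
  amb := R.out.amb
  yS := R.out.xS
  yQ := R.out.xQ
  yp := R.out.xp
  cent q hq hc := by
    have O := R.out
    have hqE : q ∈ E := O.mov.cent q (O.amb.le hq) fun e he => by
      obtain ⟨d, hd, k, rfl⟩ := O.decompE he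
      rw [R.deq] at hd
      exact ((show Commute q d from O.amb.fix (O.amb.le hq) hd).mul_right
        ((show Commute q (ap g z) from hc).zpow_right k)).eq
    rw [← R.deq]
    exact ⟨hqE, hq⟩

theorem E_eq : E = Pc Q z (ap g z) 0 := by
  conv_lhs => rw [← R.out.xD_sup, R.deq]
  rfl

theorem card_E : Nat.card E = p ^ 2 := by
  rw [R.E_eq, R.spike.card_Pc]; simp [Qc, R.out.amb.card_Z, pow_two]

/-- The torus on `E`. -/
theorem exists_torus {t t' : ℤ} (htt : (t : ZMod p) * t' = 1) :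
    ∃ α ∈ F.autGroup E, ap α z = z ^ t ∧ ap α (ap g z) = ap g z ^ t' := by
  have O := R.out
  obtain ⟨n, hn, hnE⟩ := O.outer_exists
  have hw : ⁅n, ap g z⁆ ∈ Subgroup.zpowers z := R.deq ▸ O.w_mem hn.1 hn.2
  obtain ⟨γ, hγ⟩ := hw
  have hγ' : z ^ γ = ⁅n, ap g z⁆ := hγ
  have hγ0 : (γ : ZMod p) ≠ 0 := fun e => hnE (O.mem_of_co_zero hn.1 hn.2 (by rw [← hγ', O.co_z, e]))
  obtain ⟨d, hd, r, hr⟩ := O.decompE (ap_mem g⁻¹ O.zE)
  have hr0 : (r : ZMod p) ≠ 0 := fun e =>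
    O.none g⁻¹ ((F.autGroup E).inv_mem O.gX) (O.mov.inv_moved O.amb O.gmoved)
      (by rw [hr, O.xpow_eq_one e, mul_one]; exact hd.2)
  have hA : ∀ s : ZMod p, ∃ a ∈ F.autGroup E, ap a z = z ∧ ∃ s' : ℤ, (s' : ZMod p) = s ∧
      ap a (ap g z) = z ^ s' * ap g z := fun s => by
    set u : ℕ := (s / (γ : ZMod p)).val with hu
    obtain ⟨a, haX, -, hae⟩ := O.mov.ind (n ^ u) ⟨O.amb.le (Q.pow_mem hn.1 u), Subgroup.pow_mem _ hn.2 u⟩
    refine ⟨a, haX, by rw [hae z O.zE, O.amb.conj_fix (O.amb.le (Q.pow_mem hn.1 u)) (mem_zpowers z)], γ * u, ?_, ?_⟩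
    · push_cast; rw [hu, ZMod.natCast_zmod_val, mul_div_cancel₀ _ hγ0]
    · rw [hae _ O.xE, conj_eq_comm_mul, ← zpow_natCast n,
        O.amb.comm_zpow_left (O.amb.le hn.1) O.xS (by rw [← hγ']; exact zpow_mem (mem_zpowers z) γ), ← hγ', ← zpow_mul]
  have hB : ∀ s : ZMod p, ∃ b ∈ F.autGroup E, ap b (ap g z) = ap g z ∧ ∃ s' : ℤ, (s' : ZMod p) = s ∧
      ap b z = z * ap g z ^ s' := fun s => by
    obtain ⟨a, haX, haz, s₀, hs₀, hax⟩ := hA (s / (r : ZMod p))
    refine ⟨g * a * g⁻¹, Subgroup.mul_mem _ (Subgroup.mul_mem _ O.gX haX) (Subgroup.inv_mem _ O.gX), ?_, s₀ * r, ?_, ?_⟩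
    · rw [ap_comp _ _ O.xE, ap_inv_ap g O.zE, ap_comp _ _ O.zE, haz]
    · push_cast; rw [hs₀, div_mul_cancel₀ _ hr0]
    · have hdZ : d ∈ Subgroup.zpowers z := R.deq ▸ hd
      obtain ⟨i, hi⟩ := hdZ
      have had : ap a d = d := by rw [← hi]; show ap a (z ^ i) = z ^ i; rw [ap_zpow a O.zE, haz]
      rw [ap_comp _ _ O.zE, ap_comp _ _ (ap_mem _ O.zE), hr, ap_mul a hd.1 (E.zpow_mem O.xE r), had,
        ap_zpow a O.xE, hax, (O.cmt (E.zpow_mem O.zE s₀) O.xE).mul_zpow, ← zpow_mul,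
        (O.cmt (E.zpow_mem O.zE _) (E.zpow_mem O.xE r)).eq, ← mul_assoc, ← hr,
        ap_mul g (ap_mem _ O.zE) (E.zpow_mem O.zE _), ap_ap_inv g O.zE, ap_zpow g O.zE]
  have hW : ∀ s s' : ℤ, (s : ZMod p) * s' = 1 → ∃ w ∈ F.autGroup E,
      ap w z = ap g z ^ (-s') ∧ ap w (ap g z) = z ^ s := fun s s' hss => by
    obtain ⟨a, haX, haz, sa, hsa, hax⟩ := hA (s : ZMod p)
    obtain ⟨b, hbX, hbx, sb, hsb, hbz⟩ := hB (-(s' : ZMod p))
    refine ⟨a * b * a, Subgroup.mul_mem _ (Subgroup.mul_mem _ haX hbX) haX, ?_, ?_⟩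
    · rw [ap_comp _ _ O.zE, haz, ap_comp _ _ O.zE, hbz, ap_mul a O.zE (E.zpow_mem O.xE sb), haz, ap_zpow a O.xE, hax,
        (O.cmt (E.zpow_mem O.zE sa) O.xE).mul_zpow, ← zpow_mul, ← mul_assoc, ← zpow_one_add,
        O.zpow_eq (k := 0) (by push_cast; rw [hsa, hsb]; linear_combination -hss), zpow_zero, one_mul]
      exact O.xpow_eq (by push_cast; exact hsb)
    · rw [ap_comp _ _ O.xE, hax, ap_comp _ _ (E.mul_mem (E.zpow_mem O.zE sa) O.xE),
        ap_mul b (E.zpow_mem O.zE sa) O.xE, hbx, ap_zpow b O.zE, hbz, (O.cmt O.zE (E.zpow_mem O.xE sb)).mul_zpow,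
        ← zpow_mul, mul_assoc, ← zpow_add_one,
        O.xpow_eq (k := 0) (by push_cast; rw [hsa, hsb]; linear_combination -hss), zpow_zero, mul_one,
        ap_zpow a O.zE, haz]
      exact O.zpow_eq hsa
  obtain ⟨w₁, hw₁, w1z, w1x⟩ := hW 1 1 (by simp)
  obtain ⟨w₂, hw₂, w2z, w2x⟩ := hW (-t) (-t') (by push_cast; linear_combination htt)
  refine ⟨w₂ * w₁, Subgroup.mul_mem _ hw₂ hw₁, ?_, ?_⟩
  · rw [ap_comp _ _ O.zE, w1z, zpow_neg_one, ap_inv w₂ O.xE, w2x, zpow_neg, inv_inv]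
  · rw [ap_comp _ _ O.xE, w1x, zpow_one, w2z, neg_neg]

/-- A conjugate of a subgroup through `E` contains a spike. -/
theorem exists_spike {P : Subgroup Ω} {φ : P →* Ω} (hφ : φ ∈ F.Hom P) (hEP : E ≤ P) :
    ∃ y ∈ φ.range, Spike p S Q z y := by
  have O := R.out
  set E' := (E.subgroupOf P).map φ with hE'
  have hconj : F.IsConj E E' := isConj_map hφ hEP
  have hcen : centralizerIn S E' ≤ E' := R.ess.1.2 E' hconj
  have hE'r : E' ≤ φ.range := fun u ⟨v, _, hv⟩ => ⟨v, hv⟩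
  have hE'S : E' ≤ S := fun u hu => by
    obtain ⟨v, rfl⟩ := hE'r hu
    exact (F.le_of_mem hφ).2 v
  have hcard : Nat.card E' = p ^ 2 := by
    rw [hE', Subgroup.card_map_of_injective (F.injective_of_mem hφ),
      Nat.card_congr (Subgroup.subgroupOfEquivOfLe hEP).toEquiv, R.card_E]
  have hzE' : z ∈ E' := hcen ⟨O.amb.le O.amb.zQ, mem_centralizer_iff.mpr fun u hu => O.amb.zS u (hE'S hu)⟩
  have hcom : ∀ a ∈ E', ∀ b ∈ E', a * b = b * a := by
    rintro _ ⟨a, ha, rfl⟩ _ ⟨b, hb, rfl⟩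
    rw [← map_mul, ← map_mul]
    exact congrArg φ (Subtype.ext (O.abelian ha hb))
  have hgen : ∀ y ∈ E', y ∉ Subgroup.zpowers z → Subgroup.zpowers z ⊔ Subgroup.zpowers y = E' := fun y hy hyZ =>
    sup_eq_of_card O.amb.isP (zpowers_le.mpr hzE') hE'S hy hyZ (by rw [O.amb.card_Z, hcard, pow_two])
  obtain ⟨y, hy, hyQ⟩ : ∃ y ∈ E', y ∉ Q := by
    by_contra! hsub
    obtain ⟨e, he, heZ⟩ : ∃ e ∈ E', e ∉ Subgroup.zpowers z := by
      by_contra! h
      have := finite_sub (zpowers_le.mpr (O.amb.le O.amb.zQ) : Subgroup.zpowers z ≤ S)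
      have h1 := Subgroup.card_le_of_le (show E' ≤ Subgroup.zpowers z from h)
      rw [hcard, O.amb.card_Z] at h1
      have := hp.out.two_le
      nlinarith
    have hC : Q ⊓ centralizer ({e} : Set Ω) ≤ E' := fun c hc => hcen ⟨O.amb.le hc.1, mem_centralizer_iff.mpr
      fun u hu => commute_of_sup (y := c) (fun a ha => (O.amb.fix (O.amb.le hc.1) ha).symm)
        (fun b hb => commute_zpowers (mem_centralizer_singleton_iff.mp hc.2).symm hb) ((hgen e he heZ).symm ▸ hu)⟩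
    have := finite_sub hE'S
    obtain ⟨k, hk, -, h5⟩ := O.amb.card_S
    have h1 := (O.amb.card_le_centralizer (hsub e he)).trans (Nat.mul_le_mul_left p (Subgroup.card_le_of_le hC))
    rw [hk, hcard, ← pow_succ', Nat.pow_le_pow_iff_right hp.out.one_lt] at h1
    omega
  have hyp : y ^ p = 1 := by
    obtain ⟨v, hv, rfl⟩ := hy
    rw [← map_pow, show v ^ p = 1 from Subtype.ext ?_, map_one]
    rw [Subgroup.coe_pow, Subgroup.coe_one]
    obtain ⟨d, hd, k, hk⟩ := O.decompE (show ((v : P) : Ω) ∈ E from hv)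
    rw [hk, (O.cmt hd.1 (E.zpow_mem O.xE k)).mul_pow, O.amb.pow_of_mem (R.deq ▸ hd), one_mul, ← zpow_natCast,
      ← zpow_mul, mul_comm, zpow_mul, zpow_natCast, O.xp, one_zpow]
  refine ⟨y, hE'r hy, O.amb, hE'S hy, hyQ, hyp, fun q hq hqy => ?_⟩
  have hyZ : y ∉ Subgroup.zpowers z := fun h => hyQ (O.amb.zmem h)
  have hqE : q ∈ E' := hcen ⟨O.amb.le hq, mem_centralizer_iff.mpr fun u hu =>
    commute_of_sup (y := q) (fun a ha => (O.amb.fix (O.amb.le hq) ha).symm)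
      (fun b hb => commute_zpowers hqy.symm hb) ((hgen y hy hyZ).symm ▸ hu)⟩
  by_contra hqZ
  exact hyQ (((hgen q hqE hqZ).symm.le.trans (sup_le (zpowers_le.mpr O.amb.zQ) (zpowers_le.mpr hq))) hy)

theorem fullyNormalized {k : ℕ} (hk : Nat.card Q = p ^ k) {j : ℕ} (hj : j + 1 < k) :
    F.IsFullyNormalized (Pc Q z (ap g z) j) := by
  refine ⟨R.spike.Pc_le j, fun P' ⟨φ, hφ, hr⟩ => ?_⟩
  have hEP : E ≤ Pc Q z (ap g z) j := R.E_eq.le.trans
    (sup_le_sup_right (R.spike.mono (Nat.zero_le j)) _)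
  obtain ⟨y, hy, Sy⟩ := R.exists_spike hφ hEP
  have hP'S : P' ≤ S := hr ▸ fun u ⟨v, hv⟩ => hv ▸ (F.le_of_mem hφ).2 v
  have hcard : Nat.card P' = Nat.card (Pc Q z (ap g z) j) := by
    rw [← hr]; exact CfsgLib.Fusion.card_range hφ
  refine (Sy.card_normalizer_le hP'S (hr ▸ hy)).trans ?_
  rw [hcard, R.spike.normalizer_Pc, R.spike.card_Pc, R.spike.card_Pc, R.spike.cards hk j (by omega),
    R.spike.cards hk (j + 1) hj, ← pow_succ']

/-- The step of the extension. -/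
theorem extend_step {k : ℕ} (hk : Nat.card Q = p ^ k) {t t' : ℤ} (htt : (t : ZMod p) * t' = 1) {j : ℕ}
    (hj : j + 1 < k) : ∀ {β : MulAut (Pc Q z (ap g z) j)}, β ∈ F.autGroup (Pc Q z (ap g z) j) →
    ap β z = z ^ t → ap β (ap g z) = ap g z ^ t' →
    (∀ i ≤ j, ∀ q ∈ Qc Q z (ap g z) i, ap β q ∈ Qc Q z (ap g z) i) →
    ∃ β' : MulAut (Pc Q z (ap g z) (j + 1)), β' ∈ F.autGroup (Pc Q z (ap g z) (j + 1)) ∧
      ∀ u ∈ Pc Q z (ap g z) j, ap β' u = ap β u := by
  have O := R.out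
  have Sp := R.spike
  set x := ap g z with hxdef
  set P := Pc Q z x j with hP
  intro β hβ hz hx hinv
  have hPS : P ≤ S := Sp.Pc_le j
  have hQP : ∀ {i}, i ≤ j → Qc Q z x i ≤ P := fun {i} hi => (Sp.mono hi).trans le_sup_left
  have hxP : x ∈ P := mem_sup_right (mem_zpowers x)
  have hzP : z ∈ P := hQP (Nat.zero_le j) (mem_zpowers z)
  have : Finite P := finite_sub hPS
  have := CfsgLib.Fusion.finite_mulAut hPS
  let K' : Submonoid (MulAut P) :=
    { carrier := {a | a ∈ F.autGroup P ∧ ap a z = z ∧ ap a x * x⁻¹ ∈ Qc Q z x j ∧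
        ∀ i < j, ∀ q ∈ Qc Q z x (i + 1), q⁻¹ * ap a q ∈ Qc Q z x i}
      one_mem' := ⟨Subgroup.one_mem _, ap_id, by rw [ap_id, mul_inv_cancel]; exact one_mem _,
        fun i _ q _ => by rw [ap_id, inv_mul_cancel]; exact one_mem _⟩
      mul_mem' := fun {a b} ha hb => by
        have hpres : ∀ i ≤ j, ∀ q ∈ Qc Q z x i, ap a q ∈ Qc Q z x i := fun i hi q hq => by
          rcases i with _ | i
          · obtain ⟨l, hl⟩ := hq
            rw [← hl]
            show ap a (z ^ l) ∈ _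
            rw [ap_zpow a hzP, ha.2.1]
            exact zpow_mem (mem_zpowers z) l
          · have := mul_mem hq (Sp.le_succ i (ha.2.2.2 i (by omega) q hq))
            rwa [mul_inv_cancel_left] at this
        refine ⟨Subgroup.mul_mem _ ha.1 hb.1, by rw [ap_comp a b hzP, hb.2.1, ha.2.1], ?_, fun i hi q hq => ?_⟩
        · rw [ap_comp a b hxP]
          have e : ap a (ap b x) = ap a (ap b x * x⁻¹) * ap a x := by
            rw [← ap_mul a (hQP le_rfl hb.2.2.1) hxP, inv_mul_cancel_right]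
          rw [e, mul_assoc]
          exact mul_mem (hpres j le_rfl _ hb.2.2.1) ha.2.2.1
        · rw [ap_comp a b (hQP (by omega) hq)]
          have h1 := hb.2.2.2 i hi q hq
          have e : ap a (ap b q) = ap a q * ap a (q⁻¹ * ap b q) := by
            rw [← ap_mul a (hQP (by omega) hq) (hQP (by omega) h1), mul_inv_cancel_left]
          rw [e, ← mul_assoc]
          exact mul_mem (ha.2.2.2 i hi q hq) (hpres i (by omega) _ h1) }
  have hK'top : ∀ a : MulAut P, a ∈ K' → ∀ u ∈ P, u⁻¹ * ap a u ∈ Qc Q z x j := fun a ha u hu => by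
    let U : Subgroup Ω :=
      { carrier := {u | u ∈ P ∧ u⁻¹ * ap a u ∈ Qc Q z x j}
        one_mem' := ⟨one_mem _, by rw [ap_one_mem]; simp⟩
        mul_mem' := fun {v w} hv hw => ⟨mul_mem hv.1 hw.1, by
          rw [ap_mul a hv.1 hw.1, show (v * w)⁻¹ * (ap a v * ap a w) =
            w⁻¹ * (v⁻¹ * ap a v) * w⁻¹⁻¹ * (w⁻¹ * ap a w) by group]
          exact mul_mem (conj_mem_of_mem_normalizer (Sp.norm_S j (S.inv_mem (hPS hw.1))) hv.2) hw.2⟩
        inv_mem' := fun {v} hv => ⟨inv_mem hv.1, by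
          rw [ap_inv a hv.1, show v⁻¹⁻¹ * (ap a v)⁻¹ = v * (v⁻¹ * ap a v)⁻¹ * v⁻¹ by group]
          exact conj_mem_of_mem_normalizer (Sp.norm_S j (hPS hv.1)) (inv_mem hv.2)⟩ }
    have hle : P ≤ U := sup_le (fun q hq => ⟨hQP le_rfl hq, by
      rcases j with _ | i
      · obtain ⟨l, hl⟩ := hq
        rw [← hl]
        show (z ^ l)⁻¹ * ap a (z ^ l) ∈ _
        rw [ap_zpow a hzP, ha.2.1, inv_mul_cancel]
        exact one_mem _
      · exact Sp.le_succ i (ha.2.2.2 i (by omega) q hq)⟩) (zpowers_le.mpr ⟨hxP, by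
        have h1 := conj_mem_of_mem_normalizer (Sp.norm_S j (S.inv_mem O.xS)) ha.2.2.1
        rwa [inv_inv, mul_assoc, inv_mul_cancel_right] at h1⟩)
    exact (hle hu).2
  -- the stabiliser is a `p`-group
  have hKp : IsPGroup p (subOfMonoid K') := by
    classical
    intro a
    let L : ℕ → Subgroup P := fun i => if i ≤ j then (Qc Q z x i).subgroupOf P else ⊤
    obtain ⟨l, hl⟩ := exists_pow_eq_one_of_stabilizes (O.amb.isP.to_le hPS) (n := j + 1) L
      (fun i hi => by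
        by_cases h : i + 1 ≤ j
        · simp only [L, if_pos h, if_pos (show i ≤ j by omega)]
          exact fun u hu => Subgroup.mem_subgroupOf.mpr (Sp.le_succ i (Subgroup.mem_subgroupOf.mp hu))
        · simp only [L, if_neg h]; exact le_top)
      (by simp [L]) (α := (a : MulAut P))
      ⟨0, fun u hu => by
        simp only [L, if_pos (Nat.zero_le j), Subgroup.mem_subgroupOf] at hu
        obtain ⟨l, hl⟩ := hu
        rw [pow_zero, pow_one]
        refine Subtype.ext ?_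
        rw [← ap_of_mem (a : MulAut P) u.2, ← hl]
        show ap (a : MulAut P) (z ^ l) = z ^ l
        rw [ap_zpow _ hzP, (a.2 : (a : MulAut P) ∈ K').2.1]⟩
      (fun i hi u hu => by
        by_cases h : i + 1 ≤ j
        · simp only [L, if_pos h, if_pos (show i ≤ j by omega), Subgroup.mem_subgroupOf] at hu ⊢
          rw [Subgroup.coe_mul, Subgroup.coe_inv, ← ap_of_mem (a : MulAut P) u.2]
          exact (a.2 : (a : MulAut P) ∈ K').2.2.2 i (by omega) _ hu
        · simp only [L, if_pos (show i ≤ j by omega), Subgroup.mem_subgroupOf]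
          rw [Subgroup.coe_mul, Subgroup.coe_inv, ← ap_of_mem (a : MulAut P) u.2, show i = j by omega]
          exact hK'top _ a.2 _ u.2)
    exact ⟨l, Subtype.ext hl⟩
  have hfull := R.fullyNormalized hk hj
  obtain ⟨hA, -⟩ := fullyNormalized_good O.amb.isP R.sat hfull
  set T := autInducedBy S P with hT
  have hTK : T ≤ subOfMonoid K' := fun a ha => by
    obtain ⟨s, hs, hse⟩ := mem_autInducedBy.mp ha
    have hae : ∀ u ∈ P, ap a u = s * u * s⁻¹ := fun u hu => by rw [ap_of_mem a hu]; exact hse ⟨u, hu⟩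
    refine ⟨autInducedBy_le_autGroup hPS ha, by rw [hae z hzP, O.amb.conj_fix hs (mem_zpowers z)], ?_, fun i hi q hq => ?_⟩
    · rw [hae x hxP, conj_eq_comm_mul, mul_inv_cancel_right]
      refine Sp.Pc_inf ?_ (O.amb.comm_mem_Q hs O.xS)
      rw [commutatorElement_def, ← hae x hxP]
      exact Subgroup.mul_mem _ (ap_mem a hxP) (Subgroup.inv_mem _ hxP)
    · rw [hae q (hQP (by omega) hq), conj_eq_comm_mul]
      have hs' : s ∈ Q ⊔ Subgroup.zpowers x := (O.amb.sup_out O.xS O.xQ).symm ▸ hs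
      have h1 : ⁅q, s⁆ ∈ Qc Q z x i := by
        refine comm_mem_sup (fun b hb => Sp.norm_S i ?_) (fun b hb => Sp.zQc (O.amb.comm q (Sp.Qc_le _ hq) b hb))
          (fun b hb => ?_) hs'
        · exact (sup_le O.amb.le (zpowers_le.mpr O.xS)) hb
        · rw [zpowers_eq_closure] at hb
          refine comm_mem_closure (fun c hc => Sp.norm_S i ((closure_le S).mpr (by
            rintro _ rfl; exact O.xS) hc)) ?_ hb
          rintro _ rfl
          rw [← commutatorElement_inv]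
          exact inv_mem (Sp.mem_succ.mp hq).2
      have h2 : ⁅s, q⁆ ∈ Qc Q z x i := commutatorElement_inv q s ▸ inv_mem h1
      have h3 := conj_mem_of_mem_normalizer (Sp.norm_S i (S.inv_mem (Sp.Qc_S _ hq))) h2
      rwa [inv_inv, mul_assoc] at h3
  have hKT : subOfMonoid K' ≤ T := by
    obtain ⟨-, R', hR'⟩ := hA
    have hTi : ¬ p ∣ T.relIndex (F.autGroup P) := by
      have := R'.not_dvd_index
      rwa [hR'] at this
    obtain ⟨l, hl⟩ := hKp.index (T.subgroupOf (subOfMonoid K'))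
    have hmul := Subgroup.relIndex_mul_relIndex T (subOfMonoid K') (F.autGroup P) hTK (fun a ha => ha.1)
    have h1 : T.relIndex (subOfMonoid K') = p ^ l := hl
    have hl0 : l = 0 := by
      by_contra hne
      exact hTi (by rw [← hmul, h1]; exact (dvd_pow_self p hne).mul_right _)
    exact Subgroup.relIndex_eq_one.mp (by rw [h1, hl0, pow_zero])
  have hnorm : ∀ a ∈ T, β * a * β⁻¹ ∈ T := fun a ha => by
    obtain ⟨haX, haz, hax, has⟩ := hTK ha
    have hpre : ∀ i ≤ j, ∀ q ∈ Qc Q z x i, ∃ q' ∈ Qc Q z x i, ap β q' = q := fun i hi q hq => by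
      have := finite_sub (Sp.Qc_S i)
      exact ap_map_subgroup β (hQP hi) (hinv i hi) hq
    have hiz : ap β⁻¹ z = z ^ t' := ap_inj β (ap_mem _ hzP) (P.zpow_mem hzP t') (by
      rw [ap_ap_inv β hzP, ap_zpow β hzP, hz, ← zpow_mul,
        O.zpow_eq (k := 1) (by push_cast; linear_combination htt), zpow_one])
    have hix : ap β⁻¹ x = x ^ t := ap_inj β (ap_mem _ hxP) (P.zpow_mem hxP t) (by
      rw [ap_ap_inv β hxP, ap_zpow β hxP, hx, ← zpow_mul,
        O.xpow_eq (k := 1) (by push_cast; linear_combination htt), zpow_one])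
    refine hKT ⟨Subgroup.mul_mem _ (Subgroup.mul_mem _ hβ haX) (Subgroup.inv_mem _ hβ), ?_, ?_, fun i hi q hq => ?_⟩
    · rw [ap_comp _ _ hzP, hiz, ap_comp _ _ (P.zpow_mem hzP t'), ap_zpow a hzP, haz, ← hiz, ap_ap_inv β hzP]
    · have he := hK'top a (hTK ha) (x ^ t) (P.zpow_mem hxP t)
      rw [ap_comp _ _ hxP, hix, ap_comp _ _ (P.zpow_mem hxP t),
        show ap a (x ^ t) = x ^ t * ((x ^ t)⁻¹ * ap a (x ^ t)) from (mul_inv_cancel_left _ _).symm,
        ap_mul β (P.zpow_mem hxP t) (hQP le_rfl he), ← hix, ap_ap_inv β hxP]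
      exact conj_mem_of_mem_normalizer (Sp.norm_S j O.xS) (hinv j le_rfl _ (hix ▸ he))
    · obtain ⟨q', hq', rfl⟩ := hpre (i + 1) (by omega) q hq
      have h1 := has i hi q' hq'
      rw [ap_comp _ _ (hQP (by omega) hq), ap_inv_ap β (hQP (by omega) hq'), ap_comp _ _ (hQP (by omega) hq'),
        ← ap_inv β (hQP (by omega) hq'), ← ap_mul β (P.inv_mem (hQP (by omega) hq')) (ap_mem a (hQP (by omega) hq'))]
      exact hinv i (by omega) _ h1
  obtain ⟨β', hβ', hβe⟩ := CfsgLib.FusionTorus.exists_extend_normalizing O.amb.isP R.sat hfull hβ hnorm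
  have key : ∀ N : Subgroup Ω, N = Pc Q z x (j + 1) → ∀ γ : MulAut N, γ ∈ F.autGroup N →
      (∀ u : P, ∀ hu : (u : Ω) ∈ N, ((γ ⟨u, hu⟩ : N) : Ω) = ((β u : P) : Ω)) →
      ∃ β' : MulAut (Pc Q z x (j + 1)), β' ∈ F.autGroup (Pc Q z x (j + 1)) ∧ ∀ u ∈ P, ap β' u = ap β u := by
    rintro N rfl γ hγ hγe
    have hle : P ≤ Pc Q z x (j + 1) := sup_le_sup_right (Sp.le_succ j) _
    exact ⟨γ, hγ, fun u hu => by rw [ap_of_mem γ (hle hu), ap_of_mem β hu]; exact hγe ⟨u, hu⟩ _⟩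
  exact key _ (Sp.normalizer_Pc j) β' hβ' fun u _ => hβe u

/-- The extension carries each term of the chain into itself. -/
theorem invariant_step {k : ℕ} (hk : Nat.card Q = p ^ k) (hk5 : 5 ≤ k) {t t' : ℤ}
    (htt : (t : ZMod p) * t' = 1) {j : ℕ} (hj : j + 1 < k) : ∀ {β : MulAut (Pc Q z (ap g z) (j + 1))},
    β ∈ F.autGroup (Pc Q z (ap g z) (j + 1)) → ap β z = z ^ t → ap β (ap g z) = ap g z ^ t' →
    (∀ i ≤ j, ∀ q ∈ Qc Q z (ap g z) i, ap β q ∈ Qc Q z (ap g z) i) →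
    ∀ q ∈ Qc Q z (ap g z) (j + 1), ap β q ∈ Qc Q z (ap g z) (j + 1) := by
  have O := R.out
  have Sp := R.spike
  set x := ap g z with hxdef
  set P := Pc Q z x (j + 1) with hP
  intro β hβ hz hx hinv
  have hQP : ∀ {i}, i ≤ j + 1 → Qc Q z x i ≤ P := fun {i} hi => (Sp.mono hi).trans le_sup_left
  have hxP : x ∈ P := mem_sup_right (mem_zpowers x)
  have hzP : z ∈ P := hQP (Nat.zero_le _) (mem_zpowers z)
  intro q hq
  obtain ⟨q', hq', r, hqr⟩ := Sp.mem_Pc.mp (ap_mem β (hQP le_rfl hq))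
  rw [hqr]
  by_cases hr : (r : ZMod p) = 0
  · rwa [O.xpow_eq_one hr, mul_one]
  exfalso
  obtain ⟨m, hm⟩ : ∃ m : ℤ, (x ^ r) ^ m = x := ⟨((r : ZMod p)⁻¹).val, by
    rw [← zpow_mul, O.xpow_eq (k := 1) (by push_cast; rw [ZMod.natCast_zmod_val, mul_inv_cancel₀ hr]), zpow_one]⟩
  have hmove : ∀ c ∈ Qc Q z x 2, c ∉ Qc Q z x 1 → ⁅x, c⁆ ∉ Subgroup.zpowers z := fun c hc hc1 h =>
    hc1 (Sp.mem_succ.mpr ⟨Sp.Qc_le _ hc, h⟩)
  rcases Nat.eq_zero_or_pos j with rfl | hj1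
  · -- the second term would be conjugate to `E`
    obtain ⟨φ, hφ, -, hφe⟩ := exists_map_of_mem_autGroup (Sp.Pc_le 1) hβ
    set W := ((Qc Q z x 1).subgroupOf P).map φ with hW
    have hWc : F.IsConj (Qc Q z x 1) W := isConj_map hφ (hQP le_rfl)
    have hmemW : ∀ u ∈ Qc Q z x 1, ap β u ∈ W := fun u hu =>
      ⟨⟨u, hQP le_rfl hu⟩, hu, by rw [hφe]; exact (ap_of_mem β (hQP le_rfl hu)).symm⟩
    have hzW : z ∈ W := by
      have h1 := W.zpow_mem (hmemW z (Sp.zQc (mem_zpowers z))) t'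
      rwa [hz, ← zpow_mul, O.zpow_eq (k := 1) (by push_cast; linear_combination htt), zpow_one] at h1
    have hw : ap β q ∈ W := hmemW q hq
    have hwQ : ap β q ∉ Q := fun h => by
      rw [hqr] at h
      have h1 := Q.mul_mem (Q.inv_mem (Sp.Qc_le _ hq')) h
      rw [inv_mul_cancel_left] at h1
      obtain ⟨i, hi⟩ := Sp.ypow_Q h1
      exact hr (by rw [hi]; simp)
    obtain ⟨q₀, hq₀, i, hxq⟩ := O.amb.decomp (O.amb.le.trans le_rfl |> fun _ =>
      Sp.Pc_le 1 (ap_mem β (hQP le_rfl hq))) hwQ O.xS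
    have hq₀' : q₀⁻¹ * x ∈ W := by rw [hxdef, hxq, inv_mul_cancel_left]; exact W.zpow_mem hw i
    have hq₀P : q₀ ∈ Qc Q z x 1 := Sp.Pc_inf (by
      have : q₀ = x * (ap β q ^ i)⁻¹ := by rw [eq_mul_inv_iff_mul_eq]; exact hxq.symm
      rw [this]
      exact Subgroup.mul_mem _ hxP (Subgroup.inv_mem _ (Subgroup.zpow_mem _ (ap_mem β (hQP le_rfl hq)) i))) hq₀
    obtain ⟨n, hn, hne⟩ := Sp.exists_comm hk (i := 1) (by omega) hq₀P
    have hnS : n ∈ S := Sp.Qc_S _ hn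
    have hconj : n * x * n⁻¹ = q₀⁻¹ * x := by
      rw [conj_eq_comm_mul, ← commutatorElement_inv, hne]
    have hrange : (conjHom E n).range ≤ W := by
      rintro _ ⟨⟨e, he⟩, rfl⟩
      obtain ⟨d, hd, i, rfl⟩ := O.decompE he
      rw [CfsgLib.Fusion.conjHom_apply]
      show n * (d * x ^ i) * n⁻¹ ∈ W
      rw [← conj_mul, ← _root_.conj_zpow, hconj, O.amb.conj_fix hnS (R.deq ▸ hd)]
      exact W.mul_mem (zpowers_le.mpr hzW (R.deq ▸ hd)) (W.zpow_mem hq₀' i)
    have hEc : F.IsConj E (conjHom E n).range := ⟨_, F.conj_mem O.mov.le hnS, rfl⟩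
    have hWS : W ≤ S := fun u ⟨v, _, hv⟩ => hv ▸ (F.le_of_mem hφ).2 v
    have := finite_sub hWS
    have heq : (conjHom E n).range = W := by
      refine CfsgLib.Fusion.eq_of_le_of_card_le hrange ?_
      rw [hW, Subgroup.card_map_of_injective (F.injective_of_mem hφ),
        Nat.card_congr (Subgroup.subgroupOfEquivOfLe (hQP le_rfl : Qc Q z x 1 ≤ P)).toEquiv,
        CfsgLib.Fusion.card_range (F.conj_mem O.mov.le hnS), R.card_E, Sp.cards hk 1 (by omega)]
    have hcen := R.ess.1.2 _ (isConj_trans (heq ▸ hEc) (isConj_symm hWc))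
    have hle : Qc Q z x (k - 2) ≤ Qc Q z x 1 := fun u hu => hcen ⟨Sp.Qc_S _ hu, mem_centralizer_iff.mpr fun v hv =>
      (commutatorElement_eq_one_iff_mul_comm.mp (Sp.comm_one hk (i := k - 2) (by omega) hu hv)).symm⟩
    have := finite_sub (Sp.Qc_S 1)
    have h1 := Subgroup.card_le_of_le hle
    rw [Sp.cards hk _ (by omega), Sp.cards hk 1 (by omega), Nat.pow_le_pow_iff_right hp.out.one_lt] at h1
    omega
  have hq'Q := Sp.Qc_le _ hq'
  by_cases htop : j + 2 < k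
  · -- the image of `q` centralises the second term
    obtain ⟨r₁, hr₁, hr₁Z⟩ : ∃ r₁ ∈ Qc Q z x 1, r₁ ∉ Subgroup.zpowers z := by
      by_contra! h
      have := finite_sub (zpowers_le.mpr (O.amb.le O.amb.zQ) : Subgroup.zpowers z ≤ S)
      have h1 := Subgroup.card_le_of_le (show Qc Q z x 1 ≤ Subgroup.zpowers z from h)
      rw [Sp.cards hk 1 (by omega), O.amb.card_Z, pow_succ, pow_one] at h1
      have := hp.out.two_le
      nlinarith
    have := finite_sub (Sp.Qc_S 1)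
    obtain ⟨c, hc, hce⟩ := ap_map_subgroup β (hQP (by omega) : Qc Q z x 1 ≤ P) (hinv 1 hj1) hr₁
    have h1 : ⁅ap β q, r₁⁆ = 1 := by
      rw [← hce, ← ap_comm β (hQP le_rfl hq) (hQP (by omega) hc), Sp.comm_one hk htop hq hc, ap_one_mem]
    rw [hqr, comm_mul_left_id, Sp.comm_one hk htop hq' hr₁, mul_one] at h1
    have h2 : ⁅x ^ r, r₁⁆ = 1 := by
      have := congrArg (fun u => q'⁻¹ * u * q') h1
      simpa [mul_assoc] using this
    have h3 : Commute x r₁ := by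
      have h3 := (show Commute (x ^ r) r₁ from commutatorElement_eq_one_iff_mul_comm.mp h2).zpow_left m
      rwa [hm] at h3
    exact hr₁Z (Sp.cent r₁ (Sp.Qc_le _ hr₁) h3.symm.eq)
  · -- the image of `q` moves `Qc 2` only along the centre
    obtain ⟨c, hc, hc1⟩ : ∃ c ∈ Qc Q z x 2, c ∉ Qc Q z x 1 := by
      by_contra! h
      have := finite_sub (Sp.Qc_S 1)
      have h1 := Subgroup.card_le_of_le (show Qc Q z x 2 ≤ Qc Q z x 1 from h)
      rw [Sp.cards hk 1 (by omega), Sp.cards hk 2 (by omega), Nat.pow_le_pow_iff_right hp.out.one_lt] at h1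
      omega
    have := finite_sub (Sp.Qc_S 2)
    obtain ⟨c₀, hc₀, hc₀e⟩ := ap_map_subgroup β (hQP (by omega) : Qc Q z x 2 ≤ P) (hinv 2 (by omega)) hc
    have h1 : ⁅ap β q, c⁆ ∈ Subgroup.zpowers z := by
      rw [← hc₀e, ← ap_comm β (hQP le_rfl hq) (hQP (by omega) hc₀)]
      obtain ⟨i, hi⟩ := O.amb.comm q (Sp.Qc_le _ hq) c₀ (Sp.Qc_le _ hc₀)
      rw [← hi]
      show ap β (z ^ i) ∈ _
      rw [ap_zpow β hzP, hz]
      exact zpow_mem (zpow_mem (mem_zpowers z) t) i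
    rw [hqr, comm_mul_left_id] at h1
    have h2 := mul_mem h1 (inv_mem (O.amb.comm q' hq'Q c (Sp.Qc_le _ hc)))
    rw [mul_inv_cancel_right] at h2
    have h3 : ⁅x ^ r, c⁆ ∈ Subgroup.zpowers z := by
      have h4 := O.amb.conj_fix (S.inv_mem (O.amb.le hq'Q)) h2
      rw [inv_inv, show q'⁻¹ * (q' * ⁅x ^ r, c⁆ * q'⁻¹) * q' = ⁅x ^ r, c⁆ by group] at h4
      rw [h4]; exact h2
    refine hmove c hc hc1 ?_
    have h5 := O.amb.comm_zpow_left (S.zpow_mem O.xS r) (Sp.Qc_S _ hc) h3 m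
    rw [hm] at h5
    rw [h5]
    exact zpow_mem h3 m

/-- The torus extends to `S`. -/
theorem exists_tau {k : ℕ} (hk : Nat.card Q = p ^ k) (hk5 : 5 ≤ k) {t t' : ℤ} (htt : (t : ZMod p) * t' = 1) :
    ∃ τ : MulAut S, ap τ z = z ^ t ∧ ap τ (ap g z) = ap g z ^ t' ∧
      ∀ i, i < k → ∀ q ∈ Qc Q z (ap g z) i, ap τ q ∈ Qc Q z (ap g z) i := by
  have O := R.out
  have Sp := R.spike
  have H : ∀ j, j < k → ∃ β : MulAut (Pc Q z (ap g z) j), β ∈ F.autGroup (Pc Q z (ap g z) j) ∧ ap β z = z ^ t ∧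
      ap β (ap g z) = ap g z ^ t' ∧ ∀ i ≤ j, ∀ q ∈ Qc Q z (ap g z) i, ap β q ∈ Qc Q z (ap g z) i := by
    intro j
    induction j with
    | zero =>
      intro _
      obtain ⟨α, hα, hαz, hαx⟩ := R.exists_torus htt
      have key : ∀ N : Subgroup Ω, N = Pc Q z (ap g z) 0 → ∀ γ : MulAut N, γ ∈ F.autGroup N → ap γ z = z ^ t →
          ap γ (ap g z) = ap g z ^ t' → ∃ β : MulAut (Pc Q z (ap g z) 0), β ∈ F.autGroup (Pc Q z (ap g z) 0) ∧
            ap β z = z ^ t ∧ ap β (ap g z) = ap g z ^ t' := by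
        rintro N rfl γ h1 h2 h3
        exact ⟨γ, h1, h2, h3⟩
      obtain ⟨β, h1, h2, h3⟩ := key E R.E_eq α hα hαz hαx
      refine ⟨β, h1, h2, h3, fun i hi q hq => ?_⟩
      obtain rfl : i = 0 := by omega
      obtain ⟨l, hl⟩ := hq
      rw [← hl]
      show ap β (z ^ l) ∈ _
      rw [ap_zpow β (mem_sup_left (mem_zpowers z)), h2]
      exact zpow_mem (zpow_mem (mem_zpowers z) t) l
    | succ j ih =>
      intro hj
      obtain ⟨β, hβ, hz, hx, hinv⟩ := ih (by omega)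
      obtain ⟨β', hβ', hext⟩ := R.extend_step hk htt hj hβ hz hx hinv
      have hz' : ap β' z = z ^ t := (hext z (mem_sup_left (Sp.zQc (mem_zpowers z)))).trans hz
      have hx' : ap β' (ap g z) = ap g z ^ t' := (hext _ (mem_sup_right (mem_zpowers _))).trans hx
      have hinv' : ∀ i ≤ j, ∀ q ∈ Qc Q z (ap g z) i, ap β' q ∈ Qc Q z (ap g z) i := fun i hi q hq => by
        rw [hext q (mem_sup_left (Sp.mono hi hq))]; exact hinv i hi q hq
      refine ⟨β', hβ', hz', hx', fun i hi q hq => ?_⟩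
      rcases Nat.lt_or_eq_of_le hi with h | rfl
      · exact hinv' i (by omega) q hq
      · exact R.invariant_step hk hk5 htt hj hβ' hz' hx' hinv' q hq
  obtain ⟨β, -, hz, hx, hinv⟩ := H (k - 1) (by omega)
  have hS : Pc Q z (ap g z) (k - 1) = S := by
    rw [Pc, Sp.top_eq hk (by omega)]; exact O.amb.sup_out O.xS O.xQ
  have key : ∀ N : Subgroup Ω, N = S → ∀ γ : MulAut N, ap γ z = z ^ t → ap γ (ap g z) = ap g z ^ t' →
      (∀ i, i < k → ∀ q ∈ Qc Q z (ap g z) i, ap γ q ∈ Qc Q z (ap g z) i) →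
      ∃ τ : MulAut S, ap τ z = z ^ t ∧ ap τ (ap g z) = ap g z ^ t' ∧
        ∀ i, i < k → ∀ q ∈ Qc Q z (ap g z) i, ap τ q ∈ Qc Q z (ap g z) i := by
    rintro N rfl γ h1 h2 h3
    exact ⟨γ, h1, h2, h3⟩
  exact key _ hS β hz hx fun i hi => hinv i (by omega)

end Prl

end CfsgLib.IndexExtra
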