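import Cfsg.Agent.Lib.Fusion.IndexExtra.Mover
import Cfsg.Agent.Lib.Fusion.IndexExtra.Frame

/-!
# Small tools: powers of commutators, images under automorphisms, decompositions
-/

set_option autoImplicit false

namespace CfsgLib.IndexExtra

open Subgroup
open scoped commutatorElement

variable {Ω : Type*} [Group Ω] {S Q E : Subgroup Ω} {p : ℕ} {z : Ω}

theorem conj_zpow' (a b : Ω) (k : ℤ) : (a * b * a⁻¹) ^ k = a * b ^ k * a⁻¹ := _root_.conj_zpow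

/-- Commutation with a fixed element sends a generated subgroup into a normalised subgroup. -/
theorem comm_mem_closure {x : Ω} {N : Subgroup Ω} {T : Set Ω}
    (hN : ∀ a ∈ closure T, a ∈ normalizer (N : Set Ω)) (h : ∀ t ∈ T, ⁅x, t⁆ ∈ N) {a : Ω} (ha : a ∈ closure T) :
    ⁅x, a⁆ ∈ N := by
  induction ha using Subgroup.closure_induction with
  | mem t ht => exact h t ht
  | one => simp
  | mul a b ha _ iha ihb =>
    rw [comm_mul_right_id]
    exact N.mul_mem iha ((mem_normalizer_iff.mp (hN a ha) _).mp ihb)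
  | inv a ha iha =>
    rw [show ⁅x, a⁻¹⁆ = a⁻¹ * ⁅x, a⁆⁻¹ * a⁻¹⁻¹ by simp [commutatorElement_def, mul_assoc]]
    exact (mem_normalizer_iff.mp (hN a⁻¹ (Subgroup.inv_mem _ ha)) _).mp (N.inv_mem iha)

theorem comm_mem_sup {x : Ω} {N A B : Subgroup Ω} (hN : A ⊔ B ≤ normalizer (N : Set Ω))
    (hA : ∀ a ∈ A, ⁅x, a⁆ ∈ N) (hB : ∀ b ∈ B, ⁅x, b⁆ ∈ N) {a : Ω} (ha : a ∈ A ⊔ B) : ⁅x, a⁆ ∈ N := by
  have e : closure ((A : Set Ω) ∪ B) = A ⊔ B := by rw [Subgroup.closure_union, closure_eq, closure_eq]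
  refine comm_mem_closure (T := (A : Set Ω) ∪ B) (fun b hb => hN (e ▸ hb)) ?_ (e.symm ▸ ha)
  rintro t (ht | ht)
  · exact hA t ht
  · exact hB t ht

/-- Elements commuting on generators commute. -/
theorem commute_of_sup {A B : Subgroup Ω} {y : Ω} (hA : ∀ a ∈ A, a * y = y * a)
    (hB : ∀ b ∈ B, b * y = y * b) {a : Ω} (ha : a ∈ A ⊔ B) : a * y = y * a := by
  have hle : A ⊔ B ≤ centralizer ({y} : Set Ω) := sup_le
    (fun a ha => mem_centralizer_singleton_iff.mpr (hA a ha))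
    (fun b hb => mem_centralizer_singleton_iff.mpr (hB b hb))
  exact mem_centralizer_singleton_iff.mp (hle ha)

theorem commute_zpowers {a y : Ω} (h : a * y = y * a) {b : Ω} (hb : b ∈ zpowers a) : b * y = y * b := by
  obtain ⟨i, rfl⟩ := hb
  exact ((show Commute a y from h).zpow_left i).eq

theorem exists_mul_zpow {K : Subgroup Ω} {g a : Ω} (hg : g ∈ normalizer (K : Set Ω))
    (ha : a ∈ K ⊔ zpowers g) : ∃ k ∈ K, ∃ i : ℤ, a = k * g ^ i := by
  rw [← SetLike.mem_coe, coe_mul_of_right_le_normalizer_left _ _ (zpowers_le.mpr hg)] at ha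
  obtain ⟨u, hu, v, hv, rfl⟩ := ha
  obtain ⟨i, rfl⟩ := hv
  exact ⟨u, hu, i, rfl⟩

/-- The image of a subgroup of `E` under an automorphism of `E`. -/
noncomputable def img (g : MulAut E) (K : Subgroup Ω) : Subgroup Ω where
  carrier := {y | y ∈ E ∧ ap g⁻¹ y ∈ K}
  one_mem' := ⟨E.one_mem, by rw [ap_one_mem]; exact K.one_mem⟩
  mul_mem' := fun ha hb => ⟨E.mul_mem ha.1 hb.1, by rw [ap_mul _ ha.1 hb.1]; exact K.mul_mem ha.2 hb.2⟩
  inv_mem' := fun ha => ⟨E.inv_mem ha.1, by rw [ap_inv _ ha.1]; exact K.inv_mem ha.2⟩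

theorem mem_img {g : MulAut E} {K : Subgroup Ω} {y : Ω} : y ∈ img g K ↔ y ∈ E ∧ ap g⁻¹ y ∈ K := Iff.rfl

theorem img_le (g : MulAut E) (K : Subgroup Ω) : img g K ≤ E := fun _ h => h.1

theorem ap_mem_img (g : MulAut E) {K : Subgroup Ω} {y : Ω} (hy : y ∈ E) (hK : y ∈ K) : ap g y ∈ img g K :=
  ⟨ap_mem g hy, by rw [ap_inv_ap g hy]; exact hK⟩

theorem exists_of_mem_img {g : MulAut E} {K : Subgroup Ω} {y : Ω} (hy : y ∈ img g K) :
    ∃ d ∈ K, d ∈ E ∧ ap g d = y :=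
  ⟨_, hy.2, ap_mem _ hy.1, ap_ap_inv g hy.1⟩

theorem card_img (g : MulAut E) {K : Subgroup Ω} (hK : K ≤ E) : Nat.card (img g K) = Nat.card K :=
  Nat.card_congr
    { toFun := fun y => ⟨ap g⁻¹ y, y.2.2⟩
      invFun := fun d => ⟨ap g d, ap_mem_img g (hK d.2) d.2⟩
      left_inv := fun y => Subtype.ext (ap_ap_inv g y.2.1)
      right_inv := fun d => Subtype.ext (ap_inv_ap g (hK d.2)) }

namespace Amb

variable (h : Amb p S Q z)

include h

theorem conj_zpow_eq {a b : Ω} (ha : a ∈ S) (hb : b ∈ S) (hw : ⁅a, b⁆ ∈ zpowers z) (k : ℤ) :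
    a * b ^ k * a⁻¹ = ⁅a, b⁆ ^ k * b ^ k := by
  rw [← conj_zpow', conj_eq_comm_mul]
  exact (show Commute ⁅a, b⁆ b from (h.fix hb hw).symm).mul_zpow k

theorem comm_zpow_right {a b : Ω} (ha : a ∈ S) (hb : b ∈ S) (hw : ⁅a, b⁆ ∈ zpowers z) (k : ℤ) :
    ⁅a, b ^ k⁆ = ⁅a, b⁆ ^ k := by
  rw [commutatorElement_def, h.conj_zpow_eq ha hb hw, mul_inv_cancel_right]

theorem comm_zpow_left {a b : Ω} (ha : a ∈ S) (hb : b ∈ S) (hw : ⁅a, b⁆ ∈ zpowers z) (k : ℤ) :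
    ⁅a ^ k, b⁆ = ⁅a, b⁆ ^ k := by
  rw [← commutatorElement_inv, h.comm_zpow_right hb ha (h.comm_symm hw), ← inv_zpow, commutatorElement_inv]

theorem comm_z_right {s w : Ω} (hs : s ∈ S) (hw : w ∈ zpowers z) : ⁅s, w⁆ = 1 :=
  commutatorElement_eq_one_iff_mul_comm.mpr (h.fix hs hw)

theorem zle {K : Subgroup Ω} (hK : z ∈ K) {w : Ω} (hw : w ∈ zpowers z) : w ∈ K := zpowers_le.mpr hK hw

variable [Finite S] [hp : Fact p.Prime]

/-- Every element of `S` is a product of an element of `Q` and a power of a given element outside `Q`. -/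
theorem decomp {x s : Ω} (hx : x ∈ S) (hxQ : x ∉ Q) (hs : s ∈ S) : ∃ q ∈ Q, ∃ i : ℤ, s = q * x ^ i :=
  exists_mul_zpow (h.norm hx) (by rw [h.sup_out hx hxQ]; exact hs)

/-- Commutators of `S` lie in `Q`. -/
theorem comm_mem_Q {a b : Ω} (ha : a ∈ S) (hb : b ∈ S) : ⁅a, b⁆ ∈ Q := by
  by_cases haQ : a ∈ Q
  · rw [show ⁅a, b⁆ = a * (b * a⁻¹ * b⁻¹) by rw [commutatorElement_def]; group]
    exact Q.mul_mem haQ (conj_mem_of_mem_normalizer (h.norm hb) (Q.inv_mem haQ))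
  · obtain ⟨q, hq, i, rfl⟩ := h.decomp ha haQ hb
    have e : ⁅a, q * a ^ i⁆ = a * q * a⁻¹ * q⁻¹ := by
      rw [commutatorElement_def]
      group
    rw [e]
    exact Q.mul_mem (conj_mem_of_mem_normalizer (h.norm ha) hq) (Q.inv_mem hq)

/-- `⁅x, q⁆` commutes with whatever commutes with `x`, for `q` in `Q`. -/
theorem comm_comm_eq_one {x q r : Ω} (hx : x ∈ S) (hq : q ∈ Q) (hr : r ∈ Q) (hxr : x * r = r * x) :
    ⁅⁅x, q⁆, r⁆ = 1 := by
  have hw := h.comm q hq r hr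
  have hd : ⁅x, q⁆ ∈ Q := h.comm_mem_Q hx (h.le hq)
  have h1 : ⁅⁅x, q⁆ * q, r⁆ = ⁅q, r⁆ := by
    rw [← conj_eq_comm_mul]
    conv_rhs => rw [← h.conj_fix hx hw, conj_comm, hxr, mul_inv_cancel_right]
  rw [h.comm_mul_left (h.le hd) hw] at h1
  exact mul_eq_left.mp h1

theorem comm_pow {a : Ω} {b : Ω} (ha : a ∈ Q) (hb : b ∈ Q) : ⁅a, b⁆ ^ p = 1 := h.pow_of_mem (h.comm a ha b hb)

theorem dvd_of_zpow {w : Ω} (hw : w ^ p = 1) (hw1 : w ≠ 1) {k : ℤ} (hk : w ^ k = 1) : (p : ℤ) ∣ k := by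
  rw [← orderOf_eq_prime hw hw1]
  exact orderOf_dvd_iff_zpow_eq_one.mpr hk

end Amb

namespace Mov

variable {X : Subgroup (MulAut E)} (M : Mov p S Q E z X)

include M

theorem image_central (h : Amb p S Q z) (g : MulAut E) {e : Ω} (he : e ∈ E) : e * ap g z = ap g z * e := by
  rw [← ap_ap_inv g he, ← ap_mul g (ap_mem g⁻¹ he) M.zE, ← ap_mul g M.zE (ap_mem g⁻¹ he),
    h.zS _ (M.le (ap_mem g⁻¹ he))]

theorem image_pow (h : Amb p S Q z) (g : MulAut E) : ap g z ^ p = 1 := by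
  rw [← ap_pow g M.zE, h.zpow_p, ap_one_mem]

theorem inv_moved [Finite S] [Fact p.Prime] (h : Amb p S Q z) {g : MulAut E}
    (hg : ap g z ∉ zpowers z) : ap g⁻¹ z ∉ zpowers z := by
  intro hi
  have hne : ap g⁻¹ z ≠ 1 := fun e => h.zne (ap_inj g⁻¹ M.zE E.one_mem (e.trans (ap_one_mem g⁻¹).symm))
  obtain ⟨j, hj⟩ : z ∈ zpowers (ap g⁻¹ z) := by rw [h.gen hi hne]; exact mem_zpowers z
  refine hg ⟨j, ?_⟩
  show z ^ j = ap g z
  conv_rhs => rw [show z = ap g⁻¹ z ^ j from hj.symm, ap_zpow g (ap_mem _ M.zE), ap_ap_inv g M.zE]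

theorem inter_trivial [Finite S] [Fact p.Prime] (h : Amb p S Q z) {g : MulAut E}
    (hg : ap g z ∉ zpowers z) {w : Ω} (h1 : w ∈ zpowers z) (h2 : w ∈ zpowers (ap g z)) : w = 1 := by
  by_contra hw
  obtain ⟨i, hi⟩ := h2
  have hi' : ap g (z ^ i) = w := by rw [ap_zpow g M.zE]; exact hi
  obtain ⟨j, hj⟩ : z ∈ zpowers w := by rw [h.gen h1 hw]; exact mem_zpowers z
  refine M.inv_moved h hg ?_
  have e : ap g⁻¹ w = z ^ i := by rw [← hi', ap_inv_ap g (E.zpow_mem M.zE i)]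
  rw [show ap g⁻¹ z = ap g⁻¹ (w ^ j) from congrArg _ hj.symm, ap_zpow g⁻¹ (by rw [← hi']; exact ap_mem g (E.zpow_mem M.zE i)), e]
  exact zpow_mem (zpow_mem (mem_zpowers z) i) j

theorem exists_outer [Finite S] [Fact p.Prime] (h : Amb p S Q z) :
    ∃ n ∈ Q, n ∈ normalizer (E : Set Ω) ∧ n ∉ E := by
  obtain ⟨x, hxE, hxQ⟩ := SetLike.not_le_iff_exists.mp M.notQ
  obtain ⟨s, hs, hsE⟩ := SetLike.exists_of_lt (CfsgLib.Fusion.lt_normalizerIn h.isP le_rfl M.lt)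
  obtain ⟨q, hq, i, rfl⟩ := h.decomp (M.le hxE) hxQ hs.1
  refine ⟨q, hq, ?_, fun hqE => hsE (E.mul_mem hqE (E.zpow_mem hxE i))⟩
  have h1 : (x : Ω) ^ i ∈ normalizer (E : Set Ω) := Subgroup.le_normalizer (E.zpow_mem hxE i)
  have h2 := Subgroup.mul_mem _ hs.2 (Subgroup.inv_mem _ h1)
  rwa [mul_inv_cancel_right] at h2

/-- `E ⊓ Q` has index `p` in `E`. -/
theorem card_inf [Finite S] [Fact p.Prime] (h : Amb p S Q z) :
    Nat.card E = p * Nat.card (E ⊓ Q : Subgroup Ω) := by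
  have := finite_sub M.le
  refine card_eq_mul h.isP inf_le_left M.le (fun e => M.notQ (inf_eq_left.mp e)) ?_
  have h1 : Q.relIndex E ≤ Q.relIndex S := by
    refine Subgroup.relIndex_le_of_le_right M.le ?_
    intro h0
    have h2 := (Q.subgroupOf S).card_mul_index
    rw [show (Q.subgroupOf S).index = 0 from h0, mul_zero] at h2
    exact Nat.card_pos.ne h2
  have h2 : Q.relIndex S = p := by
    have h3 := (Q.subgroupOf S).card_mul_index
    rw [Nat.card_congr (Subgroup.subgroupOfEquivOfLe h.le).toEquiv, h.card, mul_comm p] at h3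
    have := finite_sub h.le
    exact Nat.eq_of_mul_eq_mul_left Nat.card_pos h3
  have h4 := ((E ⊓ Q).subgroupOf E).card_mul_index
  rw [Nat.card_congr (Subgroup.subgroupOfEquivOfLe (inf_le_left : E ⊓ Q ≤ E)).toEquiv] at h4
  rw [← h4, mul_comm p, show ((E ⊓ Q).subgroupOf E).index = Q.relIndex E by
    rw [← Subgroup.relIndex, Subgroup.inf_relIndex_left]]
  exact Nat.mul_le_mul_left _ (h1.trans h2.le)

end Mov

end CfsgLib.IndexExtra
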